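import Cfsg.Agent.Lib.Invol.RankOneInter.OneFactor
import Cfsg.Agent.Lib.Perm.CycStab.Reduce
import Cfsg.Agent.Lib.Coprime.Solvable
import Cfsg.Agent.Lib.Coprime.LBalance.Tools
import Cfsg.Agent.Lib.Perm.Trans.ThreeBloom.Solvable
import Cfsg.Agent.Lib.Walter.Rank.Setup

/-!
# The core of the two-part is quaternion
-/

set_option autoImplicit false
set_option linter.unusedSectionVars false
set_option linter.style.haveILetI false

namespace CfsgLib.RankOneInter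

open Subgroup CfsgLib.Invol
open scoped commutatorElement

universe u

variable {G : Type u} [Group G] [Finite G]

/-- In a solvable normal subgroup only the `2`-core centralizes the `2`-core. -/
theorem solvable_centralizing_le (hO : Cfsg.oddCore G = ⊥) {R : Subgroup G} [R.Normal]
    (hR : Group.IsSolvable ↥R) {r : G} (hr : r ∈ R) (hc : ∀ q ∈ Cfsg.pCore 2 G, Commute r q) :
    r ∈ Cfsg.pCore 2 G := by
  haveI : Fact (Nat.Prime 2) := ⟨Nat.prime_two⟩
  haveI := hR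
  haveI := CfsgLib.Coprime.pPrimeCore_characteristic (G := ↥R) 2
  haveI := CfsgLib.Coprime.pCore_characteristic (G := ↥R) 2
  have hOR : Cfsg.pPrimeCore 2 ↥R = ⊥ := by
    refine (map_eq_bot_iff_of_injective _ R.subtype_injective).1 (eq_bot_iff.2 ?_)
    rw [← hO]
    refine le_sSup ⟨inferInstance, ?_⟩
    rw [card_map_of_injective R.subtype_injective]
    exact (Nat.prime_two.coprime_iff_not_dvd.2 (CfsgLib.Coprime.pPrimeCore_not_dvd Nat.prime_two)).symm
  have hle : (Cfsg.pCore 2 ↥R).map R.subtype ≤ Cfsg.pCore 2 G :=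
    le_sSup ⟨inferInstance, (CfsgLib.Coprime.pCore_isPGroup (G := ↥R) 2).map R.subtype⟩
  have h1 : (⟨r, hr⟩ : ↥R) ∈ Cfsg.pCore 2 ↥R :=
    CfsgLib.Coprime.centralizer_pCore_le hOR (mem_centralizer_iff.2 fun x hx =>
      Subtype.ext (hc _ (hle (mem_map_of_mem _ hx))).eq.symm)
  exact hle (mem_map_of_mem _ h1)

/-- Modulo a quaternion group the intersections are cyclic. -/
theorem cycHyp_quotient (h : Hyp G) (Q : Subgroup G) [Q.Normal] (hQ2 : IsPGroup 2 Q) {n : ℕ}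
    (e : ↥Q ≃* QuaternionGroup (2 ^ (n + 1))) : CfsgLib.CycInter.Hyp (G ⧸ Q) := by
  haveI : Fact (Nat.Prime 2) := ⟨Nat.prime_two⟩
  haveI : NeZero (2 ^ (n + 1)) := ⟨by positivity⟩
  set π := QuotientGroup.mk' Q
  have hπ := QuotientGroup.mk'_surjective Q
  intro A B hAB
  obtain ⟨S₀⟩ := (inferInstance : Nonempty (Sylow 2 G))
  have hlift : ∀ C : Sylow 2 (G ⧸ Q), ∃ S : Sylow 2 G, ∀ x, π x ∈ (C : Subgroup (G ⧸ Q)) ↔ x ∈ (S : Subgroup G) := by
    intro C
    obtain ⟨g, hg⟩ := MulAction.exists_smul_eq (G ⧸ Q) (S₀.mapSurjective hπ) C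
    obtain ⟨g, rfl⟩ := hπ g
    have hC : C = (g • S₀).mapSurjective hπ := Sylow.ext (by
      rw [← hg, Sylow.coe_mapSurjective, Sylow.coe_subgroup_smul, Sylow.coe_subgroup_smul, Sylow.coe_mapSurjective]
      show ((S₀ : Subgroup G).map π).map (MulAut.conj (π g)).toMonoidHom =
        ((S₀ : Subgroup G).map (MulAut.conj g).toMonoidHom).map π
      rw [map_map, map_map]
      exact congrArg (fun f => (S₀ : Subgroup G).map f) (MonoidHom.ext fun x => by simp))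
    refine ⟨g • S₀, fun x => ?_⟩
    rw [hC, Sylow.coe_mapSurjective]
    refine ⟨?_, fun hx => mem_map_of_mem π hx⟩
    rintro ⟨s, hs, e1⟩
    have h1 : s⁻¹ * x ∈ ((g • S₀ : Sylow 2 G) : Subgroup G) := normal_le_sylow hQ2 _
      ((QuotientGroup.eq_one_iff _).1 (by
        show π _ = 1
        rw [map_mul, map_inv, e1, inv_mul_cancel]))
    simpa using mul_mem hs h1
  obtain ⟨S, hS⟩ := hlift A
  obtain ⟨T, hT⟩ := hlift B
  have hne : S ≠ T := fun e1 => hAB (Sylow.ext (Subgroup.ext fun w => by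
    obtain ⟨x, rfl⟩ := hπ w
    rw [hS, hT, e1]))
  set D := (S : Subgroup G) ⊓ (T : Subgroup G)
  have hQD : Q ≤ D := le_inf (normal_le_sylow hQ2 S) (normal_le_sylow hQ2 T)
  rcases (h.oneInvol hne).cases (S.2.to_le inf_le_left) with hcy | ⟨m, ⟨f⟩⟩
  · exfalso
    haveI := hcy
    haveI : IsCyclic ↥Q := isCyclic_of_injective (inclusion hQD) (inclusion_injective _)
    obtain ⟨z, x, hz, -, hx, hxx, hZ⟩ := quat_data e
    haveI : IsMulCommutative ↥Q := inferInstance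
    have hxz : x * x = 1 := hZ x hx fun q hq =>
      (congrArg Subtype.val (mul_comm' (⟨x, hx⟩ : ↥Q) ⟨q, hq⟩) :)
    obtain ⟨z', x', hz', ho', -⟩ := quat_data e
    have h4 : orderOf (e.symm (QuaternionGroup.xa 0)) ∣ 2 := orderOf_dvd_of_pow_eq_one (by
      rw [pow_two]
      exact Subtype.ext (hZ _ (e.symm (QuaternionGroup.xa 0)).2 fun q hq =>
        (congrArg Subtype.val (mul_comm' (e.symm (QuaternionGroup.xa 0)) ⟨q, hq⟩) :)))
    rw [MulEquiv.orderOf_eq, QuaternionGroup.orderOf_xa] at h4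
    exact absurd h4 (by norm_num)
  haveI : NeZero (2 ^ (m + 1)) := ⟨by positivity⟩
  set a : ↥D := f.symm (QuaternionGroup.a 1) with ha
  -- a reflection inside `Q`
  obtain ⟨x₀, hx₀Q, j, hj⟩ : ∃ x : ↥D, (x : G) ∈ Q ∧ ∃ j, f x = QuaternionGroup.xa j := by
    by_contra hh
    push Not at hh
    haveI : IsCyclic ↥(zpowers a) := inferInstance
    haveI : IsCyclic ↥Q := by
      refine isCyclic_of_injective (G' := ↥(zpowers a))
        (((inclusion hQD).codRestrict (zpowers a) fun q => ?_)) fun q q' e1 => ?_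
      · rcases hf : f (inclusion hQD q) with i | i
        · refine mem_zpowers_iff.2 ⟨(i.val : ℤ), f.injective ?_⟩
          rw [zpow_natCast, map_pow, ha, f.apply_symm_apply, QuaternionGroup.a_one_pow, hf, ZMod.natCast_zmod_val]
        · exact absurd hf (hh _ q.2 i)
      · exact inclusion_injective hQD (congrArg Subtype.val e1)
    obtain ⟨-, x, -, -, hx, -, hZ⟩ := quat_data e
    have h4 : orderOf (e.symm (QuaternionGroup.xa 0)) ∣ 2 := orderOf_dvd_of_pow_eq_one (by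
      rw [pow_two]
      exact Subtype.ext (hZ _ (e.symm (QuaternionGroup.xa 0)).2 fun q hq =>
        (congrArg Subtype.val (mul_comm' (e.symm (QuaternionGroup.xa 0)) ⟨q, hq⟩) :)))
    rw [MulEquiv.orderOf_eq, QuaternionGroup.orderOf_xa] at h4
    exact absurd h4 (by norm_num)
  let g : ↥(zpowers a) →* ↥((A : Subgroup (G ⧸ Q)) ⊓ (B : Subgroup (G ⧸ Q))) :=
    (π.comp (D.subtype.comp (zpowers a).subtype)).codRestrict _ fun x =>
      ⟨(hS _).2 (x : ↥D).2.1, (hT _).2 (x : ↥D).2.2⟩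
  refine isCyclic_of_surjective g fun w => ?_
  obtain ⟨x, hx⟩ := hπ w.1
  have hxD : x ∈ D := ⟨(hS x).1 (hx.symm ▸ w.2.1), (hT x).1 (hx.symm ▸ w.2.2)⟩
  have key : ∀ i, f.symm (QuaternionGroup.a i) ∈ zpowers a := fun i => by
    refine mem_zpowers_iff.2 ⟨(i.val : ℤ), f.injective ?_⟩
    rw [zpow_natCast, map_pow, ha, f.apply_symm_apply, f.apply_symm_apply, QuaternionGroup.a_one_pow,
      ZMod.natCast_zmod_val]
  rcases hf : f ⟨x, hxD⟩ with i | i
  · refine ⟨⟨⟨x, hxD⟩, ?_⟩, Subtype.ext hx⟩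
    rw [← f.symm_apply_apply ⟨x, hxD⟩, hf]
    exact key i
  · refine ⟨⟨x₀⁻¹ * ⟨x, hxD⟩, ?_⟩, Subtype.ext ?_⟩
    · have e1 : f (x₀⁻¹ * ⟨x, hxD⟩) = (QuaternionGroup.xa j)⁻¹ * QuaternionGroup.xa i := by
        rw [map_mul, map_inv, hj, hf]
      have e2 : ∃ l, (QuaternionGroup.xa j)⁻¹ * QuaternionGroup.xa i = (QuaternionGroup.a l : QuaternionGroup (2 ^ (m + 1))) :=
        ⟨i - j, by rw [inv_mul_eq_iff_eq_mul, QuaternionGroup.xa_mul_a, add_sub_cancel]⟩
      obtain ⟨l, hl⟩ := e2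
      rw [← f.symm_apply_apply (x₀⁻¹ * ⟨x, hxD⟩), e1, hl]
      exact key l
    · show π ((x₀ : G)⁻¹ * x) = w.1
      rw [map_mul, map_inv, show π (x₀ : G) = 1 from (QuotientGroup.eq_one_iff _).2 hx₀Q, inv_one, one_mul, hx]

/-- The three families, for a quotient. -/
def Bender3 (L : Type u) [Group L] : Prop :=
  (∃ (n : ℕ) (F : Type) (_ : Field F) (_ : Fintype F), 2 ≤ n ∧ Fintype.card F = 2 ^ n ∧
      Nonempty (L ≃* Matrix.ProjectiveSpecialLinearGroup (Fin 2) F)) ∨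
  (∃ (m : ℕ) (F : Type) (_ : Field F) (_ : Fintype F), 1 ≤ m ∧ Fintype.card F = 2 ^ (2 * m + 1) ∧
      Nonempty (L ≃* ↥(Cfsg.Lie.Sz F (2 ^ (m + 1))))) ∨
  (∃ (n : ℕ) (F : Type) (_ : Field F) (_ : Fintype F), 2 ≤ n ∧ Fintype.card F = 4 ^ n ∧
      Nonempty (L ≃* Cfsg.PSU 3 F (2 ^ n)))

theorem bender3_of_iso {L : Type u} [Group L] (h : CfsgLib.Gold.IsoFamilies L) : Bender3 L := by
  rcases h with ⟨F, iF, iF', ⟨n, hn, hc⟩, he⟩ | ⟨F, iF, iF', m, hm, hc, he⟩ | ⟨F, iF, iF', n, hn, hc, he⟩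
  · exact Or.inl ⟨n, F, iF, iF', hn, hc, he⟩
  · exact Or.inr (Or.inl ⟨m, F, iF, iF', hm, hc, he⟩)
  · exact Or.inr (Or.inr ⟨n, F, iF, iF', hn,
      by rw [hc, show (4 : ℕ) = 2 ^ 2 from rfl, ← pow_mul, ← pow_mul, mul_comm], he⟩)

theorem case_quat (h : Hyp G) (hns : ¬ Group.IsSolvable G) (hO : Cfsg.oddCore G = ⊥) {n : ℕ}
    (e : ↥(Cfsg.pCore 2 G) ≃* QuaternionGroup (2 ^ (n + 1))) :
    ∃ (G₁ : Subgroup G) (_ : G₁.Normal) (_ : ((Cfsg.pCore 2 G).subgroupOf G₁).Normal),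
      Odd G₁.index ∧ Cfsg.pCore 2 G ≤ G₁ ∧ Bender3 (↥G₁ ⧸ (Cfsg.pCore 2 G).subgroupOf G₁) ∧
      ∃ S : Sylow 2 G, ∃ B : Subgroup G, B ≤ (S : Subgroup G) ∧ Cfsg.IsElementaryAbelian 2 B ∧ 8 ≤ Nat.card B := by
  classical
  haveI : Fact (Nat.Prime 2) := ⟨Nat.prime_two⟩
  haveI : NeZero (2 ^ (n + 1)) := ⟨by positivity⟩
  set Q := Cfsg.pCore 2 G with hQ
  haveI hQn : Q.Normal := CfsgLib.Coprime.pCore_normal' (G := G) 2
  have hQ2 : IsPGroup 2 Q := CfsgLib.Coprime.pCore_isPGroup (G := G) 2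
  have hQS := fun S : Sylow 2 G => normal_le_sylow hQ2 S
  obtain ⟨z, x, hzQ, hz, hxQ, hxx, hZQ⟩ := quat_data e
  -- two Sylow subgroups, so one involution in `Q`
  obtain ⟨S₀, T₀, hST⟩ : ∃ S T : Sylow 2 G, S ≠ T := by
    by_contra hh
    push Not at hh
    obtain ⟨S⟩ := (inferInstance : Nonempty (Sylow 2 G))
    haveI : Subsingleton (Sylow 2 G) := ⟨hh⟩
    haveI : (S : Subgroup G).Normal := Sylow.normal_of_subsingleton S
    haveI : Group.IsNilpotent ↥(S : Subgroup G) := S.2.isNilpotent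
    haveI : Group.IsSolvable (G ⧸ (S : Subgroup G)) := Cfsg.Agent.S0205.result (by
      rw [← index_eq_card, ← Nat.not_even_iff_odd, even_iff_two_dvd]; exact S.not_dvd_index)
    exact hns (Group.isSolvable_of_ker_le_range (S : Subgroup G).subtype (QuotientGroup.mk' (S : Subgroup G))
      (by rw [QuotientGroup.ker_mk', range_subtype]))
  have hQ1 : OneInvol Q := (h.oneInvol hST).mono (le_inf (hQS S₀) (hQS T₀))
  have hzc : ∀ g : G, g * z * g⁻¹ = z := fun g => by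
    obtain ⟨c, hc, hcc⟩ : ∃ c ∈ Q, ∀ q ∈ Q, Commute q c ∧ orderOf c = 2 := by
      haveI : Nontrivial ↥Q := ⟨⟨⟨z, hzQ⟩, 1, fun e => invol_ne_one hz (congrArg Subtype.val e)⟩⟩
      obtain ⟨w, hw, hwo, hwc⟩ := exists_fixed_of_normalized (p := 2) (P := Q) hQ2 hQ2
        ((nontrivial_iff_ne_bot Q).1 ‹_›) (le_normalizer)
      exact ⟨w, hw, fun q hq => ⟨mem_centralizer_singleton_iff.1 (hwc hq), hwo⟩⟩
    have huniq : ∀ w ∈ Q, orderOf w = 2 → w = c := fun w hw hwo => hQ1 w hw c hc hwo (hcc c hc).2 (hcc w hw).1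
    rw [huniq _ (hQn.conj_mem z hzQ g) (invol_conj hz g), huniq z hzQ hz]
  have hQcomm : ∀ w ∈ Q, (∀ q ∈ Q, Commute w q) → w = 1 ∨ w = z := fun w hw hwc => by
    by_cases h1 : w = 1
    · exact Or.inl h1
    · exact Or.inr (hQ1 w hw z hzQ (invol_iff.2 ⟨hZQ w hw hwc, h1⟩) hz (hwc z hzQ))
  -- the quotient
  have hcyc := cycHyp_quotient h Q hQ2 e
  have hnsq : ¬ Group.IsSolvable (G ⧸ Q) := fun hs => by
    haveI := hs
    haveI : Group.IsNilpotent ↥Q := hQ2.isNilpotent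
    exact hns (Group.isSolvable_of_ker_le_range Q.subtype (QuotientGroup.mk' Q)
      (by rw [QuotientGroup.ker_mk', range_subtype]))
  obtain ⟨R', hR'n, hR's, hR'max⟩ := CfsgLib.Perm.CycStab.exists_radical (G ⧸ Q)
  haveI := hR'n
  obtain ⟨P', hP'n, hRn', hodd, hRP, hsimp, hnaL, -⟩ :=
    CfsgLib.CycInter.main (fun H _ _ _ hH hh => Cfsg.Agent.S3185.result hH hh) hcyc hnsq R' hR's hR'max
  haveI := hP'n
  set π := QuotientGroup.mk' Q
  have hπ := QuotientGroup.mk'_surjective Q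
  set R := R'.comap π with hR
  set P := P'.comap π with hP
  have hQR : Q ≤ R := fun w hw => by
    rw [hR, mem_comap, show π w = 1 from (QuotientGroup.eq_one_iff w).2 hw]; exact one_mem _
  have hRs : Group.IsSolvable ↥R := by
    haveI : Group.IsNilpotent ↥Q := hQ2.isNilpotent
    exact CfsgLib.Perm.CycStab.isSolvable_comap π R' (by rw [QuotientGroup.ker_mk']; infer_instance) hR's
  have hRP' : R ≤ P := comap_mono hRP
  -- the map onto the simple quotient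
  haveI := hsimp
  set L := ↥P' ⧸ R'.subgroupOf P'
  let ψ : ↥P →* L := (QuotientGroup.mk' (R'.subgroupOf P')).comp ((π.comp P.subtype).codRestrict P' fun w => w.2)
  have hψ : Function.Surjective ψ := fun l => by
    obtain ⟨⟨p, hp⟩, rfl⟩ := QuotientGroup.mk'_surjective _ l
    obtain ⟨w, rfl⟩ := hπ p
    exact ⟨⟨w, hp⟩, rfl⟩
  have hψk : ∀ w : ↥P, ψ w = 1 ↔ (w : G) ∈ R := fun w => QuotientGroup.eq_one_iff _
  have hLperf : ⁅(⊤ : Subgroup L), (⊤ : Subgroup L)⁆ = ⊤ := by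
    rcases (inferInstance : (⁅(⊤ : Subgroup L), (⊤ : Subgroup L)⁆).Normal).eq_bot_or_eq_top with e1 | e1
    · exact absurd ⟨⟨fun a b => commutatorElement_eq_one_iff_mul_comm.1
        (mem_bot.1 (e1 ▸ commutator_mem_commutator (mem_top a) (mem_top b)))⟩⟩ hnaL
    · exact e1
  obtain ⟨K₁, -, hK₁p, hK₁m⟩ := CfsgLib.Coprime.exists_perfect_le ψ (C := ⊤) hLperf
    (by rw [map_top_of_surjective _ hψ])
  set K := CfsgLib.Walter.Rank.res P with hKdef
  have hKp : ⁅K, K⁆ = K := CfsgLib.Walter.Rank.commutator_res P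
  have hKP : K ≤ P := CfsgLib.Walter.Rank.res_le P
  haveI hKn : K.Normal := ⟨fun k hk g => by
    have hle : K.map (MulAut.conj g).toMonoidHom ≤ K := CfsgLib.Walter.Rank.le_res
      (fun w hw => by
        obtain ⟨k', hk', rfl⟩ := hw
        exact (inferInstance : P.Normal).conj_mem k' (hKP hk') g)
      (by rw [← map_commutator, hKp])
    exact hle ⟨k, hk, rfl⟩⟩
  have hcov : ∀ p ∈ P, ∃ k ∈ K, k⁻¹ * p ∈ R := fun p hp => by
    obtain ⟨k, hk, hke⟩ : ψ ⟨p, hp⟩ ∈ K₁.map ψ := hK₁m.symm ▸ mem_top _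
    refine ⟨k, CfsgLib.Walter.Rank.le_res (P := K₁.map P.subtype) (map_subtype_le _)
      (by rw [← map_commutator, hK₁p]) (mem_map_of_mem _ hk), ?_⟩
    exact (hψk (k⁻¹ * ⟨p, hp⟩)).1 (by rw [map_mul, map_inv, hke, inv_mul_cancel])
  -- it centralizes `Q`
  have hKQ : ∀ k ∈ K, ∀ q ∈ Q, Commute k q := by
    haveI := hQ1.solvable_mulAut hQ2
    let c : G →* MulAut ↥Q := MulAut.conjNormal
    have h1 : K.map c = ⊥ := CfsgLib.Perm.Trans.ThreeBloom.eq_bot_of_perfect_solvable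
      (by rw [← map_commutator, hKp]) inferInstance
    intro k hk q hq
    have h2 : c k = 1 := mem_bot.1 (h1 ▸ mem_map_of_mem c hk)
    have h3 : ((c k ⟨q, hq⟩ : ↥Q) : G) = q := by rw [h2]; rfl
    rw [MulAut.conjNormal_apply] at h3
    exact mul_inv_eq_iff_eq_mul.1 h3
  have hCR : ∀ r ∈ R, (∀ q ∈ Q, Commute r q) → r ∈ Q := fun r hr hc => solvable_centralizing_le hO hRs hr hc
  -- and the radical
  have hKR : ∀ k ∈ K, ∀ r ∈ R, Commute k r := by
    have hin : ∀ k ∈ K, ∀ r ∈ R, k * r * k⁻¹ * r⁻¹ = 1 ∨ k * r * k⁻¹ * r⁻¹ = z := by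
      intro k hk r hr
      have hkk : k * (r * k⁻¹ * r⁻¹) = k * r * k⁻¹ * r⁻¹ := by group
      have hcK : k * r * k⁻¹ * r⁻¹ ∈ K := hkk ▸ mul_mem hk (hKn.conj_mem _ (inv_mem hk) r)
      have hcR : k * r * k⁻¹ * r⁻¹ ∈ R := mul_mem ((inferInstance : R.Normal).conj_mem r hr k) (inv_mem hr)
      exact hQcomm _ (hCR _ hcR (hKQ _ hcK)) (hKQ _ hcK)
    intro k hk r hr
    let f : ↥K →* G :=
      { toFun := fun k => (k : G) * r * (k : G)⁻¹ * r⁻¹
        map_one' := by simp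
        map_mul' := fun a b => by
          have hzb : ∀ g : G, g * ((b : G) * r * (b : G)⁻¹ * r⁻¹) * g⁻¹ = (b : G) * r * (b : G)⁻¹ * r⁻¹ := fun g => by
            rcases hin b b.2 r hr with e1 | e1 <;> rw [e1]
            · rw [mul_one, mul_inv_cancel]
            · exact hzc g
          show (a : G) * b * r * ((a : G) * b)⁻¹ * r⁻¹ = _
          calc (a : G) * b * r * ((a : G) * b)⁻¹ * r⁻¹
              = (a : G) * ((b : G) * r * (b : G)⁻¹ * r⁻¹) * (a : G)⁻¹ * ((a : G) * r * (a : G)⁻¹ * r⁻¹) := by group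
            _ = (b : G) * r * (b : G)⁻¹ * r⁻¹ * ((a : G) * r * (a : G)⁻¹ * r⁻¹) := by rw [hzb]
            _ = (a : G) * r * (a : G)⁻¹ * r⁻¹ * ((b : G) * r * (b : G)⁻¹ * r⁻¹) := by
              rcases hin b b.2 r hr with e1 | e1 <;> rw [e1]
              · rw [one_mul, mul_one]
              · exact (mul_inv_eq_iff_eq_mul.1 (hzc _)).symm }
    have hcom : ∀ a b : ↥K, f a * f b = f b * f a := fun a b => by
      rcases hin b b.2 r hr with e1 | e1 <;> (show f a * ((b : G) * r * (b : G)⁻¹ * r⁻¹) = (b : G) * r * (b : G)⁻¹ * r⁻¹ * f a) <;> rw [e1]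
      · rw [one_mul, mul_one]
      · exact mul_inv_eq_iff_eq_mul.1 (hzc _)
    have hker : ⁅K, K⁆ ≤ f.ker.map K.subtype := by
      rw [commutator_le]
      intro a ha b hb
      refine ⟨⁅(⟨a, ha⟩ : ↥K), ⟨b, hb⟩⁆, ?_, rfl⟩
      show f _ = 1
      rw [map_commutatorElement, commutatorElement_eq_one_iff_mul_comm]
      exact hcom _ _
    obtain ⟨w, hw, hwe⟩ := hker (hKp.symm ▸ hk)
    have h1 : f w = 1 := hw
    rw [show w = ⟨k, hk⟩ from Subtype.ext hwe] at h1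
    exact mul_inv_eq_iff_eq_mul.1 (mul_inv_eq_one.1 h1)
  -- elements of `K` with square in `Q` in two Sylow subgroups
  have hKD : ∀ S T : Sylow 2 G, S ≠ T → ∀ k ∈ K, k ∈ (S : Subgroup G) → k ∈ (T : Subgroup G) → k ∈ Q := by
    intro S T hne k hk hkS hkT
    by_contra hkQ
    obtain ⟨j, hj⟩ := S.2 ⟨k, hkS⟩
    have hex : ∃ j, k ^ 2 ^ j ∈ Q := ⟨j, by
      rw [show k ^ 2 ^ j = 1 from congrArg Subtype.val hj]; exact one_mem _⟩
    obtain ⟨i, hi⟩ := Nat.exists_eq_succ_of_ne_zero (n := Nat.find hex) fun e1 => hkQ (by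
      have := Nat.find_spec hex
      rwa [e1, pow_zero, pow_one] at this)
    refine Nat.find_min hex (show i < Nat.find hex by omega) ((h.oneInvol hne).mem_of_commute
      (le_inf (hQS S) (hQS T)) hzQ hz hxQ hxx hZQ ⟨pow_mem hkS _, pow_mem hkT _⟩ (hKQ _ (pow_mem hk _)) ?_)
    rw [← pow_two, ← pow_mul, ← pow_succ]
    have := Nat.find_spec hex
    rwa [hi] at this
  -- the radical has odd order modulo `Q`
  have hRQ : ∀ S : Sylow 2 G, ∀ r ∈ R, r ∈ (S : Subgroup G) → r ∈ Q := by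
    have hnorm : ∀ S : Sylow 2 G, ∀ r ∈ R, r • S = S := by
      intro S r hr
      by_contra hne
      obtain ⟨T, hT⟩ := CfsgLib.LS.sylow_inf_normal S P
      have hTcyc : ¬ ∀ w ∈ (S : Subgroup G), w ∈ K → w ∈ Q := by
        intro hall
        refine not_solvable_of_simple hnaL (CfsgLib.Perm.CycStab.isSolvable_of_cyclic_two (T.mapSurjective hψ) ?_)
        have hbot : ((T.mapSurjective hψ : Sylow 2 L) : Subgroup L) = ⊥ := by
          rw [Sylow.coe_mapSurjective, eq_bot_iff]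
          rintro _ ⟨t, ht, rfl⟩
          obtain ⟨k, hk, hkr⟩ := hcov t t.2
          have htS : (t : G) ∈ (S : Subgroup G) := (hT.le (mem_map_of_mem _ ht)).1
          rw [mem_bot]
          by_contra ht1
          -- a power of `t` lands in `K`
          obtain ⟨W, hW⟩ := CfsgLib.LS.sylow_inf_normal S K
          obtain ⟨U, hU⟩ := CfsgLib.LS.sylow_inf_normal S R
          have hsup : ∀ w ∈ (S : Subgroup G), w ∈ P → w ∈ (S : Subgroup G) ⊓ K ⊔ (S : Subgroup G) ⊓ R := by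
            intro w hw hwP
            rw [← CfsgLib.LS.sylow_inf_sup S (Subgroup.Normal.isSubnormal ‹K.Normal›)
              (Subgroup.Normal.isSubnormal inferInstance)]
            obtain ⟨k', hk', hkr'⟩ := hcov w hwP
            exact ⟨hw, by simpa using mul_mem (mem_sup_left (T := R) hk') (mem_sup_right hkr')⟩
          have hle : (S : Subgroup G) ⊓ K ⊔ (S : Subgroup G) ⊓ R ≤ R :=
            sup_le (fun w hw => hQR (hall w hw.1 hw.2)) inf_le_right
          exact ht1 ((hψk t).2 (hle (hsup _ htS t.2)))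
        rw [hbot]
        infer_instance
      push Not at hTcyc
      obtain ⟨w, hwS, hwK, hwQ⟩ := hTcyc
      refine hwQ (hKD (r • S) S hne w hwK ?_ hwS)
      rw [Sylow.coe_subgroup_smul, mem_smul_pointwise_iff_exists]
      exact ⟨w, hwS, by
        show r * w * r⁻¹ = w
        rw [← (hKR w hwK r hr).eq, mul_inv_cancel_right]⟩
    intro S r hr hrS
    have hall : ∀ g : G, g * r * g⁻¹ ∈ (S : Subgroup G) ⊓ R := by
      intro g
      refine ⟨?_, (inferInstance : R.Normal).conj_mem r hr g⟩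
      obtain ⟨V, hV⟩ := CfsgLib.LS.sylow_inf_normal (g • S) R
      obtain ⟨U, hU⟩ := CfsgLib.LS.sylow_inf_normal S R
      obtain ⟨c, hc⟩ := MulAction.exists_smul_eq ↥R U V
      have h1 : g * r * g⁻¹ ∈ ((g • S : Sylow 2 G) : Subgroup G) ⊓ R :=
        ⟨by
            show g * r * g⁻¹ ∈ ((g • S : Sylow 2 G) : Subgroup G)
            rw [Sylow.coe_subgroup_smul]
            exact Subgroup.smul_mem_pointwise_smul r (MulAut.conj g) _ hrS,
          (inferInstance : R.Normal).conj_mem r hr g⟩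
      obtain ⟨v, hv, hve⟩ := hV.ge h1
      rw [← hc, Sylow.coe_subgroup_smul, SetLike.mem_coe, mem_smul_pointwise_iff_exists] at hv
      obtain ⟨u, hu, hue⟩ := hv
      have h2 : (c : G) * u * (c : G)⁻¹ = g * r * g⁻¹ := by rw [← hve, ← hue]; rfl
      have h3 : (u : G) ∈ (S : Subgroup G) := (hU.le (mem_map_of_mem _ hu)).1
      rw [← h2]
      show (c : G) * u * (c : G)⁻¹ ∈ (S : Subgroup G)
      rw [← hnorm S c c.2, Sylow.coe_subgroup_smul]
      exact Subgroup.smul_mem_pointwise_smul (u : G) (MulAut.conj (c : G)) _ h3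
    have hN2 : IsPGroup 2 (normalClosure ({r} : Set G)) :=
      (S.2.to_le inf_le_left).to_le ((closure_le ((S : Subgroup G) ⊓ R)).2 fun w hw => by
        obtain ⟨a, ha, hca⟩ := Group.mem_conjugatesOfSet_iff.1 hw
        obtain ⟨g, rfl⟩ := isConj_iff.1 hca
        rw [Set.mem_singleton_iff.1 ha]
        exact hall g)
    exact (le_sSup ⟨normalClosure_normal, hN2⟩ : normalClosure ({r} : Set G) ≤ Q)
      (subset_normalClosure rfl)
  -- the subgroup
  set G₁ := K ⊔ Q with hG₁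
  haveI : G₁.Normal := by rw [hG₁]; infer_instance
  have hG₁P : G₁ ≤ P := sup_le hKP (hQR.trans hRP')
  have hdecG : ∀ w ∈ G₁, ∃ k ∈ K, ∃ q ∈ Q, k * q = w := fun w hw => by
    obtain ⟨k, hk, q, hq, e1⟩ := CfsgLib.Coprime.mem_sup_exists (N := K) (H := Q)
      (fun q _ => by rw [normalizer_eq_top]; exact mem_top q) hw
    exact ⟨k, hk, q, hq, e1.symm ▸ rfl⟩
  have hG₁R : ∀ w ∈ G₁, w ∈ R → w ∈ Q := fun w hw hwR => by
    obtain ⟨k, hk, q, hq, rfl⟩ := hdecG w hw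
    exact mul_mem (hCR k (by simpa using mul_mem hwR (inv_mem (hQR hq))) (hKQ k hk)) hq
  let φ : ↥G₁ →* L := ψ.comp (inclusion hG₁P)
  have hφ : Function.Surjective φ := fun l => by
    obtain ⟨p, rfl⟩ := hψ l
    obtain ⟨k, hk, hkr⟩ := hcov p p.2
    refine ⟨⟨k, mem_sup_left hk⟩, ?_⟩
    show ψ ⟨k, _⟩ = ψ p
    exact inv_mul_eq_one.1 (by rw [← map_inv, ← map_mul]; exact (hψk _).2 hkr)
  have hφk : Q.subgroupOf G₁ = φ.ker := by
    ext w
    rw [mem_subgroupOf, MonoidHom.mem_ker]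
    exact ⟨fun hw => (hψk _).2 (hQR hw), fun hw => hG₁R w w.2 ((hψk _).1 hw)⟩
  let eL : ↥G₁ ⧸ Q.subgroupOf G₁ ≃* L :=
    (QuotientGroup.quotientMulEquivOfEq hφk).trans (QuotientGroup.quotientKerEquivOfSurjective φ hφ)
  have hidx : Odd G₁.index := by
    rw [← Nat.not_even_iff_odd]
    intro hev
    obtain ⟨S⟩ := (inferInstance : Nonempty (Sylow 2 G))
    refine S.not_dvd_index (hev.two_dvd.trans (index_dvd_of_le ?_))
    intro s hs
    have hsP : s ∈ P := by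
      have hPodd : Odd P.index := by rw [hP, index_comap_of_surjective _ hπ]; exact hodd
      obtain ⟨j, hj⟩ := S.2 ⟨s, hs⟩
      rw [← QuotientGroup.eq_one_iff (N := P)]
      refine orderOf_eq_one_iff.1 (Nat.eq_one_of_dvd_coprimes (a := P.index) (b := 2 ^ j)
        ((Nat.coprime_two_right.2 hPodd).pow_right j) ?_ (orderOf_dvd_of_pow_eq_one ?_))
      · rw [index_eq_card]; exact orderOf_dvd_natCard _
      · rw [← QuotientGroup.mk_pow, show s ^ 2 ^ j = 1 from congrArg Subtype.val hj, QuotientGroup.mk_one]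
    obtain ⟨k, hk, hkr⟩ := hcov s hsP
    obtain ⟨j, hj⟩ := S.2 ⟨s, hs⟩
    have hpow : ∀ i, (k⁻¹ * s) ^ i ∈ G₁ ↔ s ^ i ∈ G₁ := fun i => by
      rw [← QuotientGroup.eq_one_iff (N := G₁) ((k⁻¹ * s) ^ i), ← QuotientGroup.eq_one_iff (N := G₁) (s ^ i)]
      simp [(QuotientGroup.eq_one_iff (N := G₁) k).2 (mem_sup_left hk)]
    have h1 : (k⁻¹ * s) ^ 2 ^ j ∈ Q := hG₁R _ ((hpow _).2 (by
      rw [show s ^ 2 ^ j = 1 from congrArg Subtype.val hj]; exact one_mem _)) (pow_mem hkr _)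
    obtain ⟨i, hi⟩ := hQ2 ⟨_, h1⟩
    have h2 : (k⁻¹ * s) ^ 2 ^ (j + i) = 1 := by
      rw [pow_add, pow_mul]; exact congrArg Subtype.val hi
    obtain ⟨U, hU⟩ := (show IsPGroup 2 (zpowers (k⁻¹ * s)) from fun w => ⟨j + i, Subtype.ext (by
      obtain ⟨l, hl⟩ := mem_zpowers_iff.1 w.2
      rw [SubmonoidClass.coe_pow, ← hl, ← zpow_natCast, ← zpow_mul, mul_comm, zpow_mul, zpow_natCast, h2,
        one_zpow, Subgroup.coe_one])⟩).exists_le_sylow
    simpa using mul_mem (mem_sup_left (T := Q) hk) (mem_sup_right (hRQ U _ hkr (hU (mem_zpowers _))))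
  -- the factor has trivial intersections
  haveI : IsSimpleGroup (↥G₁ ⧸ Q.subgroupOf G₁) := MulEquiv.isSimpleGroup eL
  have hnaG : ¬ IsMulCommutative (↥G₁ ⧸ Q.subgroupOf G₁) := fun hc => hnaL ⟨⟨fun a b => by
    obtain ⟨a, rfl⟩ := eL.surjective a
    obtain ⟨b, rfl⟩ := eL.surjective b
    rw [← map_mul, ← map_mul, hc.is_comm.comm a b]⟩⟩
  set σ := QuotientGroup.mk' (Q.subgroupOf G₁)
  have hσ := QuotientGroup.mk'_surjective (Q.subgroupOf G₁)
  obtain ⟨S⟩ := (inferInstance : Nonempty (Sylow 2 G))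
  obtain ⟨T, hT⟩ := CfsgLib.LS.sylow_inf_normal S G₁
  have hTmem : ∀ w : ↥G₁, w ∈ (T : Subgroup ↥G₁) ↔ (w : G) ∈ (S : Subgroup G) := fun w => by
    refine ⟨fun hw => (hT.le (mem_map_of_mem _ hw)).1, fun hw => ?_⟩
    obtain ⟨v, hv, hve⟩ := hT.ge (show (w : G) ∈ (S : Subgroup G) ⊓ G₁ from ⟨hw, w.2⟩)
    rwa [G₁.subtype_injective hve] at hv
  set TL := T.mapSurjective hσ
  have hTL : ∀ w : ↥G₁, σ w ∈ (TL : Subgroup (↥G₁ ⧸ Q.subgroupOf G₁)) ↔ (w : G) ∈ (S : Subgroup G) := fun w => by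
    rw [Sylow.coe_mapSurjective, ← hTmem]
    refine ⟨?_, fun hw => mem_map_of_mem σ hw⟩
    rintro ⟨v, hv, e1⟩
    have h0 : v⁻¹ * w ∈ Q.subgroupOf G₁ :=
      (QuotientGroup.eq_one_iff _).1 (show σ (v⁻¹ * w) = 1 by rw [map_mul, map_inv, e1, inv_mul_cancel])
    have h1 : (v⁻¹ * w : ↥G₁) ∈ (T : Subgroup ↥G₁) := (hTmem _).2 (hQS S (mem_subgroupOf.1 h0))
    simpa using mul_mem hv h1
  have hrep : ∀ w : ↥G₁, ∃ k : ↥G₁, (k : G) ∈ K ∧ σ k = σ w := fun w => by
    obtain ⟨k, hk, q, hq, e1⟩ := hdecG w w.2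
    refine ⟨⟨k, mem_sup_left hk⟩, hk, ?_⟩
    rw [show w = ⟨k, mem_sup_left hk⟩ * ⟨q, mem_sup_right hq⟩ from Subtype.ext e1.symm, map_mul,
      show σ ⟨q, mem_sup_right hq⟩ = 1 from (QuotientGroup.eq_one_iff _).2 hq, mul_one]
  have hSE : Cfsg.IsStronglyEmbedded (normalizer ((TL : Subgroup (↥G₁ ⧸ Q.subgroupOf G₁)) : Set (↥G₁ ⧸ Q.subgroupOf G₁))) := by
    have h2 : 2 ∣ Nat.card (↥G₁ ⧸ Q.subgroupOf G₁) := CfsgLib.CIT.two_dvd_card_of_simple hnaG
    refine ⟨fun e1 => ?_, ?_, fun g hg => ?_⟩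
    · rcases (normalizer_eq_top_iff.1 e1).eq_bot_or_eq_top with e2 | e2
      · exact TL.ne_bot_of_dvd_card h2 e2
      · refine not_solvable_of_simple hnaG ?_
        have hp : IsPGroup 2 (↥G₁ ⧸ Q.subgroupOf G₁) := IsPGroup.of_surjective TL.2
          ((MulEquiv.subgroupCongr e2).trans Subgroup.topEquiv).toMonoidHom
          ((MulEquiv.subgroupCongr e2).trans Subgroup.topEquiv).surjective
        haveI := hp.isNilpotent
        infer_instance
    · rw [even_iff_two_dvd]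
      refine (?_ : 2 ∣ Nat.card (TL : Subgroup (↥G₁ ⧸ Q.subgroupOf G₁))).trans (card_dvd_of_le le_normalizer)
      obtain ⟨j, hj⟩ := IsPGroup.iff_card.1 TL.2
      rw [hj]
      exact dvd_pow_self 2 fun e1 => TL.ne_bot_of_dvd_card h2 (card_eq_one.1 (by rw [hj, e1, pow_zero]))
    · rw [← Nat.not_even_iff_odd]
      intro hev
      obtain ⟨t, ⟨ht1, ht2⟩, hto⟩ := exists_invol_mem hev
      have hm1 := CfsgLib.CentInt.mem_sylow_of_normalizer_invol (S := TL) ht1 (invol_mul_self hto)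
      obtain ⟨u, hu, rfl⟩ := ht2
      have huo : u * u = 1 := (MulAut.conj g).injective (by
        rw [map_mul, map_one]; exact invol_mul_self hto)
      have hu1 := CfsgLib.CentInt.mem_sylow_of_normalizer_invol (S := TL) hu huo
      obtain ⟨g, rfl⟩ := hσ g
      obtain ⟨u, rfl⟩ := hσ u
      obtain ⟨k, hkK, hk⟩ := hrep u
      rw [← hk] at hu1 hto
      have hk1 : (k : G) ∈ (S : Subgroup G) := (hTL k).1 hu1
      have hk2 : (g : G) * k * (g : G)⁻¹ ∈ (S : Subgroup G) := by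
        have := hm1
        rw [MulEquiv.coe_toMonoidHom, MulAut.conj_apply, ← hk, ← map_inv, ← map_mul, ← map_mul] at this
        exact (hTL _).1 this
      have hne : (g : G)⁻¹ • S ≠ S := fun e1 => hg (mem_set_normalizer_iff.2 fun w => by
        obtain ⟨w, rfl⟩ := hσ w
        have h3 := mem_set_normalizer_iff.1 (inv_mem_iff.1 (Sylow.smul_eq_iff_mem_normalizer.1 e1)) (w : G)
        rw [← map_inv, ← map_mul, ← map_mul]
        exact (hTL w).trans (h3.trans (hTL (g * w * g⁻¹)).symm))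
      have hkQ := hKD _ S hne k hkK (by
        rw [Sylow.coe_subgroup_smul, mem_smul_pointwise_iff_exists]
        exact ⟨_, hk2, by show (g : G)⁻¹ * ((g : G) * k * (g : G)⁻¹) * (g : G)⁻¹⁻¹ = k; group⟩) hk1
      refine invol_ne_one hto ?_
      rw [MulEquiv.coe_toMonoidHom, show σ k = 1 from (QuotientGroup.eq_one_iff k).2 (mem_subgroupOf.2 hkQ),
        map_one]
  have hiso := CfsgLib.Bender.Suzuki.isoFamilies_of_se CfsgLib.Bender.Suzuki.classified hSE
  refine ⟨G₁, inferInstance, inferInstance, hidx, le_sup_right, bender3_of_iso hiso, S, ?_⟩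
  -- three commuting involutions
  obtain ⟨hcen, -, τ, -, htr⟩ := CfsgLib.Gold.RankOne.omega_facts inferInstance (Or.inr hiso) TL
  obtain ⟨τ', hτ'⟩ := CfsgLib.Gold.RankOne.hasTData_iso hiso TL
  obtain ⟨t₁, ht₁, t₂, ht₂, h11, h22, h1ne, h2ne, h12⟩ := hτ'.two
  have h33 : t₁ * t₂ * (t₁ * t₂) = 1 := by
    rw [(hcen t₁ ht₁ h11 t₂ ht₂).symm.mul_mul_mul_comm, h11, h22, one_mul]
  have h3ne : t₁ * t₂ ≠ 1 := fun e1 => h12 (mul_left_cancel (a := t₁) (h11.trans e1.symm))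
  obtain ⟨w₁, hw₁⟩ := hσ t₁
  obtain ⟨w₂, hw₂⟩ := hσ t₂
  obtain ⟨k₁, hk₁K, hk₁⟩ := hrep w₁
  obtain ⟨k₂, hk₂K, hk₂⟩ := hrep w₂
  rw [hw₁] at hk₁
  rw [hw₂] at hk₂
  -- squares of lifts
  have hsq : ∀ (k : ↥G₁), (k : G) ∈ K → σ k * σ k = 1 → (k : G) * k = 1 ∨ (k : G) * k = z := fun k hk hkk => by
    rw [← map_mul] at hkk
    exact hQcomm _ (mem_subgroupOf.1 ((QuotientGroup.eq_one_iff _).1 hkk) :) (hKQ _ (mul_mem hk hk))
  have hsame : ∀ (k k' : ↥G₁), (k : G) ∈ K → (k' : G) ∈ K → σ k ∈ (TL : Subgroup (↥G₁ ⧸ Q.subgroupOf G₁)) → σ k' ∈ (TL : Subgroup (↥G₁ ⧸ Q.subgroupOf G₁)) →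
      σ k * σ k = 1 → σ k' * σ k' = 1 → σ k ≠ 1 → σ k' ≠ 1 → (k : G) * k = (k' : G) * k' := by
    intro k k' hkK hk'K hk hk' hkk hkk' hk1 hk1'
    obtain ⟨i, hi⟩ := htr (σ k) hk hkk hk1 (σ k') hk' hkk' hk1'
    obtain ⟨m, hm⟩ := hσ (τ ^ i)
    rw [← hm, ← map_inv, ← map_mul, ← map_mul] at hi
    set v : G := ((m * k * m⁻¹ : ↥G₁) : G)⁻¹ * k' with hv
    have hvQ : v ∈ Q := mem_subgroupOf.1 (show (m * k * m⁻¹)⁻¹ * k' ∈ Q.subgroupOf G₁ from
      (QuotientGroup.eq_one_iff _).1 (by show σ _ = 1; rw [map_mul, map_inv, hi, inv_mul_cancel]))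
    have hvK : v ∈ K := mul_mem (inv_mem (hKn.conj_mem _ hkK (m : G))) hk'K
    have hvv : v * v = 1 := by
      rcases hQcomm v hvQ (hKQ v hvK) with e1 | e1 <;> rw [e1]
      exacts [one_mul 1, invol_mul_self hz]
    have hzv : ∀ g : G, g * v = v * g := fun g => by
      rcases hQcomm v hvQ (hKQ v hvK) with e1 | e1 <;> rw [e1]
      · rw [mul_one, one_mul]
      · exact mul_inv_eq_iff_eq_mul.1 (hzc g)
    have he : (k' : G) = (m : G) * k * (m : G)⁻¹ * v := by rw [hv, Subgroup.coe_mul, Subgroup.coe_mul, Subgroup.coe_inv]; group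
    have hkz : (m : G) * ((k : G) * k) * (m : G)⁻¹ = (k : G) * k := by
      rcases hsq k hkK hkk with e1 | e1 <;> rw [e1]
      · group
      · exact hzc _
    rw [he, Commute.mul_mul_mul_comm (show Commute v ((m : G) * k * (m : G)⁻¹) from (hzv _).symm), hvv, mul_one,
      show (m : G) * k * (m : G)⁻¹ * ((m : G) * k * (m : G)⁻¹) = (m : G) * ((k : G) * k) * (m : G)⁻¹ by group, hkz]
  have hk₁S : (k₁ : G) ∈ (S : Subgroup G) := (hTL k₁).1 (hk₁ ▸ ht₁)
  have hk₂S : (k₂ : G) ∈ (S : Subgroup G) := (hTL k₂).1 (hk₂ ▸ ht₂)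
  have hσ3 : σ (k₁ * k₂) = t₁ * t₂ := by rw [map_mul, hk₁, hk₂]
  have e12 := hsame k₁ k₂ hk₁K hk₂K (hk₁ ▸ ht₁) (hk₂ ▸ ht₂) (by rw [hk₁, h11]) (by rw [hk₂, h22])
    (hk₁ ▸ h1ne) (hk₂ ▸ h2ne)
  have e13 := hsame k₁ (k₁ * k₂) hk₁K (mul_mem hk₁K hk₂K) (hk₁ ▸ ht₁) (hσ3 ▸ mul_mem ht₁ ht₂) (by rw [hk₁, h11])
    (by rw [hσ3, h33]) (hk₁ ▸ h1ne) (hσ3 ▸ h3ne)
  rw [Subgroup.coe_mul] at e13
  -- two involutions over `t₁`, `t₂`
  obtain ⟨y₁, y₂, hy₁, hy₂, hy12, hy₁S, hy₂S, hy₁σ, hy₂σ⟩ : ∃ y₁ y₂ : ↥G₁, (y₁ : G) * y₁ = 1 ∧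
      (y₂ : G) * y₂ = 1 ∧ Commute (y₁ : G) y₂ ∧ (y₁ : G) ∈ (S : Subgroup G) ∧ (y₂ : G) ∈ (S : Subgroup G) ∧
      σ y₁ = t₁ ∧ σ y₂ = t₂ := by
    rcases hsq k₁ hk₁K (by rw [hk₁, h11]) with e1 | e1
    · refine ⟨k₁, k₂, e1, e12.symm.trans e1, ?_, hk₁S, hk₂S, hk₁, hk₂⟩
      have hi1 : ((k₁ : G))⁻¹ = k₁ := inv_eq_of_mul_eq_one_left e1
      have hi2 : ((k₂ : G))⁻¹ = k₂ := inv_eq_of_mul_eq_one_left (e12.symm.trans e1)
      show (k₁ : G) * k₂ = k₂ * k₁
      calc (k₁ : G) * k₂ = ((k₁ : G) * k₂)⁻¹ := (inv_eq_of_mul_eq_one_left (e13.symm.trans e1)).symm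
        _ = k₂ * k₁ := by rw [mul_inv_rev, hi1, hi2]
    · -- multiply by anticommuting elements of `Q`
      obtain ⟨a, b, haQ, hbQ, haa, hbb, hab⟩ : ∃ a b : G, a ∈ Q ∧ b ∈ Q ∧ a * a = z ∧ b * b = z ∧ a * b = b * a * z := by
        set N := 2 ^ (n + 1) with hN
        set i : ZMod (2 * N) := ((2 ^ n : ℕ) : ZMod (2 * N)) with hi
        have hii : i + i = ((N : ℕ) : ZMod (2 * N)) := by
          rw [hi, ← Nat.cast_add, hN, pow_succ, mul_two]
        have hNN : ((N : ℕ) : ZMod (2 * N)) + N = 0 := by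
          rw [← Nat.cast_add, ← two_mul]; exact ZMod.natCast_self _
        have hzN : (e.symm (QuaternionGroup.a (N : ZMod (2 * N))) : G) = z := by
          have hc : ∀ q ∈ Q, Commute ((e.symm (QuaternionGroup.a (N : ZMod (2 * N))) : G)) q := fun q hq => by
            show _ * q = q * _
            have h1 : QuaternionGroup.a (N : ZMod (2 * N)) * e ⟨q, hq⟩ = e ⟨q, hq⟩ * QuaternionGroup.a (N : ZMod (2 * N)) := by
              rcases e ⟨q, hq⟩ with l | l
              · rw [QuaternionGroup.a_mul_a, QuaternionGroup.a_mul_a, add_comm]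
              · rw [QuaternionGroup.a_mul_xa, QuaternionGroup.xa_mul_a, sub_eq_add_neg]
                rw [show -((N : ℕ) : ZMod (2 * N)) = N from neg_eq_of_add_eq_zero_left hNN]
            have h2 := congrArg e.symm h1
            rw [map_mul, map_mul, e.symm_apply_apply] at h2
            exact congrArg Subtype.val h2
          refine (hQcomm _ (e.symm _).2 hc).resolve_left fun h0 => ?_
          have h1 : e.symm (QuaternionGroup.a (N : ZMod (2 * N))) = 1 := Subtype.ext h0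
          rw [map_eq_one_iff _ e.symm.injective, QuaternionGroup.one_def, QuaternionGroup.a.injEq,
            ZMod.natCast_eq_zero_iff] at h1
          have h3 := Nat.le_of_dvd (by positivity) h1
          have h4 : 0 < N := by positivity
          omega
        refine ⟨e.symm (QuaternionGroup.xa 0), e.symm (QuaternionGroup.a i), (e.symm _).2, (e.symm _).2, ?_, ?_, ?_⟩
        · rw [← hzN, ← Subgroup.coe_mul, ← map_mul, QuaternionGroup.xa_mul_xa, add_sub_cancel_right]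
        · rw [← hzN, ← Subgroup.coe_mul, ← map_mul, QuaternionGroup.a_mul_a, hii]
        · rw [← hzN, ← Subgroup.coe_mul, ← Subgroup.coe_mul, ← Subgroup.coe_mul, ← map_mul, ← map_mul, ← map_mul,
            QuaternionGroup.xa_mul_a, QuaternionGroup.a_mul_xa, QuaternionGroup.xa_mul_a, zero_add, zero_sub,
            ← hii]
          congr 3
          abel
      have hk12 : (k₁ : G) * k₂ = k₂ * k₁ * z := by
        have h2 : (k₂ : G) * k₂ = z := e12.symm.trans e1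
        have h3 : (k₁ : G) * k₂ * ((k₁ : G) * k₂) = z := e13.symm.trans e1
        have hzi : z⁻¹ = z := invol_inv hz
        calc (k₁ : G) * k₂ = ((k₁ : G) * k₂ * ((k₁ : G) * k₂)) * ((k₁ : G) * k₂)⁻¹ := by group
          _ = z * ((k₂ : G)⁻¹ * (k₁ : G)⁻¹) := by rw [h3, mul_inv_rev]
          _ = z * ((k₂ * z) * (k₁ * z)) := by
            rw [inv_eq_of_mul_eq_one_right (show (k₂ : G) * (k₂ * z) = 1 by rw [← mul_assoc, h2, invol_mul_self hz]),
              inv_eq_of_mul_eq_one_right (show (k₁ : G) * (k₁ * z) = 1 by rw [← mul_assoc, e1, invol_mul_self hz])]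
          _ = k₂ * k₁ * z := by
            have hz' : ∀ g : G, Commute z g := fun g => (mul_inv_eq_iff_eq_mul.1 (hzc g)).symm
            rw [← mul_assoc z, ← mul_assoc z, (hz' k₂).eq, mul_assoc (k₂ : G) z z, invol_mul_self hz, mul_one,
              mul_assoc]
      have hz' : ∀ g : G, Commute z g := fun g => (mul_inv_eq_iff_eq_mul.1 (hzc g)).symm
      refine ⟨⟨a, mem_sup_right haQ⟩ * k₁, ⟨b, mem_sup_right hbQ⟩ * k₂, ?_, ?_, ?_, mul_mem (hQS S haQ) hk₁S,
        mul_mem (hQS S hbQ) hk₂S, ?_, ?_⟩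
      · show a * k₁ * (a * k₁) = 1
        rw [(hKQ _ hk₁K a haQ).mul_mul_mul_comm, haa, e1, invol_mul_self hz]
      · show b * k₂ * (b * k₂) = 1
        rw [(hKQ _ hk₂K b hbQ).mul_mul_mul_comm, hbb, e12.symm.trans e1, invol_mul_self hz]
      · show a * k₁ * (b * k₂) = b * k₂ * (a * k₁)
        rw [(hKQ _ hk₁K b hbQ).mul_mul_mul_comm, (hKQ _ hk₂K a haQ).mul_mul_mul_comm, hab, hk12,
          (hz' (↑k₂ * ↑k₁ : G)).symm.eq, ← mul_assoc, mul_assoc (b * a) z z, invol_mul_self hz, mul_one]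
      · rw [map_mul, show σ ⟨a, mem_sup_right haQ⟩ = 1 from (QuotientGroup.eq_one_iff _).2 haQ, one_mul, hk₁]
      · rw [map_mul, show σ ⟨b, mem_sup_right hbQ⟩ = 1 from (QuotientGroup.eq_one_iff _).2 hbQ, one_mul, hk₂]
  set zG : ↥G₁ := ⟨z, mem_sup_right hzQ⟩
  set E := closure ({zG, y₁, y₂} : Set ↥G₁) with hE
  have hzcom : ∀ g : G, Commute z g := fun g => (mul_inv_eq_iff_eq_mul.1 (hzc g)).symm
  have hEc : IsMulCommutative ↥E := isMulCommutative_closure fun u hu v hv => by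
    simp only [Set.mem_insert_iff, Set.mem_singleton_iff] at hu hv
    apply Subtype.ext
    rcases hu with rfl | rfl | rfl <;> rcases hv with rfl | rfl | rfl
    exacts [rfl, (hzcom _).eq, (hzcom _).eq, (hzcom _).eq.symm, rfl, hy12.eq, (hzcom _).eq.symm, hy12.eq.symm, rfl]
  have hEsq : ∀ u ∈ E, u * u = 1 := by
    intro u hu
    induction hu using closure_induction with
    | mem v hv =>
      simp only [Set.mem_insert_iff, Set.mem_singleton_iff] at hv
      apply Subtype.ext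
      rcases hv with rfl | rfl | rfl
      exacts [invol_mul_self hz, hy₁, hy₂]
    | one => exact one_mul 1
    | mul v w hv hw e1 e2 =>
      have hvw : Commute w v := congrArg Subtype.val (hEc.is_comm.comm ⟨w, hw⟩ ⟨v, hv⟩)
      rw [hvw.mul_mul_mul_comm, e1, e2, one_mul]
    | inv v _ e1 => rw [← mul_inv_rev, e1, inv_one]
  refine ⟨E.map G₁.subtype, ?_, ⟨map_isMulCommutative E G₁.subtype, ?_⟩, ?_⟩
  · rw [map_le_iff_le_comap, hE, closure_le]
    intro u hu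
    simp only [Set.mem_insert_iff, Set.mem_singleton_iff] at hu
    rcases hu with rfl | rfl | rfl
    exacts [hQS S hzQ, hy₁S, hy₂S]
  · rintro _ ⟨u, hu, rfl⟩
    rw [← map_pow, pow_two, hEsq u hu, map_one]
  · rw [card_map_of_injective G₁.subtype_injective]
    -- image of order at least four, kernel of order at least two
    let f : ↥E →* ↥G₁ ⧸ Q.subgroupOf G₁ := σ.comp E.subtype
    have hr : 4 ≤ Nat.card f.range := by
      have hsub : ({1, t₁, t₂, t₁ * t₂} : Set _) ⊆ (f.range : Set _) := by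
        have m1 : t₁ ∈ f.range := ⟨⟨y₁, subset_closure (by simp)⟩, hy₁σ⟩
        have m2 : t₂ ∈ f.range := ⟨⟨y₂, subset_closure (by simp)⟩, hy₂σ⟩
        intro u hu
        simp only [Set.mem_insert_iff, Set.mem_singleton_iff] at hu
        rcases hu with rfl | rfl | rfl | rfl
        exacts [one_mem _, m1, m2, mul_mem m1 m2]
      refine le_trans ?_ ((Set.ncard_le_ncard hsub (Set.toFinite _)).trans_eq (Nat.card_coe_set_eq _).symm)
      rw [Set.ncard_insert_of_notMem, Set.ncard_insert_of_notMem, Set.ncard_pair]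
      · intro e1; exact h1ne (mul_eq_right.1 e1.symm)
      · simp only [Set.mem_insert_iff, Set.mem_singleton_iff, not_or]
        exact ⟨h12, fun e1 => h2ne (mul_eq_left.1 e1.symm)⟩
      · simp only [Set.mem_insert_iff, Set.mem_singleton_iff, not_or]
        exact ⟨Ne.symm h1ne, Ne.symm h2ne, Ne.symm h3ne⟩
    have hk : 2 ≤ Nat.card f.ker := by
      rw [Nat.succ_le_iff, one_lt_card_iff_ne_bot]
      exact fun e1 => invol_ne_one hz (congrArg (fun u : ↥E => ((u : ↥G₁) : G)) (mem_bot.1 (e1 ▸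
        (show (⟨zG, subset_closure (by simp)⟩ : ↥E) ∈ f.ker from (QuotientGroup.eq_one_iff zG).2 hzQ))) :)
    calc 8 = 4 * 2 := rfl
      _ ≤ Nat.card f.range * Nat.card f.ker := Nat.mul_le_mul hr hk
      _ = Nat.card ↥E := by rw [← index_ker f, index_mul_card]

end CfsgLib.RankOneInter
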