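import Cfsg.Agent.Lib.Invol.RankOneInter.PairModel

/-!
# More than one simple factor: two copies of `SL(2, 5)` with one centre
-/

set_option autoImplicit false
set_option linter.unusedSectionVars false
set_option linter.style.haveILetI false

namespace CfsgLib.RankOneInter

open Subgroup CfsgLib.Invol
open scoped commutatorElement

universe u

namespace PairCase

variable {G : Type u} [Group G] [Finite G] {Q : Subgroup G} [Q.Normal] {K L : Subgroup (G ⧸ Q)}
  {A B : Subgroup G} {z : G}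

theorem Atom.perfect {K : Subgroup (G ⧸ Q)} (hK : Atom K) : ⁅K, K⁆ = K :=
  CfsgLib.Coprime.commutator_self_of_isComponent hK.comp

theorem Atom.conj {K : Subgroup (G ⧸ Q)} (hK : Atom K) (g : G ⧸ Q) :
    Atom (K.map (MulAut.conj g).toMonoidHom) := by
  haveI := hK.simple
  have e := K.equivMapOfInjective (MulAut.conj g).toMonoidHom (MulAut.conj g).injective
  refine ⟨hK.sub.map (MulAut.conj g).surjective, MulEquiv.isSimpleGroup e.symm, fun hc => hK.na ⟨⟨fun a b => ?_⟩⟩⟩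
  exact e.injective (by rw [map_mul, map_mul, hc.is_comm.comm (e a) (e b)])

/-- A subgroup without solvable normal subgroups around has an atom. -/
theorem exists_atom (hR : ∀ N : Subgroup G, N.Normal → Group.IsSolvable ↥N → N ≤ Q) (hQ2 : IsPGroup 2 Q)
    {N : Subgroup (G ⧸ Q)} (hN : N.IsSubnormal) (hN1 : N ≠ ⊥) : ∃ K, Atom K ∧ K ≤ N := by
  haveI : Fact (Nat.Prime 2) := ⟨Nat.prime_two⟩
  obtain ⟨K, ⟨hKs, hK1, hKN⟩, hmin⟩ := WellFounded.has_min
    (wellFounded_lt : WellFounded ((· < ·) : Subgroup (G ⧸ Q) → _ → Prop))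
    {K | K.IsSubnormal ∧ K ≠ ⊥ ∧ K ≤ N} ⟨N, hN, hN1, le_rfl⟩
  haveI : Nontrivial ↥K := (nontrivial_iff_ne_bot K).2 hK1
  have hsimp : IsSimpleGroup ↥K := ⟨fun J hJ => by
    by_contra! hh
    refine hmin (J.map K.subtype) ⟨hJ.isSubnormal.trans' hKs,
      fun e => hh.1 ((map_eq_bot_iff_of_injective _ K.subtype_injective).1 e), (map_subtype_le J).trans hKN⟩
      (lt_of_le_of_ne (map_subtype_le J) fun e => hh.2 (map_injective K.subtype_injective ?_))
    rw [e, ← MonoidHom.range_eq_map, range_subtype]⟩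
  refine ⟨K, ⟨hKs, hsimp, fun hc => hK1 ?_⟩, hKN⟩
  haveI := hc
  letI : CommGroup ↥K := { (inferInstance : Group ↥K) with mul_comm := hc.is_comm.comm }
  have hle := CfsgLib.Coprime.le_fitting_of_isSubnormal hKs (inferInstance : Group.IsNilpotent ↥K)
  refine eq_bot_iff.2 (hle.trans ?_)
  set F := Cfsg.fittingSubgroup (G ⧸ Q)
  haveI : Group.IsNilpotent ↥F := CfsgLib.Coprime.fitting_isNilpotent
  haveI : Group.IsSolvable ↥(F.comap (QuotientGroup.mk' Q)) := by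
    haveI : Group.IsNilpotent ↥Q := hQ2.isNilpotent
    let f : ↥Q →* ↥(F.comap (QuotientGroup.mk' Q)) := Subgroup.inclusion fun x hx => by
      rw [mem_comap, show QuotientGroup.mk' Q x = 1 from (QuotientGroup.eq_one_iff x).2 hx]; exact one_mem F
    let g : ↥(F.comap (QuotientGroup.mk' Q)) →* ↥F :=
      ((QuotientGroup.mk' Q).comp (F.comap (QuotientGroup.mk' Q)).subtype).codRestrict F fun x => x.2
    refine Group.isSolvable_of_ker_le_range f g fun x hx => ?_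
    rw [MonoidHom.mem_ker, Subtype.ext_iff] at hx
    exact ⟨⟨x, (QuotientGroup.eq_one_iff (x : G)).1 hx⟩, Subtype.ext rfl⟩
  haveI : F.Normal := by
    haveI := CfsgLib.Coprime.fitting_characteristic (G := G ⧸ Q)
    infer_instance
  intro x hx
  obtain ⟨a, rfl⟩ := QuotientGroup.mk'_surjective Q x
  exact mem_bot.2 ((QuotientGroup.eq_one_iff a).2 (hR (F.comap (QuotientGroup.mk' Q)) (Normal.comap inferInstance _) inferInstance hx))

/-- There are only two factors. -/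
theorem no_three (h : Hyp G) (hQ2 : IsPGroup 2 Q) (hQc : IsCyclic ↥Q) {M : Subgroup (G ⧸ Q)}
    (hK : Atom K) (hL : Atom L) (hM : Atom M) (hKL : K ≠ L) (hKM : K ≠ M) (hLM : L ≠ M) : False := by
  obtain ⟨A, hA⟩ := exists_lift hQc hK.perfect
  obtain ⟨B, hB⟩ := exists_lift hQc hL.perfect
  obtain ⟨C, hC⟩ := exists_lift hQc hM.perfect
  obtain ⟨z, d⟩ := (Two.mk h hQ2 hQc hK hL hKL hA hB).exists_z
  have d' : Two Q K M A C := ⟨h, hQ2, hQc, hK, hM, hKM, hA, hC⟩
  obtain ⟨z', d'z⟩ := d'.exists_z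
  obtain rfl := ((d.mem z').1 d'z.zQ).resolve_left (invol_ne_one d'z.hz)
  have dCB : Two Q M L C B := ⟨h, hQ2, hQc, hM, hL, hLM.symm, hC, hB⟩
  obtain ⟨R⟩ : Nonempty (Sylow 2 ↥A) := inferInstance
  obtain ⟨T⟩ : Nonempty (Sylow 2 ↥C) := inferInstance
  obtain ⟨x, -, hxx, -⟩ := d.data R
  obtain ⟨y, -, hyy, -⟩ := d'z.data' T
  have hxy := d'.commute x.2 y.2
  have hsq : (x : G) * y * ((x : G) * y) = 1 := commute_sq hxy (invol_mul_self d'z.hz) hxx hyy
  have hxQ : (x : G) * y ∈ Q := by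
    by_cases h1 : (x : G) * y = 1
    · rw [h1]; exact one_mem Q
    have ho := invol_iff.2 ⟨hsq, h1⟩
    have hP : IsPGroup 2 (zpowers ((x : G) * y) ⊔ Q : Subgroup G) := IsPGroup.to_sup_of_normal_right
      (IsPGroup.of_card (n := 1) (by rw [Nat.card_zpowers, ho, pow_one])) hQ2
    have hone := pair_oneInvol h (hB.not_solvable hL) hP (fun p hp b hb => by
      rw [← SetLike.mem_coe, mul_normal, Set.mem_mul] at hp
      obtain ⟨w, hw, q, hq, rfl⟩ := hp
      obtain ⟨i, rfl⟩ := mem_zpowers_iff.1 hw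
      exact (((d.toTwo.commute x.2 hb).mul_left (dCB.commute y.2 hb)).zpow_left i).mul_left
        (hB.cent b hb q hq).symm)
    rw [hone _ (mem_sup_left (mem_zpowers _)) z' (mem_sup_right d'z.zQ) ho d'z.hz (d'z.central _).symm]
    exact d'z.zQ
  have h1 : QuotientGroup.mk' Q (x : G) * QuotientGroup.mk' Q (y : G) = 1 := by
    rw [← map_mul]; exact (QuotientGroup.eq_one_iff _).2 hxQ
  have h2 : QuotientGroup.mk' Q (x : G) = 1 := by
    refine d'.inf (hA.map ▸ mem_map_of_mem _ x.2) ?_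
    rw [eq_inv_of_mul_eq_one_left h1]
    exact inv_mem (hC.map ▸ mem_map_of_mem (QuotientGroup.mk' Q) y.2)
  rcases (d.mem _).1 ((QuotientGroup.eq_one_iff _).1 h2) with e | e
  · exact invol_ne_one d'z.hz (by rw [← hxx, e, one_mul])
  · exact invol_ne_one d'z.hz (by rw [← hxx, e, invol_mul_self d'z.hz])

/-- A two-group normalizing a four Sylow subgroup of a factor and with one central involution there
centralizes it. -/
theorem side (hTI : TI ↥K) (hK : Atom K) {T : Sylow 2 ↥K} (hkl : IsKleinFour (T : Subgroup ↥K))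
    {S : Subgroup (G ⧸ Q)} (hTS : ∀ t ∈ (T : Subgroup ↥K), (t : G ⧸ Q) ∈ S)
    (hN : ∀ n ∈ normalizer ((T : Subgroup ↥K) : Set ↥K), (n : G ⧸ Q) ∈ normalizer (S : Set (G ⧸ Q)))
    {t : ↥K} (htT : t ∈ (T : Subgroup ↥K)) (ht : t ≠ 1) {u : G ⧸ Q} (hu : ∀ k ∈ K, Commute k u)
    (hv : ∀ s ∈ S, Commute s ((t : G ⧸ Q) * u)) :
    ∀ τ ∈ (T : Subgroup ↥K), ∀ s ∈ S, Commute s (τ : G ⧸ Q) := by
  haveI := hK.simple
  have hto := klein_invol T hkl htT ht
  have key : ∀ τ ∈ (T : Subgroup ↥K), τ ≠ 1 → ∀ s ∈ S, Commute s ((τ : G ⧸ Q) * u) := by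
    intro τ hτ hτ1 s hs
    obtain ⟨n, hn, hnt⟩ := hTI.trans hK.na T hto (klein_invol T hkl hτ hτ1) htT hτ
    have hns : (n : G ⧸ Q)⁻¹ * s * n ∈ S := (mem_normalizer_iff''.1 (hN n hn) s).1 hs
    have h1 : (τ : G ⧸ Q) * u = n * ((t : G ⧸ Q) * u) * (n : G ⧸ Q)⁻¹ := by
      rw [← hnt, Subgroup.coe_mul, Subgroup.coe_mul, Subgroup.coe_inv,
        show (n : G ⧸ Q) * ((t : G ⧸ Q) * u) * (n : G ⧸ Q)⁻¹ = n * t * (u * (n : G ⧸ Q)⁻¹) by group,
        ← (hu _ (inv_mem n.2)).eq]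
      group
    rw [h1]
    calc s * ((n : G ⧸ Q) * (t * u) * (n : G ⧸ Q)⁻¹)
        = n * ((n : G ⧸ Q)⁻¹ * s * n * (t * u)) * (n : G ⧸ Q)⁻¹ := by group
      _ = n * (t * u * ((n : G ⧸ Q)⁻¹ * s * n)) * (n : G ⧸ Q)⁻¹ := by rw [(hv _ hns).eq]
      _ = n * (t * u) * (n : G ⧸ Q)⁻¹ * s := by group
  have key2 : ∀ τ ∈ (T : Subgroup ↥K), τ ≠ 1 → τ ≠ t → ∀ s ∈ S, Commute s (τ : G ⧸ Q) := by
    intro τ hτ hτ1 hτt s hs
    have hne : τ * t ≠ 1 := fun e => hτt (by rw [eq_inv_of_mul_eq_one_left e, invol_inv hto])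
    have h1 := key (τ * t) (mul_mem hτ htT) hne s hs
    have h2 := h1.mul_right (hv s hs).inv_right
    rwa [Subgroup.coe_mul, show (τ : G ⧸ Q) * t * u * ((t : G ⧸ Q) * u)⁻¹ = τ by group] at h2
  intro τ hτ s hs
  by_cases h1 : τ = 1
  · rw [h1]; exact Commute.one_right s
  by_cases h2 : τ = t
  · obtain ⟨σ, hσ, hσ1, hσt⟩ : ∃ σ ∈ (T : Subgroup ↥K), σ ≠ 1 ∧ σ ≠ t := by
      by_contra! hall
      have hsub : ((T : Subgroup ↥K) : Set ↥K) ⊆ {1, t} := fun w hw => (em (w = 1)).imp_right fun e => hall w hw e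
      have hc := Set.ncard_le_ncard hsub (Set.toFinite _)
      rw [← Nat.card_coe_set_eq, SetLike.coe_sort_coe, hkl.card_four] at hc
      have := Set.ncard_insert_le (1 : ↥K) {t}
      rw [Set.ncard_singleton] at this
      omega
    have hne : σ * t ≠ 1 := fun e => hσt (by rw [eq_inv_of_mul_eq_one_left e, invol_inv hto])
    have hne' : σ * t ≠ t := fun e => hσ1 (mul_eq_right.1 e)
    have h3 := (key2 σ hσ hσ1 hσt s hs).inv_right.mul_right (key2 _ (mul_mem hσ htT) hne hne' s hs)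
    rw [Subgroup.coe_mul, inv_mul_cancel_left] at h3
    rwa [h2]
  · exact key2 τ hτ h1 h2 s hs

/-- An element centralizing a Sylow subgroup of a factor acts as one of its elements. -/
theorem inner_part (hK : Atom K) {T : Sylow 2 ↥K} (hkl : IsKleinFour (T : Subgroup ↥K)) {s : G ⧸ Q}
    (hsN : s ∈ normalizer (K : Set (G ⧸ Q))) {k : ℕ} (hs : s ^ 2 ^ k = 1)
    (hfix : ∀ t ∈ (T : Subgroup ↥K), Commute s (t : G ⧸ Q)) :
    ∃ g ∈ K, ∀ a ∈ K, s * a * s⁻¹ = g * a * g⁻¹ := by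
  haveI := hK.simple
  set α := K.normalizerMonoidHom ⟨s, hsN⟩ with hα
  have happ : ∀ a : ↥K, (α a : G ⧸ Q) = s * a * s⁻¹ := fun a => rfl
  obtain ⟨g, -, hg⟩ := inner_of_fix hK.na T hkl α (k := k)
    (by rw [hα, ← map_pow, show (⟨s, hsN⟩ : ↥(normalizer (K : Set (G ⧸ Q)))) ^ 2 ^ k = 1 from Subtype.ext hs, map_one])
    fun t ht => Subtype.ext (by rw [happ, (hfix t ht).eq, mul_inv_cancel_right])
  exact ⟨g, g.2, fun a ha => by rw [← happ ⟨a, ha⟩, hg]; rfl⟩

end PairCase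

open PairCase in
/-- If no simple factor has trivial centralizer then `G` has a normal subgroup of odd index that is a
central product of two copies of `SL(2, 5)`. -/
theorem pair_case {G : Type u} [Group G] [Finite G] (h : Hyp G) (hns : ¬ Group.IsSolvable G) (Q : Subgroup G)
    [Q.Normal] (hQ2 : IsPGroup 2 Q) (hQc : IsCyclic ↥Q)
    (hR : ∀ N : Subgroup G, N.Normal → Group.IsSolvable ↥N → N ≤ Q)
    (hnot : ∀ (M : Subgroup G) [M.Normal], Q ≤ M → IsSimpleGroup (↥M ⧸ Q.subgroupOf M) →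
      (∀ g : G, (∀ k ∈ M, g * k * g⁻¹ * k⁻¹ ∈ Q) → g ∈ Q) → False) :
    ∃ (G₁ : Subgroup G) (_ : G₁.Normal) (Z : Subgroup (SL25 × SL25)) (_ : Z.Normal),
      Z = Subgroup.zpowers ((-1 : SL25), (-1 : SL25)) ∧ Odd G₁.index ∧ Nonempty (↥G₁ ≃* (SL25 × SL25) ⧸ Z) := by
  classical
  haveI : Fact (Nat.Prime 2) := ⟨Nat.prime_two⟩
  set π := QuotientGroup.mk' Q with hπdef
  have hπ := QuotientGroup.mk'_surjective Q
  haveI : Group.IsNilpotent ↥Q := hQ2.isNilpotent
  have htop : (⊤ : Subgroup (G ⧸ Q)) ≠ ⊥ := fun e => by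
    refine hns (Group.isSolvable_of_ker_le_range Q.subtype (1 : G →* Unit) fun x _ => ?_)
    have h1 : π x = 1 := mem_bot.1 (e ▸ mem_top (π x))
    exact ⟨⟨x, (QuotientGroup.eq_one_iff x).1 h1⟩, rfl⟩
  obtain ⟨K, hK, -⟩ := exists_atom hR hQ2 (Subgroup.Normal.isSubnormal inferInstance) htop
  have hcj : ∀ (g : G ⧸ Q) {M : Subgroup (G ⧸ Q)} {k : G ⧸ Q}, k ∈ M →
      g * k * g⁻¹ ∈ M.map (MulAut.conj g).toMonoidHom := fun g M k hk => ⟨k, hk, rfl⟩
  obtain ⟨L, hL, hKL⟩ : ∃ L, Atom L ∧ K ≠ L := by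
    by_contra! hall
    haveI hKn : K.Normal := ⟨fun k hk g => by rw [hall _ (hK.conj g)]; exact hcj g hk⟩
    haveI := hK.simple
    have hC : centralizer (K : Set (G ⧸ Q)) = ⊥ := by
      by_contra hC1
      obtain ⟨L, hL, hLC⟩ := exists_atom hR hQ2
        (Subgroup.Normal.isSubnormal (inferInstance : (centralizer (K : Set (G ⧸ Q))).Normal)) hC1
      rw [← hall L hL] at hLC
      exact hK.na ⟨⟨fun a b => Subtype.ext (mem_centralizer_iff.1 (hLC b.2) a a.2)⟩⟩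
    set M := K.comap π
    have hQM : Q ≤ M := fun x hx => by
      show π x ∈ K
      rw [show π x = 1 from (QuotientGroup.eq_one_iff x).2 hx]; exact one_mem K
    let ρ : ↥M →* ↥K := (π.comp M.subtype).codRestrict K fun x => x.2
    have hρ : Function.Surjective ρ := fun n => by
      obtain ⟨g, hg⟩ := hπ n.1
      exact ⟨⟨g, show π g ∈ K from hg.symm ▸ n.2⟩, Subtype.ext hg⟩
    have hker : Q.subgroupOf M = ρ.ker := by
      ext x
      rw [mem_subgroupOf, MonoidHom.mem_ker, Subtype.ext_iff]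
      exact (QuotientGroup.eq_one_iff (x : G)).symm
    refine hnot M hQM (MulEquiv.isSimpleGroup ((QuotientGroup.quotientMulEquivOfEq hker).trans
      (QuotientGroup.quotientKerEquivOfSurjective ρ hρ))) fun g hg => ?_
    refine (QuotientGroup.eq_one_iff g).1 (mem_bot.1 (hC.le (mem_centralizer_iff.2 fun k hk => ?_)))
    obtain ⟨k', rfl⟩ := hπ k
    have h1 : π (g * k' * g⁻¹ * k'⁻¹) = 1 := (QuotientGroup.eq_one_iff _).2 (hg k' hk)
    rw [map_mul, map_mul, map_mul, map_inv, map_inv, mul_inv_eq_one, mul_inv_eq_iff_eq_mul] at h1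
    exact h1.symm
  have hthree : ∀ M, Atom M → M = K ∨ M = L := fun M hM => by
    by_contra! hne
    exact no_three h hQ2 hQc hK hL hM hKL hne.1.symm hne.2.symm
  obtain ⟨A, hA⟩ := exists_lift hQc hK.perfect
  obtain ⟨B, hB⟩ := exists_lift hQc hL.perfect
  obtain ⟨z, d⟩ := (Two.mk h hQ2 hQc hK hL hKL hA hB).exists_z
  have hcom : ∀ a ∈ A, ∀ b ∈ B, Commute a b := fun a ha b hb => d.toTwo.commute ha hb
  set G₁ := A ⊔ B with hG₁
  have hQA : Q ≤ A := fun q hq => by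
    rcases (d.mem q).1 hq with rfl | rfl
    exacts [one_mem A, d.zA]
  have hsplit : ∀ x ∈ G₁, ∃ a ∈ A, ∃ b ∈ B, x = a * b := by
    intro x hx
    have hle : A ≤ normalizer (B : Set G) := fun a ha => mem_normalizer_iff.2 fun b => by
      constructor
      · intro hb; rw [(hcom a ha b hb).eq, mul_inv_cancel_right]; exact hb
      · intro hb
        have h1 : a * b * a⁻¹ = b := mul_right_cancel (b := a) (by
          calc a * b * a⁻¹ * a = a⁻¹ * (a * (a * b * a⁻¹)) * a := by group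
            _ = a⁻¹ * (a * b * a⁻¹ * a) * a := by rw [(hcom a ha _ hb).eq]
            _ = b * a := by group)
        rwa [h1] at hb
    rw [hG₁, ← SetLike.mem_coe, coe_mul_of_left_le_normalizer_right _ _ hle, Set.mem_mul] at hx
    obtain ⟨a, ha, b, hb, rfl⟩ := hx
    exact ⟨a, ha, b, hb, rfl⟩
  have hG₁n : G₁.Normal := by
    have key : ∀ {C : Subgroup G} {M : Subgroup (G ⧸ Q)}, Atom M → Lift Q M C → ∀ g : G, ∀ c ∈ C,
        g * c * g⁻¹ ∈ G₁ := by
      intro C M hM hC g c hc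
      have hp : ⁅C.map (MulAut.conj g).toMonoidHom, C.map (MulAut.conj g).toMonoidHom⁆ =
          C.map (MulAut.conj g).toMonoidHom := by rw [← map_commutator, hC.perf]
      have hle : (C.map (MulAut.conj g).toMonoidHom).map π ≤ M.map (MulAut.conj (π g)).toMonoidHom := by
        rintro _ ⟨_, ⟨c', hc', rfl⟩, rfl⟩
        refine ⟨π c', hC.map ▸ mem_map_of_mem _ hc', ?_⟩
        show π g * π c' * (π g)⁻¹ = π (g * c' * g⁻¹)
        rw [map_mul, map_mul, map_inv]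
      rcases hthree _ (hM.conj (π g)) with e | e <;> rw [e] at hle
      · exact mem_sup_left (hA.max _ hle hp ⟨c, hc, rfl⟩)
      · exact mem_sup_right (hB.max _ hle hp ⟨c, hc, rfl⟩)
    refine ⟨fun x hx g => ?_⟩
    obtain ⟨a, ha, b, hb, rfl⟩ := hsplit x hx
    rw [show g * (a * b) * g⁻¹ = (g * a * g⁻¹) * (g * b * g⁻¹) by group]
    exact mul_mem (key hK hA g a ha) (key hL hB g b hb)
  -- a Sylow subgroup of `G` over Sylow subgroups of the factors
  obtain ⟨R⟩ : Nonempty (Sylow 2 ↥A) := inferInstance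
  obtain ⟨U⟩ : Nonempty (Sylow 2 ↥B) := inferInstance
  obtain ⟨S, hS⟩ := (IsPGroup.to_sup_of_normal_left' (R.2.map A.subtype) (U.2.map B.subtype) (by
    rintro _ ⟨b, -, rfl⟩
    refine mem_normalizer_iff.2 fun x => ⟨?_, fun hx => ?_⟩
    · rintro ⟨a, ha, rfl⟩
      exact ⟨a, ha, by show (a : G) = (b : G) * a * (b : G)⁻¹; rw [← (hcom a a.2 b b.2).eq, mul_inv_cancel_right]⟩
    · obtain ⟨a, ha, e⟩ := hx
      refine ⟨a, ha, ?_⟩
      show (a : G) = x
      rw [show x = (b : G)⁻¹ * a * b by rw [show (a : G) = B.subtype b * x * (B.subtype b)⁻¹ from e, coe_subtype]; group,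
        mul_assoc, (hcom a a.2 b b.2).eq, inv_mul_cancel_left])).exists_le_sylow
  have hRS : ∀ a ∈ (R : Subgroup ↥A), (a : G) ∈ (S : Subgroup G) := fun a ha => hS (mem_sup_left (mem_map_of_mem _ ha))
  have hUS : ∀ b ∈ (U : Subgroup ↥B), (b : G) ∈ (S : Subgroup G) := fun b hb => hS (mem_sup_right (mem_map_of_mem _ hb))
  have hzS : z ∈ (S : Subgroup G) := QuatF.mem_of_normalizer (k := 1)
    (mem_normalizer_iff.2 fun s => by rw [(d.central s).eq, mul_inv_cancel_right])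
    (by rw [pow_one, pow_two, invol_mul_self d.hz])
  obtain ⟨x, hxR, hxx, -⟩ := d.data R
  obtain ⟨y, hyU, hyy, -⟩ := d.data' U
  have hwo : orderOf ((x : G) * y) = 2 ∧ (x : G) * y ≠ z := by
    have hxQ : (x : G) ∉ Q := fun e => by
      rcases (d.mem _).1 e with e | e
      · exact invol_ne_one d.hz (by rw [← hxx, e, one_mul])
      · exact invol_ne_one d.hz (by rw [← hxx, e, invol_mul_self d.hz])
    have hne : (x : G) * y ∉ Q := fun e => hxQ ((QuotientGroup.eq_one_iff _).1 (by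
      have h1 : π (x : G) * π (y : G) = 1 := by rw [← map_mul]; exact (QuotientGroup.eq_one_iff _).2 e
      refine d.toTwo.inf (hA.map ▸ mem_map_of_mem π x.2 : π (x : G) ∈ K) ?_
      show π (x : G) ∈ L
      rw [eq_inv_of_mul_eq_one_left h1]
      exact inv_mem (hB.map ▸ mem_map_of_mem π y.2)))
    exact ⟨invol_iff.2 ⟨commute_sq (hcom _ x.2 _ y.2) (invol_mul_self d.hz) hxx hyy,
      fun e => hne (by rw [e]; exact one_mem Q)⟩, fun e => hne (by rw [e]; exact d.zQ)⟩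
  set Sb := (S : Subgroup G).map π with hSb
  -- traces and normalizers, for either factor
  have facts : ∀ {K' L' : Subgroup (G ⧸ Q)} {A' B' : Subgroup G} (_ : Two' Q K' L' A' B' z) (R' : Sylow 2 ↥A')
      (y' : G), y' ∈ B' → y' ∈ (S : Subgroup G) → (∀ a ∈ (R' : Subgroup ↥A'), (a : G) ∈ (S : Subgroup G)) →
      (∃ x' ∈ (R' : Subgroup ↥A'), orderOf ((x' : G) * y') = 2 ∧ (x' : G) * y' ≠ z) →
      ∀ (T : Sylow 2 ↥K') (hl : Lift Q K' A'), (R' : Subgroup ↥A').map hl.proj = T →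
      (∀ t : ↥K', t ∈ (T : Subgroup ↥K') ↔ (t : G ⧸ Q) ∈ Sb) ∧
      ∀ n ∈ normalizer ((T : Subgroup ↥K') : Set ↥K'), (n : G ⧸ Q) ∈ normalizer (Sb : Set (G ⧸ Q)) := by
    intro K' L' A' B' d' R' y' hy'B hy'S hR' hx' T _ hT
    obtain ⟨x', hx'R, hwo', hwz⟩ := hx'
    set φ := d'.lift.proj with hφ
    have hTS : ∀ t : ↥K', t ∈ (T : Subgroup ↥K') → (t : G ⧸ Q) ∈ Sb := fun t ht => by
      obtain ⟨a, ha, rfl⟩ : t ∈ (R' : Subgroup ↥A').map φ := hT ▸ ht
      exact mem_map_of_mem π (hR' a ha)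
    refine ⟨fun t => ⟨hTS t, fun ht => ?_⟩, fun n hn => ?_⟩
    · have h1 : IsPGroup 2 ↥(Sb.subgroupOf K') := (S.2.map π).comap_subtype
      exact (T.3 h1 fun w hw => hTS w hw).le ht
    obtain ⟨a, rfl⟩ := d'.lift.proj_surj n
    have hcomap : (T : Subgroup ↥K').comap φ = (R' : Subgroup ↥A') := by
      refine R'.3 (T.2.comap_of_ker_isPGroup φ fun w => ?_) fun w hw => show φ w ∈ (T : Subgroup ↥K') from hT ▸ mem_map_of_mem φ hw
      obtain ⟨k, hk⟩ := d'.q2 ⟨(w.1 : G), (d'.lift.proj_eq_one w.1).1 w.2⟩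
      exact ⟨k, Subtype.ext (Subtype.ext (show ((w.1 : G)) ^ 2 ^ k = 1 from congrArg Subtype.val hk))⟩
    have hax : a * x' * a⁻¹ ∈ (R' : Subgroup ↥A') := by
      rw [← hcomap, mem_comap, map_mul, map_mul, map_inv]
      exact (mem_normalizer_iff.1 hn _).1 (hT ▸ mem_map_of_mem φ hx'R)
    have haN : (a : G) ∈ normalizer ((S : Subgroup G) : Set G) := by
      refine h.mem_normalizer hwo' d'.hz (d'.central _).symm hwz (mul_mem (hR' x' hx'R) hy'S) hzS ?_ ?_
      · rw [show (a : G) * ((x' : G) * y') * (a : G)⁻¹ = (a : G) * x' * (y' * (a : G)⁻¹) by group,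
          ← (d'.toTwo.commute (inv_mem a.2) hy'B).eq, ← mul_assoc]
        exact mul_mem (hR' _ hax) hy'S
      · rw [show (a : G) * z * (a : G)⁻¹ = z by rw [← (d'.central (a : G)).eq, mul_inv_cancel_right]]
        exact hzS
    refine mem_normalizer_iff.2 fun s => ⟨?_, fun hs => ?_⟩
    · rintro ⟨s', hs', rfl⟩
      exact ⟨(a : G) * s' * (a : G)⁻¹, (mem_normalizer_iff.1 haN s').1 hs', by rw [map_mul, map_mul, map_inv]; rfl⟩
    · obtain ⟨s', hs', e⟩ := hs
      refine ⟨(a : G)⁻¹ * s' * a, (mem_normalizer_iff''.1 haN s').1 hs', ?_⟩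
      rw [map_mul, map_mul, map_inv, e, show ((φ a : ↥K') : G ⧸ Q) = π (a : G) from rfl]
      group
  set TK := R.mapSurjective hA.proj_surj with hTK
  set TL := U.mapSurjective hB.proj_surj with hTL
  obtain ⟨hKm, hKN⟩ := facts d R (y : G) y.2 (hUS y hyU) hRS ⟨x, hxR, hwo⟩ TK hA rfl
  obtain ⟨hLm, hLN⟩ := facts d.swap U (x : G) x.2 (hRS x hxR) hUS
    ⟨y, hyU, by rw [← (hcom _ x.2 _ y.2).eq]; exact hwo⟩ TL hB rfl
  have hklK := d.klein TK
  have hklL := d.swap.klein TL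
  have hcKL := d.toTwo.comm
  -- the images of the Sylow subgroups are central
  have hWn : ∀ (g : G ⧸ Q) (k : G ⧸ Q), k ∈ K ∨ k ∈ L → g * k * g⁻¹ ∈ K ∨ g * k * g⁻¹ ∈ L := by
    intro g k hk
    rcases hk with hk | hk
    · rcases hthree _ (hK.conj g) with e | e <;> [left; right] <;> exact e ▸ hcj g hk
    · rcases hthree _ (hL.conj g) with e | e <;> [left; right] <;> exact e ▸ hcj g hk
  have hG₁π : G₁.map π = K ⊔ L := by rw [hG₁, Subgroup.map_sup, hA.map, hB.map]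
  have hTKS : ∀ t ∈ (TK : Subgroup ↥K), (t : G ⧸ Q) ∈ Sb := fun t ht => (hKm t).1 ht
  have hTLS : ∀ t ∈ (TL : Subgroup ↥L), (t : G ⧸ Q) ∈ Sb := fun t ht => (hLm t).1 ht
  have part : ∀ {K' L' : Subgroup (G ⧸ Q)}, Atom K' → (∀ k ∈ K', ∀ l ∈ L', Commute k l) →
      (∀ x : G ⧸ Q, x ∈ K' → x ∈ L' → x = 1) → ∀ T : Sylow 2 ↥K', (∀ t ∈ (T : Subgroup ↥K'), (t : G ⧸ Q) ∈ Sb) →
      ∀ {v k l : G ⧸ Q}, (∀ s ∈ Sb, Commute s v) → v * v = 1 → v = k * l → ∀ (hk : k ∈ K'), l ∈ L' →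
      (⟨k, hk⟩ : ↥K') ∈ (T : Subgroup ↥K') := by
    intro K' L' _ hc hi T hT v k l hv hv2 hvkl hk hl
    refine QuatF.mem_of_normalizer (k := 1) (mem_normalizer_fintype fun t ht => ?_) ?_
    · show (⟨k, hk⟩ : ↥K') * t * (⟨k, hk⟩ : ↥K')⁻¹ ∈ (T : Subgroup ↥K')
      have h1 : Commute (t : G ⧸ Q) k := by
        have h2 := (hv _ (hT t ht)).mul_right (hc _ t.2 l hl).inv_right
        rwa [hvkl, mul_inv_cancel_right] at h2
      rwa [show (⟨k, hk⟩ : ↥K') * t * (⟨k, hk⟩ : ↥K')⁻¹ = t from Subtype.ext (by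
        show k * (t : G ⧸ Q) * k⁻¹ = t
        rw [← h1.eq, mul_inv_cancel_right])]
    · rw [pow_one, pow_two]
      refine Subtype.ext (hi _ (mul_mem hk hk) ?_)
      show k * k ∈ L'
      have h2 : k * k * (l * l) = 1 := by
        rw [← (hc k hk l hl).symm.mul_mul_mul_comm, ← hvkl, hv2]
      rw [eq_inv_of_mul_eq_one_left h2]
      exact inv_mem (mul_mem hl hl)
  have hnormal : ∀ {K' L' : Subgroup (G ⧸ Q)}, Atom K' → Atom L' → K' ≠ L' →
      (∀ x : G ⧸ Q, x ∈ K' → x ∈ L' → x = 1) → (∀ M, Atom M → M = K' ∨ M = L') → ∀ T : Sylow 2 ↥K',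
      IsKleinFour (T : Subgroup ↥K') → (∀ t ∈ (T : Subgroup ↥K'), ∀ s ∈ Sb, Commute s (t : G ⧸ Q)) →
      ∀ s ∈ Sb, s ∈ normalizer (K' : Set (G ⧸ Q)) ∧ s ∈ normalizer (L' : Set (G ⧸ Q)) := by
    intro K' L' hK' hL' hne hi h3 T hkl hT s hs
    haveI : Nontrivial ↥(T : Subgroup ↥K') := Finite.one_lt_card_iff_nontrivial.1 (by rw [hkl.card_four]; norm_num)
    obtain ⟨t, ht⟩ := exists_ne (1 : ↥(T : Subgroup ↥K'))
    have hts : s * ((t : ↥K') : G ⧸ Q) * s⁻¹ = ((t : ↥K') : G ⧸ Q) := by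
      rw [(hT t t.2 s hs).eq, mul_inv_cancel_right]
    have hKK : K'.map (MulAut.conj s).toMonoidHom = K' := (h3 _ (hK'.conj s)).resolve_right fun e => by
      have h1 := hcj s (t : ↥K').2
      rw [e, hts] at h1
      exact ht (Subtype.ext (Subtype.ext (hi _ (t : ↥K').2 h1)))
    have hLL : L'.map (MulAut.conj s).toMonoidHom = L' := (h3 _ (hL'.conj s)).resolve_left fun e =>
      hne (map_injective (MulAut.conj s).injective (hKK.trans e.symm))
    refine ⟨mem_normalizer_fintype fun a ha => ?_, mem_normalizer_fintype fun a ha => ?_⟩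
    · exact hKK.le (hcj s ha)
    · exact hLL.le (hcj s ha)
  -- a central involution in the product
  have hWN : ∀ s ∈ Sb, ∀ v ∈ G₁.map π, s * v * s⁻¹ ∈ G₁.map π := by
    intro s _ v hv
    exact (hG₁n.map π hπ).conj_mem v hv s
  obtain ⟨v, ⟨hvS, hvW⟩, hvo, hvc⟩ := CfsgLib.Bender.Full.exists_central_of_normal (s := 2) (N := Sb ⊓ G₁.map π)
    (R := Sb) (S.2.map π) inf_le_left (fun s hs => mem_normalizer_fintype fun v hv =>
      ⟨Sb.mul_mem (Sb.mul_mem hs hv.1) (Sb.inv_mem hs), hWN s hs v hv.2⟩) (fun e => by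
      have h1 : π (x : G) ∈ Sb ⊓ G₁.map π :=
        ⟨mem_map_of_mem π (hRS x hxR), mem_map_of_mem π (mem_sup_left x.2)⟩
      rw [e, mem_bot] at h1
      rcases (d.mem _).1 ((QuotientGroup.eq_one_iff _).1 h1) with e | e
      · exact invol_ne_one d.hz (by rw [← hxx, e, one_mul])
      · exact invol_ne_one d.hz (by rw [← hxx, e, invol_mul_self d.hz]))
  have hvv := invol_mul_self hvo
  have hvc' : ∀ s ∈ Sb, Commute s v := fun s hs => (hvc s hs).symm
  obtain ⟨w, hw, hwv⟩ := hvW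
  obtain ⟨a, ha, b, hb, rfl⟩ := hsplit w hw
  rw [map_mul] at hwv
  have hk : π a ∈ K := hA.map ▸ mem_map_of_mem π ha
  have hl : π b ∈ L := hB.map ▸ mem_map_of_mem π hb
  have hkT := part hK hcKL (fun x => d.toTwo.inf) TK hTKS hvc' hvv hwv.symm hk hl
  have hlT := part hL (fun l hl k hk => (hcKL k hk l hl).symm) (fun x hx hx' => d.toTwo.inf hx' hx) TL hTLS hvc'
    hvv (hwv.symm.trans (hcKL _ hk _ hl).eq) hl hk
  -- the central involution inside a normalized factor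
  have inside : ∀ {K' L' : Subgroup (G ⧸ Q)}, Atom K' → TI ↥K' → (∀ k ∈ K', ∀ l ∈ L', Commute k l) →
      (∀ x : G ⧸ Q, x ∈ K' → x ∈ L' → x = 1) → ∀ T : Sylow 2 ↥K', IsKleinFour (T : Subgroup ↥K') →
      (∀ t : ↥K', t ∈ (T : Subgroup ↥K') ↔ (t : G ⧸ Q) ∈ Sb) →
      (∀ n ∈ normalizer ((T : Subgroup ↥K') : Set ↥K'), (n : G ⧸ Q) ∈ normalizer (Sb : Set (G ⧸ Q))) →
      (∀ s ∈ Sb, s ∈ normalizer (K' : Set (G ⧸ Q))) →
      ∀ t ∈ (T : Subgroup ↥K'), ∀ s ∈ Sb, Commute s (t : G ⧸ Q) := by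
    intro K' L' hK' hTI' hc hi T hkl hTm hTN hn
    haveI : Nontrivial ↥(T : Subgroup ↥K') := Finite.one_lt_card_iff_nontrivial.1 (by rw [hkl.card_four]; norm_num)
    obtain ⟨t, ht⟩ := exists_ne (1 : ↥(T : Subgroup ↥K'))
    obtain ⟨v', ⟨hv'S, hv'K⟩, hv'o, hv'c⟩ := CfsgLib.Bender.Full.exists_central_of_normal (s := 2) (N := Sb ⊓ K')
      (R := Sb) (S.2.map π) inf_le_left (fun s hs => mem_normalizer_fintype fun v hv =>
        ⟨Sb.mul_mem (Sb.mul_mem hs hv.1) (Sb.inv_mem hs), (mem_normalizer_iff.1 (hn s hs) v).1 hv.2⟩) (fun e => ht (by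
        have h1 : ((t : ↥K') : G ⧸ Q) ∈ Sb ⊓ K' := ⟨(hTm _).1 t.2, (t : ↥K').2⟩
        rw [e, mem_bot] at h1
        exact Subtype.ext (Subtype.ext h1)))
    exact side hTI' hK' hkl (fun t ht => (hTm t).1 ht) hTN ((hTm ⟨v', hv'K⟩).2 hv'S)
      (fun e => invol_ne_one hv'o (congrArg Subtype.val e)) (u := 1) (fun _ _ => Commute.one_right _)
      (fun s hs => by rw [mul_one]; exact (hv'c s hs).symm)
  have hboth : (∀ t ∈ (TK : Subgroup ↥K), ∀ s ∈ Sb, Commute s (t : G ⧸ Q)) ∧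
      (∀ t ∈ (TL : Subgroup ↥L), ∀ s ∈ Sb, Commute s (t : G ⧸ Q)) := by
    by_cases h1 : π a = 1
    · have hl1 : (⟨π b, hl⟩ : ↥L) ≠ 1 := fun e => invol_ne_one hvo (by
        rw [← hwv, h1, one_mul]; exact congrArg Subtype.val e)
      have hc := side d.swap.ti hL hklL hTLS hLN hlT hl1 (u := 1) (fun _ _ => Commute.one_right _)
        (fun s hs => by
          rw [mul_one]
          show Commute s (π b)
          have h2 := hvc' s hs
          rwa [← hwv, h1, one_mul] at h2)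
      refine ⟨?_, hc⟩
      exact inside hK d.ti hcKL (fun x => d.toTwo.inf) TK hklK hKm hKN fun s hs =>
        (hnormal hL hK hKL.symm (fun x hx hx' => d.toTwo.inf hx' hx) (fun M hM => (hthree M hM).symm) TL hklL hc s hs).2
    · have hc := side d.ti hK hklK hTKS hKN hkT (fun e => h1 (congrArg Subtype.val e)) (u := π b)
        (fun k hk' => hcKL k hk' _ hl) (fun s hs => by
          show Commute s (π a * π b)
          rw [hwv]; exact hvc' s hs)
      refine ⟨hc, ?_⟩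
      exact inside hL d.swap.ti (fun l hl k hk => (hcKL k hk l hl).symm) (fun x hx hx' => d.toTwo.inf hx' hx) TL
        hklL hLm hLN fun s hs => (hnormal hK hL hKL (fun x => d.toTwo.inf) hthree TK hklK hc s hs).2
  -- everything is inner
  have hX : centralizer ((K : Set (G ⧸ Q)) ∪ L) = ⊥ := by
    by_contra hX1
    haveI hXn : (centralizer ((K : Set (G ⧸ Q)) ∪ L)).Normal := ⟨fun c hc g => mem_centralizer_iff.2 fun k hk => by
      have h1 : g⁻¹ * k * g ∈ (K : Set (G ⧸ Q)) ∪ L := by simpa using hWn g⁻¹ k hk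
      have h2 := mem_centralizer_iff.1 hc _ h1
      calc k * (g * c * g⁻¹) = g * (g⁻¹ * k * g * c) * g⁻¹ := by group
        _ = g * (c * (g⁻¹ * k * g)) * g⁻¹ := by rw [h2]
        _ = g * c * g⁻¹ * k := by group⟩
    obtain ⟨M, hM, hMC⟩ := exists_atom hR hQ2 hXn.isSubnormal hX1
    refine hM.na ⟨⟨fun a b => Subtype.ext (mem_centralizer_iff.1 (hMC b.2) a ?_)⟩⟩
    rcases hthree M hM with e | e
    · exact Or.inl (e ▸ a.2)
    · exact Or.inr (e ▸ a.2)
  have hSG₁ : (S : Subgroup G) ≤ G₁ := by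
    intro s₀ hs₀
    have hs : π s₀ ∈ Sb := mem_map_of_mem π hs₀
    obtain ⟨k, hk2⟩ := QuatF.exists_pow_two hs₀
    have hpow : π s₀ ^ 2 ^ k = 1 := by rw [← map_pow, hk2, map_one]
    have hn := hnormal hK hL hKL (fun x => d.toTwo.inf) hthree TK hklK hboth.1 _ hs
    obtain ⟨g₁, hg₁, e₁⟩ := inner_part hK hklK hn.1 hpow fun t ht => hboth.1 t ht _ hs
    obtain ⟨g₂, hg₂, e₂⟩ := inner_part hL hklL hn.2 hpow fun t ht => hboth.2 t ht _ hs
    have h1 : (g₁ * g₂)⁻¹ * π s₀ ∈ centralizer ((K : Set (G ⧸ Q)) ∪ L) := mem_centralizer_iff.2 fun k hk => by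
      have h2 : π s₀ * k * (π s₀)⁻¹ = g₁ * g₂ * k * (g₁ * g₂)⁻¹ := by
        rcases hk with hk | hk
        · rw [e₁ k hk, show g₁ * g₂ * k * (g₁ * g₂)⁻¹ = g₁ * (g₂ * k * g₂⁻¹) * g₁⁻¹ by group,
            ← (hcKL k hk g₂ hg₂).eq, mul_inv_cancel_right]
        · rw [e₂ k hk, (hcKL g₁ hg₁ g₂ hg₂).eq,
            show g₂ * g₁ * k * (g₂ * g₁)⁻¹ = g₂ * (g₁ * k * g₁⁻¹) * g₂⁻¹ by group,
            (hcKL g₁ hg₁ k hk).eq, mul_inv_cancel_right]
      calc k * ((g₁ * g₂)⁻¹ * π s₀) = (g₁ * g₂)⁻¹ * (g₁ * g₂ * k * (g₁ * g₂)⁻¹) * π s₀ := by group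
        _ = (g₁ * g₂)⁻¹ * (π s₀ * k * (π s₀)⁻¹) * π s₀ := by rw [h2]
        _ = (g₁ * g₂)⁻¹ * π s₀ * k := by group
    rw [hX, mem_bot, inv_mul_eq_one] at h1
    have h3 : π s₀ ∈ G₁.map π := by
      rw [hG₁π, ← h1]
      exact mul_mem_sup hg₁ hg₂
    obtain ⟨w, hw, e⟩ := h3
    have h4 := mul_mem hw (mem_sup_left (hQA (QuotientGroup.eq.1 e)))
    rwa [mul_inv_cancel_left] at h4
  have hodd : Odd G₁.index := by
    rw [← Nat.not_even_iff_odd, even_iff_two_dvd]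
    exact fun he => S.not_dvd_index (he.trans (index_dvd_of_le hSG₁))
  -- the central product
  obtain ⟨eA⟩ := d.model
  obtain ⟨eB⟩ := d.swap.model
  set f₁ : SL25 →* G := A.subtype.comp eA.symm.toMonoidHom with hf₁
  set f₂ : SL25 →* G := B.subtype.comp eB.symm.toMonoidHom with hf₂
  set Φ := f₁.noncommCoprod f₂ (fun m n => hcom _ (eA.symm m).2 _ (eB.symm n).2) with hΦ
  have hm1 : ((-1 : SL25)) * -1 = 1 := by decide
  have hm2 : (-1 : SL25) ≠ 1 := by decide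
  have hm3 : ∀ w : SL25, w * w = 1 → w = 1 ∨ w = -1 := fun w hw => by
    by_cases hw1 : w = 1
    · exact Or.inl hw1
    refine Or.inr (eA.symm.injective (Subtype.ext ?_))
    have key : ∀ u : SL25, u * u = 1 → u ≠ 1 → ((eA.symm u : ↥A) : G) = z := fun u hu hu1 =>
      (d.oneZ.one _ (eA.symm u).2 (by rw [← Subgroup.coe_mul, ← map_mul, hu, map_one, Subgroup.coe_one])).resolve_left
        fun e => hu1 (eA.symm.injective (by rw [map_one]; exact Subtype.ext e))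
    exact (key w hw hw1).trans (key _ hm1 hm2).symm
  have hval : f₁ (-1) = z ∧ f₂ (-1) = z := by
    constructor
    · exact (d.oneZ.one _ (eA.symm (-1)).2 (by rw [← Subgroup.coe_mul, ← map_mul, hm1, map_one, Subgroup.coe_one])).resolve_left
        fun e => hm2 (eA.symm.injective (by rw [map_one]; exact Subtype.ext e))
    · exact (d.swap.oneZ.one _ (eB.symm (-1)).2 (by rw [← Subgroup.coe_mul, ← map_mul, hm1, map_one, Subgroup.coe_one])).resolve_left
        fun e => hm2 (eB.symm.injective (by rw [map_one]; exact Subtype.ext e))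
  have hker : Φ.ker = zpowers ((-1 : SL25), (-1 : SL25)) := by
    refine le_antisymm ?_ (zpowers_le.2 ?_)
    · rintro ⟨m, n⟩ hmn
      replace hmn : f₁ m * f₂ n = 1 := hmn
      have h1 : π (f₁ m) * π (f₂ n) = 1 := by rw [← map_mul, hmn, map_one]
      have h2 : π (f₁ m) = 1 := d.toTwo.inf (hA.map ▸ mem_map_of_mem π (eA.symm m).2) (by
        rw [eq_inv_of_mul_eq_one_left h1]
        exact inv_mem (hB.map ▸ mem_map_of_mem π (eB.symm n).2))
      have h3 := (d.mem _).1 ((QuotientGroup.eq_one_iff _).1 h2)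
      have hmm : m * m = 1 := eA.symm.injective (Subtype.ext (by
        rw [map_mul, map_one, Subgroup.coe_mul, Subgroup.coe_one]
        rcases h3 with e | e
        · show f₁ m * f₁ m = 1; rw [e, one_mul]
        · show f₁ m * f₁ m = 1; rw [e, invol_mul_self d.hz]))
      have hf₂n : f₂ n = (f₁ m)⁻¹ := eq_inv_of_mul_eq_one_right hmn
      have hinj : Function.Injective f₂ := Subtype.val_injective.comp eB.symm.injective
      rcases hm3 m hmm with rfl | rfl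
      · rw [map_one, inv_one, ← map_one f₂] at hf₂n
        rw [hinj hf₂n]; exact one_mem _
      · rw [hval.1, invol_inv d.hz, ← hval.2] at hf₂n
        rw [hinj hf₂n]; exact mem_zpowers _
    · show f₁ (-1) * f₂ (-1) = 1
      rw [hval.1, hval.2, invol_mul_self d.hz]
  have hrange : Φ.range = G₁ := by
    refine le_antisymm ?_ (sup_le (fun a ha => ?_) fun b hb => ?_)
    · rintro _ ⟨⟨m, n⟩, rfl⟩
      exact mul_mem_sup (eA.symm m).2 (eB.symm n).2
    · refine ⟨(eA ⟨a, ha⟩, 1), ?_⟩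
      show f₁ (eA ⟨a, ha⟩) * f₂ 1 = a
      rw [map_one, mul_one]
      exact congrArg Subtype.val (eA.symm_apply_apply ⟨a, ha⟩)
    · refine ⟨(1, eB ⟨b, hb⟩), ?_⟩
      show f₁ 1 * f₂ (eB ⟨b, hb⟩) = b
      rw [map_one, one_mul]
      exact congrArg Subtype.val (eB.symm_apply_apply ⟨b, hb⟩)
  haveI hZn : (zpowers ((-1 : SL25), (-1 : SL25))).Normal := hker ▸ MonoidHom.normal_ker Φ
  exact ⟨G₁, hG₁n, zpowers ((-1 : SL25), (-1 : SL25)), hZn, rfl, hodd,
    ⟨((QuotientGroup.quotientMulEquivOfEq hker.symm).trans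
      ((QuotientGroup.quotientKerEquivRange Φ).trans (MulEquiv.subgroupCongr hrange))).symm⟩⟩

end CfsgLib.RankOneInter
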