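import Cfsg.Agent.Lib.Invol.RankOneInter.CaseQuat
import Cfsg.Agent.Lib.Invol.RankOneInter.PairCase
import Cfsg.Agent.Lib.Coprime.Hyperplanes

/-!
# Sylow intersections of rank at most one: the reduction and the conclusion
-/

set_option autoImplicit false
set_option linter.unusedSectionVars false
set_option linter.style.haveILetI false

namespace CfsgLib.RankOneInter

open Subgroup CfsgLib.Invol
open scoped commutatorElement

universe u

variable {G : Type u} [Group G] [Finite G]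

/-- Odd normal subgroups meet a two-group trivially. -/
theorem eq_one_of_mem_odd {O : Subgroup G} (hO : Odd (Nat.card O)) {P : Subgroup G} (hP : IsPGroup 2 P)
    {x : G} (hxP : x ∈ P) (hxO : x ∈ O) : x = 1 := by
  obtain ⟨j, hj⟩ := hP ⟨x, hxP⟩
  exact orderOf_eq_one_iff.1 (Nat.eq_one_of_dvd_coprimes ((Nat.coprime_two_left.2 hO).pow_left j)
    (orderOf_dvd_of_pow_eq_one (congrArg Subtype.val hj :)) (Subgroup.orderOf_dvd_natCard O hxO))

/-- The hypothesis passes to the quotient by an odd normal subgroup. -/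
theorem Hyp.quotient_odd (h : Hyp G) (O : Subgroup G) [O.Normal] (hO : Odd (Nat.card O)) : Hyp (G ⧸ O) := by
  haveI : Fact (Nat.Prime 2) := ⟨Nat.prime_two⟩
  set π := QuotientGroup.mk' O
  have hπ := QuotientGroup.mk'_surjective O
  intro A B hAB
  set D := (A : Subgroup (G ⧸ O)) ⊓ (B : Subgroup (G ⧸ O))
  intro U hU hU2
  set H := D.comap π
  obtain ⟨P⟩ := (inferInstance : Nonempty (Sylow 2 ↥H))
  let r : ↥H →* ↥D := (π.comp H.subtype).codRestrict D fun x => x.2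
  have hr : Function.Surjective r := fun d => by
    obtain ⟨g, hg⟩ := hπ d.1
    exact ⟨⟨g, show π g ∈ D from hg.symm ▸ d.2⟩, Subtype.ext hg⟩
  have hD : IsPGroup 2 ↥D := A.2.to_le inf_le_left
  have hPr : (P : Subgroup ↥H).map r = ⊤ := by
    have hTop : IsPGroup 2 (⊤ : Subgroup ↥D) := hD.to_subgroup ⊤
    exact ((P.mapSurjective hr).3 hTop le_top).symm
  have lift : ∀ C : Sylow 2 (G ⧸ O), D ≤ (C : Subgroup (G ⧸ O)) →
      ∃ S : Sylow 2 G, (P : Subgroup ↥H).map H.subtype ≤ S ∧ (S : Subgroup G).map π = C := by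
    intro C hC
    set K := (C : Subgroup (G ⧸ O)).comap π
    have hPK : (P : Subgroup ↥H).map H.subtype ≤ K := by
      rintro _ ⟨x, -, rfl⟩
      exact hC x.2
    obtain ⟨Q, hQ⟩ := ((P.2.map H.subtype).comap_subtype (K := K)).exists_le_sylow
    obtain ⟨S, hS⟩ := (Q.2.map K.subtype).exists_le_sylow
    refine ⟨S, fun x hx => hS ⟨⟨x, hPK hx⟩, hQ hx, rfl⟩, ?_⟩
    let s : ↥K →* ↥(C : Subgroup (G ⧸ O)) := (π.comp K.subtype).codRestrict _ fun x => x.2
    have hs : Function.Surjective s := fun d => by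
      obtain ⟨g, hg⟩ := hπ d.1
      exact ⟨⟨g, show π g ∈ (C : Subgroup (G ⧸ O)) from hg.symm ▸ d.2⟩, Subtype.ext hg⟩
    have hle : (C : Subgroup (G ⧸ O)) ≤ (S : Subgroup G).map π := by
      intro c hc
      have hCtop : IsPGroup 2 (⊤ : Subgroup ↥(C : Subgroup (G ⧸ O))) := C.2.to_subgroup ⊤
      have hm := (Q.mapSurjective hs).3 hCtop le_top
      have hcm : (⟨c, hc⟩ : ↥(C : Subgroup (G ⧸ O))) ∈ (Q : Subgroup ↥K).map s := by
        rw [← Sylow.coe_mapSurjective hs Q]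
        exact hm ▸ Subgroup.mem_top _
      obtain ⟨x, hx, hxc⟩ := hcm
      exact ⟨x, hS ⟨x, hx, rfl⟩, congrArg Subtype.val hxc⟩
    exact C.3 (S.2.map π) hle
  obtain ⟨S, hPS, hSA⟩ := lift A inf_le_left
  obtain ⟨T, hPT, hTB⟩ := lift B inf_le_right
  have hne : S ≠ T := fun e => hAB (Sylow.ext (by rw [← hSA, ← hTB, e]))
  have hker : ∀ x, π x = 1 → x ∈ O := fun x => (QuotientGroup.eq_one_iff x).1
  have hlift : ∀ d : ↥D, ∃ x ∈ (S : Subgroup G) ⊓ (T : Subgroup G), π x = d := fun d => by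
    obtain ⟨y, hy, e⟩ := (hPr ▸ mem_top d : d ∈ (P : Subgroup ↥H).map r)
    exact ⟨y, le_inf hPS hPT (mem_map_of_mem _ hy), congrArg Subtype.val e⟩
  by_contra hlt
  obtain ⟨a, ha, ha1, b, hb, hb1, hne'⟩ : ∃ a ∈ U, a ≠ 1 ∧ ∃ b ∈ U, b ≠ 1 ∧ a ≠ b := by
    by_contra hh
    push Not at hh
    refine hlt (le_of_le_of_eq ?_ (pow_one 2).symm)
    by_cases hbot : U = ⊥
    · rw [hbot, card_bot]; norm_num
    obtain ⟨a, ha, ha1⟩ : ∃ a ∈ U, a ≠ 1 := by
      by_contra hh'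
      push Not at hh'
      exact hbot ((eq_bot_iff_forall _).2 hh')
    have hle : U ≤ zpowers a := fun b hb => by
      by_cases hb1 : b = 1
      · rw [hb1]; exact one_mem _
      · rw [← hh a ha ha1 b hb hb1]; exact mem_zpowers a
    refine (Nat.le_of_dvd Nat.card_pos (card_dvd_of_le hle)).trans ?_
    rw [Nat.card_zpowers]
    exact Nat.le_of_dvd two_pos (orderOf_dvd_of_pow_eq_one (hU2 a ha))
  obtain ⟨x, hx, hxa⟩ := hlift a
  obtain ⟨y, hy, hyb⟩ := hlift b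
  have hinv : ∀ w ∈ (S : Subgroup G), π w = 1 → w = 1 := fun w hw e => eq_one_of_mem_odd hO S.2 hw (hker w e)
  have hsq : ∀ (u : ↥D) (w : G), u ∈ U → w ∈ (S : Subgroup G) → π w = u → w * w = 1 := fun u w hu hw e => by
    refine hinv _ (mul_mem hw hw) ?_
    rw [map_mul, e, ← Subgroup.coe_mul, ← pow_two, hU2 u hu, Subgroup.coe_one]
  refine hne' (Subtype.ext ?_)
  rw [← hxa, ← hyb]
  refine congrArg π (h.oneInvol hne x hx y hy (invol_iff.2 ⟨hsq a x ha hx.1 hxa, fun e => ?_⟩)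
    (invol_iff.2 ⟨hsq b y hb hy.1 hyb, fun e => hb1 (Subtype.ext ?_)⟩) ?_)
  · exact ha1 (Subtype.ext (by rw [← hxa, e, map_one]; rfl))
  · rw [← hyb, e, map_one]; rfl
  · refine commutatorElement_eq_one_iff_mul_comm.1 (hinv _ ?_ ?_)
    · rw [commutatorElement_def]
      exact mul_mem (mul_mem (mul_mem hx.1 hy.1) (inv_mem hx.1)) (inv_mem hy.1)
    · rw [map_commutatorElement, hxa, hyb]
      exact commutatorElement_eq_one_iff_mul_comm.2 (congrArg Subtype.val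
        (congrArg Subtype.val (hU.is_comm.comm ⟨a, ha⟩ ⟨b, hb⟩)))

/-- The conclusion modulo the odd core. -/
theorem core_main (h : Hyp G) (hns : ¬ Group.IsSolvable G) (hO : Cfsg.oddCore G = ⊥)
    (hnQ : ∀ S : Sylow 2 G, ∀ n : ℕ, IsEmpty (↥(S : Subgroup G) ≃* QuaternionGroup (2 ^ (n + 1))))
    (hnC : ∃ S T : Sylow 2 G, S ≠ T ∧ ¬ IsCyclic ↥((S : Subgroup G) ⊓ (T : Subgroup G))) :
    (∃ n : ℕ, Nonempty (↥(Cfsg.pCore 2 G) ≃* QuaternionGroup (2 ^ (n + 1)))) ∨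
    (∃ (G₁ : Subgroup G) (_ : G₁.Normal) (Z : Subgroup (SL25 × SL25)) (_ : Z.Normal),
      Z = Subgroup.zpowers ((-1 : SL25), (-1 : SL25)) ∧ Odd G₁.index ∧ Nonempty (↥G₁ ≃* (SL25 × SL25) ⧸ Z)) := by
  classical
  haveI : Fact (Nat.Prime 2) := ⟨Nat.prime_two⟩
  have hnC' := hnC
  obtain ⟨S, T, hne, -⟩ := hnC
  set Q := Cfsg.pCore 2 G with hQ
  haveI : Q.Normal := CfsgLib.Coprime.pCore_normal' (G := G) 2
  have hQ2 : IsPGroup 2 Q := CfsgLib.Coprime.pCore_isPGroup (G := G) 2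
  rcases ((h.oneInvol hne).mono (le_inf (normal_le_sylow hQ2 S) (normal_le_sylow hQ2 T))).cases hQ2 with hc | hq
  swap
  · exact Or.inl hq
  right
  haveI := hc
  have hR : ∀ N : Subgroup G, N.Normal → Group.IsSolvable ↥N → N ≤ Q := by
    intro N hN hNs
    haveI := hN
    refine le_sSup ⟨hN, ?_⟩
    intro r
    let c : G →* MulAut ↥Q := MulAut.conjNormal
    obtain ⟨k, hk⟩ : ∃ k, Nat.card (MulAut ↥Q) = 2 ^ k := by
      obtain ⟨m, hm⟩ := IsPGroup.iff_card.1 hQ2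
      rw [IsCyclic.card_mulAut, hm]
      rcases Nat.eq_zero_or_pos m with rfl | hm0
      · exact ⟨0, by simp⟩
      · exact ⟨m - 1, by rw [Nat.totient_prime_pow Nat.prime_two hm0]; simp⟩
    have h1 : c ((r : G) ^ 2 ^ k) = 1 := by rw [map_pow, ← hk, pow_card_eq_one']
    have h2 : (r : G) ^ 2 ^ k ∈ Q := solvable_centralizing_le hO hNs (pow_mem r.2 _) fun q hq => by
      have h3 : ((c ((r : G) ^ 2 ^ k) ⟨q, hq⟩ : ↥Q) : G) = q := by rw [h1]; rfl
      rw [MulAut.conjNormal_apply] at h3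
      exact mul_inv_eq_iff_eq_mul.1 h3
    obtain ⟨i, hi⟩ := hQ2 ⟨_, h2⟩
    exact ⟨k + i, Subtype.ext (by
      rw [SubmonoidClass.coe_pow, pow_add, pow_mul]; exact congrArg Subtype.val hi)⟩
  refine pair_case h hns Q hQ2 hc hR fun M _ hQM hs hC => ?_
  have hna : ¬ IsMulCommutative (↥M ⧸ Q.subgroupOf M) := fun hcm => by
    haveI : Group.IsSolvable (↥M ⧸ Q.subgroupOf M) := Group.isSolvable_of_comm fun a b => hcm.is_comm.comm a b
    haveI : Group.IsNilpotent ↥(Q.subgroupOf M) := (hQ2.comap_subtype (K := M)).isNilpotent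
    haveI : Group.IsSolvable ↥M := Group.isSolvable_of_ker_le_range (Q.subgroupOf M).subtype
      (QuotientGroup.mk' (Q.subgroupOf M)) (by rw [QuotientGroup.ker_mk', range_subtype])
    have hle : M ≤ Q := hR M inferInstance inferInstance
    haveI := hs
    obtain ⟨a, ha⟩ := exists_ne (1 : ↥M ⧸ Q.subgroupOf M)
    obtain ⟨m, rfl⟩ := QuotientGroup.mk'_surjective (Q.subgroupOf M) a
    exact ha ((QuotientGroup.eq_one_iff m).2 (hle m.2))
  have hcen : ∀ q ∈ Q, ∀ m ∈ M, Commute q m := by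
    haveI := hs
    set C := (centralizer (Q : Set G)).subgroupOf M
    have hQcomm : ∀ q ∈ Q, ∀ q' ∈ Q, Commute q q' := fun q hq q' hq' =>
      congrArg Subtype.val (IsCyclic.commGroup.mul_comm (⟨q, hq⟩ : ↥Q) ⟨q', hq'⟩)
    have hQC : Q.subgroupOf M ≤ C := fun w hw => mem_subgroupOf.2 (mem_centralizer_iff.2 fun q hq =>
      (hQcomm q hq _ (mem_subgroupOf.1 hw)).eq)
    rcases (Normal.map (inferInstance : C.Normal) (QuotientGroup.mk' (Q.subgroupOf M))
      (QuotientGroup.mk'_surjective _)).eq_bot_or_eq_top with e | e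
    · exfalso
      have hle : C ≤ Q.subgroupOf M := fun w hw =>
        (QuotientGroup.eq_one_iff w).1 (mem_bot.1 (e ▸ mem_map_of_mem _ hw))
      refine hna ⟨⟨fun a b => ?_⟩⟩
      obtain ⟨a, rfl⟩ := QuotientGroup.mk'_surjective (Q.subgroupOf M) a
      obtain ⟨b, rfl⟩ := QuotientGroup.mk'_surjective (Q.subgroupOf M) b
      refine commutatorElement_eq_one_iff_mul_comm.1 ?_
      rw [← map_commutatorElement]
      refine (QuotientGroup.eq_one_iff _).2 (hle (mem_subgroupOf.2 (mem_centralizer_iff.2 fun q hq => ?_)))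
      let c : G →* MulAut ↥Q := MulAut.conjNormal
      have h1 : c ((⁅a, b⁆ : ↥M) : G) = 1 := by
        rw [show ((⁅a, b⁆ : ↥M) : G) = ⁅(a : G), (b : G)⁆ from rfl, map_commutatorElement,
          commutatorElement_eq_one_iff_mul_comm]
        exact (IsCyclic.mulAutMulEquiv ↥Q).injective (by rw [map_mul, map_mul, mul_comm])
      have h3 : ((c ((⁅a, b⁆ : ↥M) : G) ⟨q, hq⟩ : ↥Q) : G) = q := by rw [h1]; rfl
      rw [MulAut.conjNormal_apply] at h3
      exact (mul_inv_eq_iff_eq_mul.1 h3).symm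
    · intro q hq m hm
      obtain ⟨w, hw, hwe⟩ := (e.symm ▸ mem_top _ : QuotientGroup.mk' (Q.subgroupOf M) ⟨m, hm⟩ ∈ C.map _)
      have h1 : w⁻¹ * ⟨m, hm⟩ ∈ C := hQC ((QuotientGroup.eq_one_iff _).1 (by
        show QuotientGroup.mk' (Q.subgroupOf M) _ = 1
        rw [map_mul, map_inv, hwe, inv_mul_cancel]))
      have h2 : (⟨m, hm⟩ : ↥M) ∈ C := by simpa using mul_mem hw h1
      exact mem_centralizer_iff.1 (mem_subgroupOf.1 h2) q hq
  haveI := hs
  exact one_factor h Q M hQ2 hc hQM hcen hna hC hnQ hnC'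

/-- The theorem. -/
theorem main (h : Hyp G) (hns : ¬ Group.IsSolvable G)
    (hnC : ∃ S T : Sylow 2 (G ⧸ Cfsg.oddCore G), S ≠ T ∧
      ¬ IsCyclic ↥((S : Subgroup (G ⧸ Cfsg.oddCore G)) ⊓ (T : Subgroup (G ⧸ Cfsg.oddCore G))))
    (hnQ : ∀ S : Sylow 2 G, ∀ n : ℕ, IsEmpty (↥(S : Subgroup G) ≃* QuaternionGroup (2 ^ (n + 1)))) :
    (∃ (G₁ : Subgroup G) (_ : G₁.Normal) (_ : ((Cfsg.pCore 2 G ⊔ Cfsg.oddCore G).subgroupOf G₁).Normal),
      Odd G₁.index ∧ Cfsg.pCore 2 G ⊔ Cfsg.oddCore G ≤ G₁ ∧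
      (∃ n : ℕ, Nonempty (↥(Cfsg.pCore 2 G) ≃* QuaternionGroup (2 ^ (n + 1)))) ∧
      Bender3 (↥G₁ ⧸ (Cfsg.pCore 2 G ⊔ Cfsg.oddCore G).subgroupOf G₁)) ∨
    (∃ (G₁ : Subgroup G) (_ : G₁.Normal) (_ : ((Cfsg.oddCore G).subgroupOf G₁).Normal),
      Odd G₁.index ∧ Cfsg.oddCore G ≤ G₁ ∧
      ∃ (Z : Subgroup (SL25 × SL25)) (_ : Z.Normal),
        Z = Subgroup.zpowers ((-1 : SL25), (-1 : SL25)) ∧
        Nonempty (↥G₁ ⧸ (Cfsg.oddCore G).subgroupOf G₁ ≃* (SL25 × SL25) ⧸ Z)) := by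
  classical
  haveI : Fact (Nat.Prime 2) := ⟨Nat.prime_two⟩
  haveI := CfsgLib.Coprime.pPrimeCore_characteristic (G := G) 2
  set O := Cfsg.oddCore G with hOdef
  have hOodd : Odd (Nat.card O) := by
    rw [← Nat.not_even_iff_odd, even_iff_two_dvd]
    exact CfsgLib.Coprime.pPrimeCore_not_dvd Nat.prime_two
  haveI hOn : O.Normal := inferInstance
  set π := QuotientGroup.mk' O
  have hπ := QuotientGroup.mk'_surjective O
  have hker : ∀ x, π x = 1 ↔ x ∈ O := fun x => QuotientGroup.eq_one_iff x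
  have hΓ : Hyp (G ⧸ O) := h.quotient_odd O hOodd
  have hO' : Cfsg.oddCore (G ⧸ O) = ⊥ := CfsgLib.Coprime.pPrimeCore_quotient_eq_bot Nat.prime_two
  have hnsΓ : ¬ Group.IsSolvable (G ⧸ O) := fun hs => by
    haveI := hs
    haveI : Group.IsSolvable ↥O := Cfsg.Agent.S0205.result hOodd
    exact hns (Group.isSolvable_of_ker_le_range O.subtype π (by rw [QuotientGroup.ker_mk', range_subtype]))
  have hinj : ∀ S : Sylow 2 G, ∀ x ∈ (S : Subgroup G), x ∈ O → x = 1 := fun S x hx hxO =>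
    eq_one_of_mem_odd hOodd S.2 hx hxO
  have hSiso : ∀ S : Sylow 2 G, Nonempty (↥(S : Subgroup G) ≃* ↥((S.mapSurjective hπ : Sylow 2 (G ⧸ O)) : Subgroup (G ⧸ O))) := by
    intro S
    rw [Sylow.coe_mapSurjective]
    refine ⟨MulEquiv.ofBijective (π.subgroupMap (S : Subgroup G))
      ⟨(injective_iff_map_eq_one _).2 fun x hx => Subtype.ext (hinj S _ x.2 ((hker _).1 (congrArg Subtype.val hx))),
        π.subgroupMap_surjective _⟩⟩
  obtain ⟨S₀⟩ := (inferInstance : Nonempty (Sylow 2 G))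
  have hliftS : ∀ A : Sylow 2 (G ⧸ O), ∃ S : Sylow 2 G, S.mapSurjective hπ = A := fun A => by
    obtain ⟨g, hg⟩ := MulAction.exists_smul_eq (G ⧸ O) (S₀.mapSurjective hπ) A
    obtain ⟨g, rfl⟩ := hπ g
    refine ⟨g • S₀, Sylow.ext ?_⟩
    rw [← hg, Sylow.coe_mapSurjective, Sylow.coe_subgroup_smul, Sylow.coe_subgroup_smul, Sylow.coe_mapSurjective]
    show ((S₀ : Subgroup G).map (MulAut.conj g).toMonoidHom).map π =
      ((S₀ : Subgroup G).map π).map (MulAut.conj (π g)).toMonoidHom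
    rw [map_map, map_map]
    exact congrArg (fun f => (S₀ : Subgroup G).map f) (MonoidHom.ext fun x => by simp)
  have hnQΓ : ∀ A : Sylow 2 (G ⧸ O), ∀ n : ℕ, IsEmpty (↥(A : Subgroup (G ⧸ O)) ≃* QuaternionGroup (2 ^ (n + 1))) := by
    intro A n
    obtain ⟨S, rfl⟩ := hliftS A
    obtain ⟨e⟩ := hSiso S
    exact ⟨fun f => (hnQ S n).false (e.trans f)⟩
  rcases core_main hΓ hnsΓ hO' hnQΓ hnC with ⟨n, ⟨e⟩⟩ | ⟨G₁, hG₁, Z, hZn, hZ, hodd, ⟨e⟩⟩
  · left
    obtain ⟨Γ₁, hΓ₁, hQn', hodd, hQΓ, hfam, A, B, hBA, hBe, hB8⟩ := case_quat hΓ hnsΓ hO' e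
    haveI := hΓ₁
    obtain ⟨S, rfl⟩ := hliftS A
    rw [Sylow.coe_mapSurjective] at hBA
    -- `S` centralizes the odd core
    set B₀ := (S : Subgroup G) ⊓ B.comap π
    have hB₀map : B₀.map π = B := by
      refine le_antisymm (map_le_iff_le_comap.2 inf_le_right) fun b hb => ?_
      obtain ⟨s, hs, rfl⟩ := hBA hb
      exact mem_map_of_mem π ⟨hs, hb⟩
    have hB₀e : Cfsg.IsElementaryAbelian 2 B₀ := by
      refine ⟨⟨⟨fun a b => Subtype.ext (commutatorElement_eq_one_iff_mul_comm.1 (hinj S _ ?_ ((hker _).1 ?_)))⟩⟩, fun a ha => hinj S _ (pow_mem ha.1 2) ((hker _).1 ?_)⟩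
      · rw [commutatorElement_def]
        exact mul_mem (mul_mem (mul_mem a.2.1 b.2.1) (inv_mem a.2.1)) (inv_mem b.2.1)
      · rw [map_commutatorElement, commutatorElement_eq_one_iff_mul_comm]
        exact congrArg Subtype.val (hBe.1.is_comm.comm ⟨_, a.2.2⟩ ⟨_, b.2.2⟩)
      · rw [map_pow]; exact hBe.2 _ ha.2
    have hB₀8 : 8 ≤ Nat.card B₀ := by
      rw [← hB₀map] at hB8
      exact hB8.trans (Nat.le_of_dvd Nat.card_pos (card_map_dvd B₀ π))
    have hcentral : O ≤ centralizer ((S : Subgroup G) : Set G) := by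
      refine CfsgLib.Coprime.le_of_hyperplanes (p := 2) hB₀e (le_trans (by norm_num) hB₀8)
        (fun e => Nat.not_even_iff_odd.2 hOodd (even_iff_two_dvd.2 e)) (by rw [normalizer_eq_top]; exact le_top)
        fun E hEB hE2 o ho => ?_
      obtain ⟨hoO, hoE⟩ := mem_inf.1 ho
      have hcard : 4 ≤ Nat.card E := by
        have h1 := (E.subgroupOf B₀).card_mul_index
        rw [Nat.card_congr (subgroupOfEquivOfLe hEB).toEquiv, show (E.subgroupOf B₀).index = 2 from hE2] at h1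
        omega
      obtain ⟨a, ha, ha1, b, hb, hb1, hab⟩ : ∃ a ∈ E, a ≠ 1 ∧ ∃ b ∈ E, b ≠ 1 ∧ a ≠ b := by
        classical
        letI := Fintype.ofFinite ↥E
        rw [Nat.card_eq_fintype_card] at hcard
        obtain ⟨a, b, c, h1, h2, h3⟩ := Fintype.two_lt_card_iff.1 (show 2 < Fintype.card ↥E by omega)
        have key : ∀ u v : ↥E, u ≠ v → (u : G) ≠ v := fun u v huv e => huv (Subtype.ext e)
        by_cases ha : (a : G) = 1
        · exact ⟨b, b.2, fun e => key a b h1 (ha.trans e.symm), c, c.2, fun e => key a c h2 (ha.trans e.symm),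
            key b c h3⟩
        by_cases hb : (b : G) = 1
        · exact ⟨a, a.2, ha, c, c.2, fun e => key b c h3 (hb.trans e.symm), key a c h2⟩
        exact ⟨a, a.2, ha, b, b.2, hb, key a b h1⟩
      have hsq : ∀ u ∈ E, u * u = 1 := fun u hu => by rw [← pow_two]; exact hB₀e.2 u (hEB hu)
      have hfix : ∀ u ∈ E, o * u * o⁻¹ = u := fun u hu => by
        rw [← mem_centralizer_iff.1 hoE u hu, mul_inv_cancel_right]
      have hn := h.mem_normalizer (S := S) (g := o) (invol_iff.2 ⟨hsq a ha, ha1⟩) (invol_iff.2 ⟨hsq b hb, hb1⟩)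
        (congrArg Subtype.val (hB₀e.1.is_comm.comm ⟨a, hEB ha⟩ ⟨b, hEB hb⟩) :) hab (hEB ha).1 (hEB hb).1
        (by rw [hfix a ha]; exact (hEB ha).1) (by rw [hfix b hb]; exact (hEB hb).1)
      refine mem_centralizer_iff.2 fun s hs => ?_
      have h1 : o * s * o⁻¹ * s⁻¹ = 1 := hinj S _ (mul_mem ((mem_set_normalizer_iff.1 hn s).1 hs) (inv_mem hs)) (by
        rw [show o * s * o⁻¹ * s⁻¹ = o * (s * o⁻¹ * s⁻¹) by group]
        exact mul_mem hoO (hOn.conj_mem _ (inv_mem hoO) s))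
      exact (mul_inv_eq_iff_eq_mul.1 (mul_inv_eq_one.1 h1)).symm
    set Q' := Cfsg.pCore 2 (G ⧸ O) with hQ'
    haveI : Q'.Normal := CfsgLib.Coprime.pCore_normal' (G := G ⧸ O) 2
    haveI : (Cfsg.pCore 2 G).Normal := CfsgLib.Coprime.pCore_normal' (G := G) 2
    have hpS : Cfsg.pCore 2 G ≤ (S : Subgroup G) := normal_le_sylow (CfsgLib.Coprime.pCore_isPGroup (G := G) 2) S
    set Q₀ := (S : Subgroup G) ⊓ Q'.comap π
    have hQ'S : Q' ≤ (S : Subgroup G).map π := by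
      have := normal_le_sylow (CfsgLib.Coprime.pCore_isPGroup (G := G ⧸ O) 2) (S.mapSurjective hπ)
      rwa [Sylow.coe_mapSurjective] at this
    have hdec : ∀ w ∈ Q'.comap π, ∃ q ∈ Q₀, ∃ o ∈ O, q * o = w := fun w hw => by
      obtain ⟨s, hs, hse⟩ := hQ'S hw
      exact ⟨s, ⟨hs, show π s ∈ Q' from hse.symm ▸ hw⟩, s⁻¹ * w, (hker _).1 (by rw [map_mul, map_inv, hse, inv_mul_cancel]),
        mul_inv_cancel_left s w⟩
    have hQ₀ : Q₀ = Cfsg.pCore 2 G := by
      refine le_antisymm ?_ (le_inf hpS ?_)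
      · haveI : Q₀.Normal := ⟨fun x hx g => by
          obtain ⟨q, hq, o, ho, e1⟩ := hdec (g * x * g⁻¹) ((inferInstance : (Q'.comap π).Normal).conj_mem x hx.2 g)
          obtain ⟨j, hj⟩ := S.2 ⟨x, hx.1⟩
          obtain ⟨i, hi⟩ := S.2 ⟨q, hq.1⟩
          have hqo : Commute q o := mem_centralizer_iff.1 (hcentral ho) q hq.1
          have hxp : (g * x * g⁻¹) ^ 2 ^ (j + i) = 1 := by
            rw [conj_pow, pow_add, pow_mul, show x ^ 2 ^ j = 1 from congrArg Subtype.val hj, one_pow, mul_one,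
              mul_inv_cancel]
          have ho1 : o ^ 2 ^ (j + i) = 1 := by
            rw [← e1, hqo.mul_pow, show q ^ 2 ^ (j + i) = 1 by
              rw [add_comm, pow_add, pow_mul, show q ^ 2 ^ i = 1 from congrArg Subtype.val hi, one_pow], one_mul] at hxp
            exact hxp
          have ho2 : o = 1 := orderOf_eq_one_iff.1 (Nat.eq_one_of_dvd_coprimes
            ((Nat.coprime_two_left.2 hOodd).pow_left (j + i)) (orderOf_dvd_of_pow_eq_one ho1)
            (Subgroup.orderOf_dvd_natCard O ho))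
          rw [← e1, ho2, mul_one]
          exact hq⟩
        exact le_sSup ⟨inferInstance, S.2.to_le inf_le_left⟩
      · rw [← map_le_iff_le_comap]
        exact le_sSup ⟨(inferInstance : (Cfsg.pCore 2 G).Normal).map π hπ, (CfsgLib.Coprime.pCore_isPGroup (G := G) 2).map π⟩
    have hW : Cfsg.pCore 2 G ⊔ O = Q'.comap π := by
      refine le_antisymm (sup_le (hQ₀ ▸ inf_le_right) fun o ho => ?_) fun w hw => ?_
      · rw [mem_comap, (hker o).2 ho]; exact one_mem _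
      · obtain ⟨q, hq, o, ho, rfl⟩ := hdec w hw
        exact mul_mem_sup (hQ₀ ▸ hq) ho
    have hle : Cfsg.pCore 2 G ⊔ O ≤ Γ₁.comap π := hW ▸ comap_mono hQΓ
    have hnW : (Cfsg.pCore 2 G ⊔ O).Normal := inferInstance
    refine ⟨Γ₁.comap π, inferInstance, inferInstance, ?_, hle, ⟨n, ⟨?_⟩⟩, ?_⟩
    · rwa [index_comap_of_surjective _ hπ]
    · have hbij : (Cfsg.pCore 2 G).map π = Q' := by
        rw [← hQ₀]
        refine le_antisymm (map_le_iff_le_comap.2 inf_le_right) fun q hq => ?_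
        obtain ⟨s, hs, rfl⟩ := hQ'S hq
        exact mem_map_of_mem π ⟨hs, hq⟩
      exact ((MulEquiv.ofBijective (π.subgroupMap (Cfsg.pCore 2 G))
        ⟨(injective_iff_map_eq_one _).2 fun x hx => Subtype.ext (hinj S _ (hpS x.2) ((hker _).1 (congrArg Subtype.val hx))),
          π.subgroupMap_surjective _⟩).trans (MulEquiv.subgroupCongr hbij)).trans e
    · let φ : ↥(Γ₁.comap π) →* ↥Γ₁ ⧸ Q'.subgroupOf Γ₁ :=
        (QuotientGroup.mk' (Q'.subgroupOf Γ₁)).comp ((π.comp (Γ₁.comap π).subtype).codRestrict Γ₁ fun w => w.2)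
      have hφ : Function.Surjective φ := fun l => by
        obtain ⟨⟨p, hp⟩, rfl⟩ := QuotientGroup.mk'_surjective _ l
        obtain ⟨w, rfl⟩ := hπ p
        exact ⟨⟨w, hp⟩, rfl⟩
      have hk : (Cfsg.pCore 2 G ⊔ O).subgroupOf (Γ₁.comap π) = φ.ker := by
        ext w
        rw [mem_subgroupOf, MonoidHom.mem_ker, hW, mem_comap]
        exact (QuotientGroup.eq_one_iff (N := Q'.subgroupOf Γ₁) (⟨π w, w.2⟩ : ↥Γ₁)).symm
      let e' := (QuotientGroup.quotientMulEquivOfEq hk).trans (QuotientGroup.quotientKerEquivOfSurjective φ hφ)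
      rcases hfam with ⟨m, F, iF, iF', a, b, ⟨f⟩⟩ | ⟨m, F, iF, iF', a, b, ⟨f⟩⟩ | ⟨m, F, iF, iF', a, b, ⟨f⟩⟩
      · exact Or.inl ⟨m, F, iF, iF', a, b, ⟨e'.trans f⟩⟩
      · exact Or.inr (Or.inl ⟨m, F, iF, iF', a, b, ⟨e'.trans f⟩⟩)
      · exact Or.inr (Or.inr ⟨m, F, iF, iF', a, b, ⟨e'.trans f⟩⟩)
  · right
    refine ⟨G₁.comap π, inferInstance, inferInstance, ?_, fun o ho => ?_, Z, hZn, hZ, ⟨?_⟩⟩
    · rwa [index_comap_of_surjective _ hπ]
    · rw [mem_comap, (hker o).2 ho]; exact one_mem _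
    · let φ : ↥(G₁.comap π) →* ↥G₁ := (π.comp (G₁.comap π).subtype).codRestrict G₁ fun w => w.2
      have hφ : Function.Surjective φ := fun l => by
        obtain ⟨w, hw⟩ := hπ l.1
        exact ⟨⟨w, show π w ∈ G₁ from hw.symm ▸ l.2⟩, Subtype.ext hw⟩
      have hk : O.subgroupOf (G₁.comap π) = φ.ker := by
        ext w
        rw [mem_subgroupOf, MonoidHom.mem_ker, Subtype.ext_iff]
        exact (hker (w : G)).symm
      exact ((QuotientGroup.quotientMulEquivOfEq hk).trans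
        (QuotientGroup.quotientKerEquivOfSurjective φ hφ)).trans e

end CfsgLib.RankOneInter
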