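import Cfsg.Agent.Lib.Invol.CyclicInter.Odd
import Cfsg.Agent.Lib.Invol.CentralInter.Basic

/-!
# A Sylow subgroup normalized by the normalizer of its trace lies in the simple normal subgroup

The proof of the index theorem for cyclic intersections, with that hypothesis in place of the one on all
intersections.
-/

set_option autoImplicit false
set_option linter.unusedSectionVars false
set_option linter.style.haveILetI false

namespace CfsgLib.RankOneInter

open Subgroup CfsgLib.Invol CfsgLib.CycInter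

variable {G : Type*} [Group G] [Finite G]

/-- The Sylow subgroup lies in `N`. -/
theorem sylow_le_of_normalizer {N : Subgroup G} [N.Normal] [IsSimpleGroup ↥N]
    (hC : centralizer (N : Set G) = ⊥) {Q : Sylow 2 ↥N} {τ : ↥N} (hτ : TData (Q : Subgroup ↥N) τ)
    (S : Sylow 2 G) (hS : (Q : Subgroup ↥N).map N.subtype ≤ S)
    (hnorm : ∀ m : ↥N, (∀ s, s ∈ (Q : Subgroup ↥N) ↔ m * s * m⁻¹ ∈ (Q : Subgroup ↥N)) →
      ∀ s ∈ (S : Subgroup G), (m : G) * s * (m : G)⁻¹ ∈ (S : Subgroup G)) :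
    (S : Subgroup G) ≤ N := by
  classical
  haveI hfact : Fact (Nat.Prime 2) := ⟨Nat.prime_two⟩
  by_contra hnle
  have hSN : ∀ n : ↥N, (n : G) ∈ (S : Subgroup G) ↔ n ∈ (Q : Subgroup ↥N) := by
    intro n
    refine ⟨fun hn => ?_, fun hn => hS (mem_map_of_mem _ hn)⟩
    have hp : IsPGroup 2 ((S : Subgroup G).comap N.subtype) :=
      S.2.comap_of_injective _ N.subtype_injective
    rw [← Q.3 hp (fun m hm => hS (mem_map_of_mem _ hm))]
    exact hn
  obtain ⟨a₀, ha₀, b₀, hb₀, haa, hbb, ha1, hb1, hab⟩ := hτ.two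
  have hτS := hnorm τ hτ.normal
  -- an element of the Sylow subgroup outside `N` with square inside
  obtain ⟨x₀, hx₀S, hx₀N, hx₀2⟩ : ∃ x ∈ (S : Subgroup G), x ∉ N ∧ x * x ∈ N := by
    obtain ⟨y, hy, hyN⟩ : ∃ y ∈ (S : Subgroup G), y ∉ N := SetLike.not_le_iff_exists.1 hnle
    obtain ⟨k, hk⟩ := S.2 ⟨y, hy⟩
    have hex : ∃ j, y ^ 2 ^ j ∈ N := ⟨k, by
      rw [show y ^ 2 ^ k = 1 from congrArg Subtype.val hk]; exact one_mem _⟩
    obtain ⟨i, hi⟩ := Nat.exists_eq_succ_of_ne_zero (n := Nat.find hex) fun e => hyN (by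
      have := Nat.find_spec hex
      rwa [e, pow_zero, pow_one] at this)
    refine ⟨y ^ 2 ^ i, pow_mem hy _, Nat.find_min hex (show i < Nat.find hex by omega), ?_⟩
    rw [← pow_two, ← pow_mul, ← pow_succ]
    have := Nat.find_spec hex
    rwa [hi] at this
  -- make it commute with `τ`
  obtain ⟨s, hsQ, hs⟩ : ∃ s ∈ (Q : Subgroup ↥N), (s : G) = x₀ * τ * x₀⁻¹ * (τ : G)⁻¹ := by
    refine ⟨⟨x₀ * τ * x₀⁻¹ * (τ : G)⁻¹, mul_mem (‹N.Normal›.conj_mem _ τ.2 x₀) (inv_mem τ.2)⟩, (hSN _).1 ?_, rfl⟩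
    show x₀ * τ * x₀⁻¹ * (τ : G)⁻¹ ∈ (S : Subgroup G)
    rw [show x₀ * τ * x₀⁻¹ * (τ : G)⁻¹ = x₀ * ((τ : G) * x₀⁻¹ * (τ : G)⁻¹) by group]
    exact mul_mem hx₀S (hτS _ (inv_mem hx₀S))
  let f : ↥(Q : Subgroup ↥N) → ↥(Q : Subgroup ↥N) := fun u =>
    ⟨(u : ↥N) * (τ * (u : ↥N)⁻¹ * τ⁻¹), mul_mem u.2 ((hτ.normal _).1 (inv_mem u.2))⟩
  have hf : Function.Injective f := by
    intro u v e
    have e' : (u : ↥N) * (τ * (u : ↥N)⁻¹ * τ⁻¹) = (v : ↥N) * (τ * (v : ↥N)⁻¹ * τ⁻¹) := congrArg Subtype.val e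
    refine Subtype.ext (eq_of_inv_mul_eq_one (hτ.fixed_eq_one Q.2 (mul_mem (inv_mem u.2) v.2) ?_))
    calc τ * ((u : ↥N)⁻¹ * (v : ↥N)) * τ⁻¹
        = (u : ↥N)⁻¹ * ((u : ↥N) * (τ * (u : ↥N)⁻¹ * τ⁻¹)) * (τ * (v : ↥N) * τ⁻¹) := by group
      _ = (u : ↥N)⁻¹ * (v : ↥N) := by rw [e']; group
  obtain ⟨u, hu⟩ := Finite.surjective_of_injective hf ⟨s, hsQ⟩
  have hu' : ((u : ↥N) : G) * ((τ : G) * ((u : ↥N) : G)⁻¹ * (τ : G)⁻¹) = x₀ * τ * x₀⁻¹ * (τ : G)⁻¹ := by
    rw [← hs]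
    exact congrArg (fun w : ↥(Q : Subgroup ↥N) => ((w : ↥N) : G)) hu
  set x := ((u : ↥N) : G)⁻¹ * x₀ with hx
  have hxτ : x * τ * x⁻¹ = τ := by
    calc x * τ * x⁻¹ = ((u : ↥N) : G)⁻¹ * (x₀ * τ * x₀⁻¹ * (τ : G)⁻¹) * ((τ : G) * ((u : ↥N) : G)) := by
          rw [hx]; group
      _ = τ := by rw [← hu']; group
  have hxS : x ∈ (S : Subgroup G) := mul_mem (inv_mem ((hSN _).2 u.2)) hx₀S
  have hxN : x ∉ N := fun h => hx₀N (by
    simpa [hx] using mul_mem (u : ↥N).2 h)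
  have hcτ : Commute x (τ : G) := mul_inv_eq_iff_eq_mul.1 hxτ
  have hx2 : x * x = 1 := by
    have hm : x * x ∈ N := by
      rw [show x * x = ((u : ↥N) : G)⁻¹ * (x₀ * ((u : ↥N) : G)⁻¹ * x₀⁻¹) * (x₀ * x₀) by rw [hx]; group]
      exact mul_mem (mul_mem (inv_mem (u : ↥N).2) (‹N.Normal›.conj_mem _ (inv_mem (u : ↥N).2) x₀)) hx₀2
    have h1 : (⟨x * x, hm⟩ : ↥N) = 1 := hτ.fixed_eq_one Q.2 ((hSN _).1 (mul_mem hxS hxS)) (Subtype.ext (by
      show (τ : G) * (x * x) * (τ : G)⁻¹ = x * x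
      rw [((hcτ.mul_left hcτ).symm).eq, mul_inv_cancel_right]))
    exact congrArg Subtype.val h1
  have hxi : x⁻¹ = x := inv_eq_of_mul_eq_one_left hx2
  -- conjugation by `x`
  let c : ↥N ≃* ↥N :=
    { toFun := fun n => ⟨x * n * x⁻¹, ‹N.Normal›.conj_mem _ n.2 x⟩
      invFun := fun n => ⟨x * n * x⁻¹, ‹N.Normal›.conj_mem _ n.2 x⟩
      left_inv := fun n => Subtype.ext (by
        show x * (x * n * x⁻¹) * x⁻¹ = n
        rw [hxi]; simp only [← mul_assoc, hx2, one_mul]; rw [mul_assoc, hx2, mul_one])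
      right_inv := fun n => Subtype.ext (by
        show x * (x * n * x⁻¹) * x⁻¹ = n
        rw [hxi]; simp only [← mul_assoc, hx2, one_mul]; rw [mul_assoc, hx2, mul_one])
      map_mul' := fun a b => Subtype.ext (by
        show x * ((a : G) * b) * x⁻¹ = x * a * x⁻¹ * (x * b * x⁻¹)
        group) }
  have hc : ∀ n, (c n : G) = x * n * x⁻¹ := fun n => rfl
  have hcc : ∀ n, c (c n) = n := c.left_inv
  have hcQ : ∀ n ∈ (Q : Subgroup ↥N), c n ∈ (Q : Subgroup ↥N) := fun n hn =>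
    (hSN _).1 (mul_mem (mul_mem hxS ((hSN _).2 hn)) (inv_mem hxS))
  have hcτ' : c τ = τ := Subtype.ext hxτ
  -- `x` fixes all involutions of `Q`
  have hfix : ∀ z ∈ (Q : Subgroup ↥N), z * z = 1 → c z = z := by
    obtain ⟨z₀, hz₀, hzz₀, hz₀1, hz₀c⟩ : ∃ z ∈ (Q : Subgroup ↥N), z * z = 1 ∧ z ≠ 1 ∧ c z = z := by
      by_cases hca : c a₀ = a₀
      · exact ⟨a₀, ha₀, haa, ha1, hca⟩
      have hcomm : a₀ * c a₀ = c a₀ * a₀ := (hτ.central a₀ ha₀ haa _ (hcQ _ ha₀)).symm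
      have hca2 : c a₀ * c a₀ = 1 := by rw [← map_mul, haa, map_one]
      refine ⟨a₀ * c a₀, mul_mem ha₀ (hcQ _ ha₀), ?_, fun e => hca ?_, by rw [map_mul, hcc, ← hcomm]⟩
      · rw [mul_assoc, ← mul_assoc (c a₀), ← hcomm, mul_assoc, hca2, mul_one, haa]
      · rw [← inv_eq_of_mul_eq_one_right e, inv_eq_of_mul_eq_one_left haa]
    intro z hz hzz
    by_cases hz1 : z = 1
    · rw [hz1, map_one]
    obtain ⟨k, hk⟩ := hτ.trans z₀ hz₀ z hz hzz₀ hzz hz₀1 hz1
    rw [← hk, map_mul, map_mul, map_inv, map_pow, hcτ', hz₀c]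
  let α : ↥(Q : Subgroup ↥N) ≃* ↥(Q : Subgroup ↥N) :=
    { toFun := fun n => ⟨c n, hcQ _ n.2⟩
      invFun := fun n => ⟨c n, hcQ _ n.2⟩
      left_inv := fun n => Subtype.ext (hcc _)
      right_inv := fun n => Subtype.ext (hcc _)
      map_mul' := fun a b => Subtype.ext (map_mul c _ _) }
  have hα : ∀ n ∈ (Q : Subgroup ↥N), c n = n := fun n hn => congrArg Subtype.val
    (hτ.rigid α (fun w => Subtype.ext (hcc _)) (fun z hz => Subtype.ext (hfix _ z.2 (congrArg Subtype.val hz)))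
      (fun a b e => by
        show c (b : ↥N) = τ * c (a : ↥N) * τ⁻¹
        rw [e, map_mul, map_mul, map_inv, hcτ']) ⟨n, hn⟩)
  have hxQ : ∀ n ∈ (Q : Subgroup ↥N), Commute x (n : G) := fun n hn =>
    mul_inv_eq_iff_eq_mul.1 ((hc n).symm.trans (congrArg Subtype.val (hα n hn)))
  -- the group `N ⟨x⟩`
  let L : Subgroup G :=
    { carrier := {g | g ∈ N ∨ g * x ∈ N}
      one_mem' := Or.inl (one_mem _)
      mul_mem' := by
        rintro a b (ha | ha) (hb | hb)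
        · exact Or.inl (mul_mem ha hb)
        · exact Or.inr (by rw [mul_assoc]; exact mul_mem ha hb)
        · refine Or.inr ?_
          rw [show a * b * x = a * x * (x⁻¹ * b * x⁻¹⁻¹) by group]
          exact mul_mem ha (‹N.Normal›.conj_mem _ hb _)
        · refine Or.inl ?_
          have := mul_mem ha (‹N.Normal›.conj_mem _ hb x⁻¹)
          rw [show a * x * (x⁻¹ * (b * x) * x⁻¹⁻¹) = a * b * (x * x) by group, hx2, mul_one] at this
          exact this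
      inv_mem' := by
        rintro a (ha | ha)
        · exact Or.inl (inv_mem ha)
        · refine Or.inr ?_
          have := ‹N.Normal›.conj_mem _ (inv_mem ha) x
          rw [show x * (a * x)⁻¹ * x⁻¹ = a⁻¹ * x⁻¹ by group, hxi] at this
          exact this }
  have hxL : x ∈ L := Or.inr (by rw [hx2]; exact one_mem _)
  have hNL : N ≤ L := fun n hn => Or.inl hn
  have hSL : ∀ w ∈ (S : Subgroup G), w ∈ L → ∃ n ∈ (Q : Subgroup ↥N), w = n ∨ w = (n : G) * x := by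
    rintro w hw (hwN | hwN)
    · exact ⟨⟨w, hwN⟩, (hSN _).1 hw, Or.inl rfl⟩
    · refine ⟨⟨w * x, hwN⟩, (hSN _).1 (mul_mem hw hxS), Or.inr ?_⟩
      show w = w * x * x
      rw [mul_assoc, hx2, mul_one]
  obtain ⟨T, hT⟩ := (S.2.comap_of_injective L.subtype L.subtype_injective).exists_le_sylow
  have hTS : ∀ t : ↥L, t ∈ (T : Subgroup ↥L) → (t : G) ∈ (S : Subgroup G) := by
    have key : ∀ (u : ↥L) (hu : (u : G) ∈ N), u ∈ (T : Subgroup ↥L) → (u : G) ∈ (S : Subgroup G) := by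
      intro u hu huT
      have hp : IsPGroup 2 ((T : Subgroup ↥L).comap (Subgroup.inclusion hNL)) :=
        T.2.comap_of_injective _ (Subgroup.inclusion_injective hNL)
      exact (hSN ⟨u, hu⟩).2 (Q.3 hp (fun n hn => hT (show (n : G) ∈ (S : Subgroup G) from (hSN n).2 hn)) ▸
        (show (⟨u, hu⟩ : ↥N) ∈ (T : Subgroup ↥L).comap (Subgroup.inclusion hNL) from huT))
    intro t ht
    rcases t.2 with htN | htN
    · exact key t htN ht
    · have hxT : (⟨x, hxL⟩ : ↥L) ∈ (T : Subgroup ↥L) := hT hxS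
      have h1 : (t : G) * x ∈ (S : Subgroup G) := key (t * ⟨x, hxL⟩) htN (mul_mem ht hxT)
      simpa [mul_assoc, hx2] using mul_mem h1 hxS
  have hxone : x ≠ 1 := fun e => hxN (e ▸ one_mem _)
  have hxo : orderOf (⟨x, hxL⟩ : ↥L) = 2 := by
    rw [Subgroup.orderOf_mk]
    exact invol_iff.2 ⟨hx2, hxone⟩
  -- `x` is isolated there
  have hiso : IsZCentral (⟨x, hxL⟩ : ↥L) := by
    refine zstar_of_weakly_closed T hxo fun g hg => Subtype.ext ?_
    show (g : G) * x * (g : G)⁻¹ = x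
    set y := (g : G) * x * (g : G)⁻¹ with hy
    have hyS : y ∈ (S : Subgroup G) := hTS _ hg
    have hyN : y ∉ N := fun h => hxN (by
      have := ‹N.Normal›.conj_mem _ h (g : G)⁻¹
      rwa [hy, show (g : G)⁻¹ * ((g : G) * x * (g : G)⁻¹) * (g : G)⁻¹⁻¹ = x by group] at this)
    obtain ⟨z, hz, e | e⟩ := hSL y hyS (mul_mem (mul_mem g.2 hxL) (inv_mem g.2))
    · exact absurd (e ▸ z.2) hyN
    by_contra hne
    have hzc : ∀ n ∈ (Q : Subgroup ↥N), Commute (y : G) (n : G) := by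
      have hzz : z * z = 1 := Subtype.ext (by
        have hy2 : y * y = 1 := by
          rw [hy, show (g : G) * x * (g : G)⁻¹ * ((g : G) * x * (g : G)⁻¹) = (g : G) * (x * x) * (g : G)⁻¹ by group,
            hx2, mul_one, mul_inv_cancel]
        rw [e, (hxQ z hz).mul_mul_mul_comm, hx2, mul_one] at hy2
        exact hy2)
      intro n hn
      rw [e]
      exact Commute.mul_left (congrArg Subtype.val (hτ.central z hz hzz n hn)).symm (hxQ n hn)
    -- Sylow in the centralizer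
    let CN : Subgroup ↥N := (centralizer ({x} : Set G)).comap N.subtype
    let CY : Subgroup ↥N := (centralizer ({y} : Set G)).comap N.subtype
    have hQX : (Q : Subgroup ↥N) ≤ CN := fun n hn => mem_centralizer_singleton_iff.2 (hxQ n hn).symm
    obtain ⟨n, hn⟩ : ∃ n : ↥N, (n : G) * x * (n : G)⁻¹ = y := by
      rcases g.2 with hgN | hgN
      · exact ⟨⟨g, hgN⟩, rfl⟩
      · refine ⟨⟨(g : G) * x, hgN⟩, ?_⟩
        show (g : G) * x * x * ((g : G) * x)⁻¹ = y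
        rw [mul_inv_rev, hxi, mul_assoc (g : G) x x, hx2, mul_one, ← mul_assoc, hy]
    -- conjugate so as to normalise `Q`
    have hP : IsPGroup 2 ((((MulAut.conj n) • Q : Sylow 2 ↥N) : Subgroup ↥N).subgroupOf CY) :=
      (((MulAut.conj n) • Q : Sylow 2 ↥N)).2.comap_subtype
    have hQY : (Q : Subgroup ↥N) ≤ CY := fun m hm => mem_centralizer_singleton_iff.2 (hzc m hm).symm
    obtain ⟨k, hk⟩ := exists_conj_le_sylow hP (Q.subtype hQY)
    set m : ↥N := (k : ↥N) * n with hm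
    have hmx : (m : G) * x * (m : G)⁻¹ = y := by
      have hky : ((k : ↥N) : G) * y = y * ((k : ↥N) : G) := mem_centralizer_singleton_iff.1 k.2
      calc (m : G) * x * (m : G)⁻¹ = ((k : ↥N) : G) * ((n : G) * x * (n : G)⁻¹) * ((k : ↥N) : G)⁻¹ := by
            rw [hm, Subgroup.coe_mul]; group
        _ = y := by rw [hn, hky, mul_inv_cancel_right]
    have hmQ : ∀ q ∈ (Q : Subgroup ↥N), m * q * m⁻¹ ∈ (Q : Subgroup ↥N) := fun q hq => by
      have hqY : n * q * n⁻¹ ∈ CY := mem_centralizer_singleton_iff.2 (by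
        show (n : G) * q * (n : G)⁻¹ * y = y * ((n : G) * q * (n : G)⁻¹)
        rw [← hn]
        calc (n : G) * q * (n : G)⁻¹ * ((n : G) * x * (n : G)⁻¹) = (n : G) * ((q : G) * x) * (n : G)⁻¹ := by group
          _ = (n : G) * (x * q) * (n : G)⁻¹ := by rw [(hxQ q hq).eq]
          _ = (n : G) * x * (n : G)⁻¹ * ((n : G) * q * (n : G)⁻¹) := by group)
      have := hk ⟨n * q * n⁻¹, hqY⟩ (by
        show n * q * n⁻¹ ∈ (((MulAut.conj n) • Q : Sylow 2 ↥N) : Subgroup ↥N)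
        rw [Sylow.pointwise_smul_def, mem_smul_pointwise_iff_exists]
        exact ⟨q, hq, rfl⟩)
      rw [show m * q * m⁻¹ = (k : ↥N) * (n * q * n⁻¹) * (k : ↥N)⁻¹ by rw [hm]; group]
      exact this
    let M : Subgroup ↥N := normalizer ((Q : Subgroup ↥N) : Set ↥N)
    have hmM : m ∈ M := by
      refine mem_set_normalizer_iff.2 fun q => ⟨hmQ q, fun h => ?_⟩
      obtain ⟨w, hw⟩ := Finite.surjective_of_injective
        (f := fun w : ↥(Q : Subgroup ↥N) => (⟨m * w * m⁻¹, hmQ _ w.2⟩ : ↥(Q : Subgroup ↥N)))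
        (fun a b h => Subtype.ext (mul_left_cancel (mul_right_cancel (congrArg Subtype.val h)))) ⟨_, h⟩
      have hw' := congrArg Subtype.val hw
      exact (mul_left_cancel (mul_right_cancel hw') : (w : ↥N) = q) ▸ w.2
    have hτM : τ ∈ M := mem_set_normalizer_iff.2 hτ.normal
    -- the orbit of `x` is odd
    letI : MulAction ↥M G := MulAction.compHom G
      ((ConjAct.toConjAct (G := G)).toMonoidHom.comp (N.subtype.comp M.subtype))
    have hsmul : ∀ (a : ↥M) (w : G), a • w = ((a : ↥N) : G) * w * ((a : ↥N) : G)⁻¹ := fun a w => rfl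
    have hoddO : Odd (MulAction.orbit ↥M x).ncard := by
      rw [← Nat.card_coe_set_eq, Nat.card_congr (MulAction.orbitEquivQuotientStabilizer ↥M x),
        ← Subgroup.index_eq_card, ← Nat.not_even_iff_odd]
      intro he
      have hle : (Q : Subgroup ↥N).subgroupOf M ≤ MulAction.stabilizer ↥M x := fun a ha => by
        rw [MulAction.mem_stabilizer_iff, hsmul, ← (hxQ (a : ↥N) ha).eq, mul_inv_cancel_right]
      have h1 : 2 ∣ (Q : Subgroup ↥N).relIndex M := he.two_dvd.trans (Subgroup.index_dvd_of_le hle)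
      exact Q.not_dvd_index (h1.trans (Subgroup.relIndex_dvd_index_of_le le_normalizer))
    let Z : Subgroup ↥N :=
      { carrier := {w | w ∈ (Q : Subgroup ↥N) ∧ w * w = 1}
        one_mem' := ⟨one_mem _, one_mul 1⟩
        mul_mem' := by
          rintro a b ⟨ha, ha2⟩ ⟨hb, hb2⟩
          refine ⟨mul_mem ha hb, ?_⟩
          rw [mul_assoc, ← mul_assoc b a b, hτ.central a ha ha2 b hb, mul_assoc a b b, hb2, mul_one, ha2]
        inv_mem' := by
          rintro a ⟨ha, ha2⟩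
          exact ⟨inv_mem ha, by rw [← mul_inv_rev, ha2, inv_one]⟩ }
    have horb : ∀ w ∈ MulAction.orbit ↥M x, ∃ v ∈ Z, w = (v : G) * x := by
      rintro _ ⟨a, rfl⟩
      show ∃ v ∈ Z, a • x = (v : G) * x
      rw [hsmul]
      have haS : ((a : ↥N) : G) * x * ((a : ↥N) : G)⁻¹ ∈ (S : Subgroup G) :=
        hnorm _ (mem_set_normalizer_iff.1 a.2) x hxS
      have haN : ((a : ↥N) : G) * x * ((a : ↥N) : G)⁻¹ ∉ N := fun h => hxN (by
        have := ‹N.Normal›.conj_mem _ h ((a : ↥N) : G)⁻¹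
        rwa [show ((a : ↥N) : G)⁻¹ * (((a : ↥N) : G) * x * ((a : ↥N) : G)⁻¹) * ((a : ↥N) : G)⁻¹⁻¹ = x by group] at this)
      obtain ⟨v, hv, e | e⟩ := hSL _ haS (mul_mem (mul_mem (hNL (a : ↥N).2) hxL) (inv_mem (hNL (a : ↥N).2)))
      · exact absurd (e ▸ v.2) haN
      refine ⟨v, ⟨hv, Subtype.ext ?_⟩, e⟩
      have h2 : ((a : ↥N) : G) * x * ((a : ↥N) : G)⁻¹ * (((a : ↥N) : G) * x * ((a : ↥N) : G)⁻¹) = 1 := by
        rw [show ((a : ↥N) : G) * x * ((a : ↥N) : G)⁻¹ * (((a : ↥N) : G) * x * ((a : ↥N) : G)⁻¹) =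
          ((a : ↥N) : G) * (x * x) * ((a : ↥N) : G)⁻¹ by group, hx2, mul_one, mul_inv_cancel]
      rw [e, (hxQ v hv).mul_mul_mul_comm, hx2, mul_one] at h2
      exact h2
    have hZ : MulAction.orbit ↥M x = (fun v : ↥N => (v : G) * x) '' (Z : Set ↥N) := by
      refine Set.Subset.antisymm (fun w hw => ?_) ?_
      · obtain ⟨v, hv, rfl⟩ := horb w hw
        exact ⟨v, hv, rfl⟩
      rintro _ ⟨v, ⟨hv, hv2⟩, rfl⟩
      by_cases hv1 : v = 1
      · rw [hv1]
        show ((1 : ↥N) : G) * x ∈ _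
        rw [Subgroup.coe_one, one_mul]
        exact MulAction.mem_orbit_self x
      obtain ⟨z', ⟨hz', hz'2⟩, hz'e⟩ := horb y ⟨⟨m, hmM⟩, (hsmul _ _).trans hmx⟩
      have hz'1 : z' ≠ 1 := fun e1 => hne (by rw [hz'e, e1, Subgroup.coe_one, one_mul])
      obtain ⟨j, hj⟩ := hτ.trans z' hz' v hv hz'2 hv2 hz'1 hv1
      refine ⟨⟨τ ^ j * m, mul_mem (pow_mem hτM j) hmM⟩, ?_⟩
      show ((τ ^ j * m : ↥N) : G) * x * ((τ ^ j * m : ↥N) : G)⁻¹ = (v : G) * x
      rw [← hj]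
      simp only [Subgroup.coe_mul, Subgroup.coe_pow, Subgroup.coe_inv]
      have hcx := (hcτ.symm.pow_left j).eq
      calc (τ : G) ^ j * (m : G) * x * ((τ : G) ^ j * (m : G))⁻¹
          = (τ : G) ^ j * ((m : G) * x * (m : G)⁻¹) * ((τ : G) ^ j)⁻¹ := by group
        _ = (τ : G) ^ j * (z' : G) * ((τ : G) ^ j)⁻¹ * x := by
          rw [hmx, hz'e, ← mul_assoc, mul_assoc ((τ : G) ^ j * (z' : G)) x, ← (hcτ.symm.pow_left j).inv_left.eq,
            ← mul_assoc]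
    rw [hZ, Set.ncard_image_of_injective _ (fun a b h => Subtype.ext (mul_right_cancel h)),
      ← Nat.card_coe_set_eq] at hoddO
    have h2 : orderOf (⟨a₀, ha₀, haa⟩ : ↥Z) = 2 := by
      rw [← Subgroup.orderOf_coe]
      exact invol_iff.2 ⟨haa, ha1⟩
    exact Nat.not_even_iff_odd.2 hoddO (even_iff_two_dvd.2 (h2 ▸ orderOf_dvd_natCard _))
  -- so `x` centralises `N`
  have hO : (Cfsg.pPrimeCore 2 ↥L).comap (Subgroup.inclusion hNL) = ⊥ := by
    haveI : (Cfsg.pPrimeCore 2 ↥L).Normal := by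
      rw [CfsgLib.Coprime.pPrimeCore_eq_piCore Nat.prime_two]; infer_instance
    refine ((inferInstance : ((Cfsg.pPrimeCore 2 ↥L).comap (Subgroup.inclusion hNL)).Normal).eq_bot_or_eq_top).resolve_right
      fun e => ?_
    have hmem : Subgroup.inclusion hNL a₀ ∈ Cfsg.pPrimeCore 2 ↥L :=
      Subgroup.mem_comap.1 (e ▸ Subgroup.mem_top a₀)
    refine notMem_pPrimeCore ?_ hmem
    rw [orderOf_injective _ (Subgroup.inclusion_injective hNL)]
    exact invol_iff.2 ⟨haa, ha1⟩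
  refine hxone (Subgroup.mem_bot.1 (hC ▸ mem_centralizer_iff.2 fun n hn => ?_))
  have hmem : (⟨x * n * x⁻¹ * n⁻¹, mul_mem (‹N.Normal›.conj_mem _ hn x) (inv_mem hn)⟩ : ↥N) = 1 := by
    rw [← Subgroup.mem_bot, ← hO, Subgroup.mem_comap]
    exact hiso ⟨n, hNL hn⟩
  have h1 : x * n * x⁻¹ * n⁻¹ = 1 := congrArg Subtype.val hmem
  calc n * x = x * n * x⁻¹ * n⁻¹ * n * x := by rw [h1, one_mul]
    _ = x * n := by group

end CfsgLib.RankOneInter
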