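import Cfsg.Agent.Lib.Invol.RankOneInter.QFacts
import Cfsg.Agent.Lib.Invol.ZStar
import Cfsg.Agent.Lib.Invol.TwoClasses
import Cfsg.Agent.Lib.Fusion.Tate
import Cfsg.Agent.Lib.Fusion.Sylow
import Cfsg.Agent.Lib.LocalStructure.Basic
import Cfsg.Agent.Lib.Bender.Full.CaseNonlonely.Facts
import Cfsg.Agent.Lib.CIT.TI

/-!
# A simple factor with quaternion Sylow subgroups forces a quaternion Sylow subgroup

`z` is a central involution, `M / ⟨z⟩` is simple and `z` is the only involution of `M`.  If an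
involution `x` lies outside, it normalizes one quaternion Sylow subgroup of `M` only, which is
impossible.
-/

set_option autoImplicit false
set_option linter.unusedSectionVars false

namespace CfsgLib.RankOneInter.QuatF

open Subgroup CfsgLib.Invol

universe u

/-- `a` and `b` agree modulo `⟨z⟩`. -/
def Eqz {G : Type u} [Group G] (z a b : G) : Prop := a = b ∨ a = b * z

/-- `z` is central and is the only involution of `M`. -/
structure OneZ {G : Type u} [Group G] (M : Subgroup G) (z : G) : Prop where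
  hz : orderOf z = 2
  hzc : ∀ g : G, Commute z g
  hzM : z ∈ M
  one : ∀ a ∈ M, a * a = 1 → a = 1 ∨ a = z

variable {G : Type u} [Group G] {M : Subgroup G} {z : G}

namespace OneZ

variable (h : OneZ M z)
include h

theorem zz : z * z = 1 := invol_mul_self h.hz

theorem ne_one : z ≠ 1 := invol_ne_one h.hz

theorem conj_z (g : G) : g * z * g⁻¹ = z := by
  rw [← (h.hzc g).eq, mul_inv_cancel_right]

theorem swap {a b : G} (e : a = b * z) : b = a * z := by
  rw [e, mul_assoc, h.zz, mul_one]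

theorem symm {a b : G} (e : Eqz z a b) : Eqz z b a :=
  e.imp Eq.symm h.swap

theorem normal : (zpowers z).Normal := ⟨fun x hx g => by
  obtain ⟨k, rfl⟩ := mem_zpowers_iff.1 hx
  rw [← conj_zpow, h.conj_z g]
  exact zpow_mem (mem_zpowers z) k⟩

theorem mem_zp {x : G} : x ∈ zpowers z ↔ x = 1 ∨ x = z := by
  refine ⟨fun hx => ?_, ?_⟩
  · obtain ⟨k, rfl⟩ := mem_zpowers_iff.1 hx
    rcases Int.even_or_odd' k with ⟨l, rfl | rfl⟩
    · exact Or.inl (by rw [zpow_mul, zpow_two, h.zz, one_zpow])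
    · exact Or.inr (by rw [zpow_add, zpow_mul, zpow_two, h.zz, one_zpow, one_mul, zpow_one])
  · rintro (rfl | rfl)
    · exact one_mem _
    · exact mem_zpowers _

theorem mk_eq [(zpowers z).Normal] {a b : G} :
    (QuotientGroup.mk' (zpowers z) a = QuotientGroup.mk' (zpowers z) b) ↔ Eqz z a b := by
  rw [QuotientGroup.mk'_eq_mk']
  constructor
  · rintro ⟨w, hw, rfl⟩
    rcases h.mem_zp.1 hw with rfl | rfl
    · exact Or.inl (mul_one a).symm
    · exact Or.inr (by rw [mul_assoc, h.zz, mul_one])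
  · rintro (rfl | rfl)
    · exact ⟨1, one_mem _, mul_one _⟩
    · exact ⟨z, mem_zpowers z, by rw [mul_assoc, h.zz, mul_one]⟩

theorem mem_of_eqz {S : Subgroup G} (hzS : z ∈ S) {a b : G} (e : Eqz z a b) (hb : b ∈ S) : a ∈ S := by
  rcases e with rfl | rfl
  · exact hb
  · exact mul_mem hb hzS

theorem conj_eqz {g a b : G} (e : Eqz z a b) : Eqz z (g * a * g⁻¹) (g * b * g⁻¹) := by
  rcases e with rfl | rfl
  · exact Or.inl rfl
  · refine Or.inr ?_
    rw [mul_assoc (g * b) g⁻¹ z, ← (h.hzc g⁻¹).eq]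
    group

theorem commute_eqz {g a b : G} (e : Eqz z a b) (hb : Commute g b) : Commute g a := by
  rcases e with rfl | rfl
  · exact hb
  · exact hb.mul_right (h.hzc g).symm

theorem sq_eqz {a b : G} (e : Eqz z a b) : a * a = b * b := by
  rcases e with rfl | rfl
  · rfl
  · rw [(h.hzc b).mul_mul_mul_comm, h.zz, mul_one]

/-- The four elements commuting with an element of order four. -/
theorem four {c u : G} (hc : c ∈ M) (hc2 : c * c = z) (hu : u ∈ M) (huc : Commute u c)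
    (hu2 : u * u = 1 ∨ u * u = z) : u = 1 ∨ u = z ∨ Eqz z u c := by
  rcases hu2 with hu2 | hu2
  · exact (h.one u hu hu2).imp_right Or.inl
  · refine Or.inr (Or.inr ?_)
    have hsq : u * c * (u * c) = 1 := by rw [huc.symm.mul_mul_mul_comm, hu2, hc2, h.zz]
    have hci : c⁻¹ = c * z := inv_eq_of_mul_eq_one_right (by rw [← mul_assoc, hc2, h.zz])
    rcases h.one _ (mul_mem hu hc) hsq with e | e
    · exact Or.inr (by rw [eq_inv_of_mul_eq_one_left e, hci])
    · refine Or.inl ?_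
      rw [eq_mul_inv_of_mul_eq e, hci, ← mul_assoc, (h.hzc c).eq, mul_assoc, h.zz, mul_one]

/-- A two-element commuting with `c` is in `⟨c⟩` or has `c` as a square of a power. -/
theorem root {c : G} (hc : c ∈ M) (hc2 : c * c = z) :
    ∀ (k : ℕ) (u : G), u ∈ M → u ^ 2 ^ k = 1 → Commute u c →
      u = 1 ∨ u = z ∨ Eqz z u c ∨ ∃ n : ℕ, Eqz z (u ^ n * u ^ n) c := by
  intro k
  induction k with
  | zero => intro u _ hu _; exact Or.inl (by simpa using hu)
  | succ k ih =>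
    intro u hu huk huc
    have h2 : (u * u) ^ 2 ^ k = 1 := by rw [← pow_two, ← pow_mul, ← pow_succ']; exact huk
    rcases ih (u * u) (mul_mem hu hu) h2 (huc.mul_left huc) with e | e | e | ⟨n, e⟩
    · exact (h.four hc hc2 hu huc (Or.inl e)).imp_right (Or.imp_right Or.inl)
    · exact (h.four hc hc2 hu huc (Or.inr e)).imp_right (Or.imp_right Or.inl)
    · exact Or.inr (Or.inr (Or.inr ⟨1, by simpa using e⟩))
    · refine Or.inr (Or.inr (Or.inr ⟨2 * n, ?_⟩))
      rwa [pow_mul, pow_two]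

theorem not_commute {c e : G} (hec : e * c * e⁻¹ = c * z) : ¬ Commute e c := fun hc => by
  rw [hc.eq, mul_inv_cancel_right] at hec
  exact h.ne_one (mul_eq_left.1 hec.symm)

/-- An element inverting `c` squares to `z`. -/
theorem sq_out {c e : G} (hc : c ∈ M) (hc2 : c * c = z) (he : e ∈ M) {k : ℕ} (hek : e ^ 2 ^ k = 1)
    (hec : e * c * e⁻¹ = c * z) : e * e = z := by
  have hn := h.not_commute hec
  have h1 : Commute (e * e) c := by
    rw [Commute, SemiconjBy, ← mul_inv_eq_iff_eq_mul]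
    calc e * e * c * (e * e)⁻¹ = e * (e * c * e⁻¹) * e⁻¹ := by group
      _ = e * (c * z) * e⁻¹ := by rw [hec]
      _ = (e * c * e⁻¹) * (e * z * e⁻¹) := by group
      _ = c * z * z := by rw [hec, h.conj_z]
      _ = c := by rw [mul_assoc, h.zz, mul_one]
  have h2 : (e * e) ^ 2 ^ k = 1 := by rw [(Commute.refl e).mul_pow, hek, one_mul]
  rcases h.root hc hc2 k _ (mul_mem he he) h2 h1 with e1 | e1 | e1 | ⟨n, e1⟩
  · rcases h.one e he e1 with rfl | rfl
    · exact absurd (Commute.one_left c) hn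
    · exact absurd (h.hzc c) hn
  · exact e1
  · exact absurd (h.commute_eqz (h.symm e1) ((Commute.refl e).mul_right (Commute.refl e))) hn
  · refine absurd (h.commute_eqz (h.symm e1) ?_) hn
    exact (((Commute.refl e).mul_right (Commute.refl e)).pow_right n).mul_right
      (((Commute.refl e).mul_right (Commute.refl e)).pow_right n)

/-- A noncommuting pair of elements of order four is centralized by `z` only. -/
theorem cent_pair {c e : G} (hc : c ∈ M) (hc2 : c * c = z) (hec : e * c * e⁻¹ = c * z) :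
    ∀ (k : ℕ) (y : G), y ∈ M → y ^ 2 ^ k = 1 → Commute y c → Commute y e → y = 1 ∨ y = z := by
  intro k
  induction k with
  | zero => intro y _ hy _ _; exact Or.inl (by simpa using hy)
  | succ k ih =>
    intro y hy hyk hyc hye
    have h2 : (y * y) ^ 2 ^ k = 1 := by rw [← pow_two, ← pow_mul, ← pow_succ']; exact hyk
    rcases h.four hc hc2 hy hyc (ih _ (mul_mem hy hy) h2 (hyc.mul_left hyc) (hye.mul_left hye)) with
      e1 | e1 | e1
    · exact Or.inl e1
    · exact Or.inr e1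
    · exact absurd (h.commute_eqz (h.symm e1) hye.symm) (h.not_commute hec)

end OneZ

/-- A two-element of `S`. -/
theorem exists_pow_two {S : Sylow 2 G} {u : G} (hu : u ∈ (S : Subgroup G)) : ∃ k : ℕ, u ^ 2 ^ k = 1 := by
  obtain ⟨k, hk⟩ := S.2 ⟨u, hu⟩
  exact ⟨k, congrArg Subtype.val hk⟩

/-- A two-element normalizing a Sylow subgroup lies in it. -/
theorem mem_of_normalizer [Finite G] {S : Sylow 2 G} {x : G} {k : ℕ}
    (hx : x ∈ normalizer ((S : Subgroup G) : Set G)) (hk : x ^ 2 ^ k = 1) : x ∈ (S : Subgroup G) := by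
  have hp : IsPGroup 2 (zpowers x) := by
    rintro ⟨_, i, rfl⟩
    refine ⟨k, Subtype.ext ?_⟩
    show (x ^ i) ^ (2 ^ k) = 1
    rw [← zpow_natCast, zpow_comm, zpow_natCast, hk, one_zpow]
  exact ((hp.inf_normalizer_sylow S).le ⟨mem_zpowers x, hx⟩).2

/-- A two-subgroup of `N` goes into a Sylow subgroup of `N`. -/
theorem conj_into [Finite G] {P N D : Subgroup G} (hP : IsPGroup 2 P) (hPN : P ≤ N)
    (hi : ¬ 2 ∣ P.relIndex N) (hD : IsPGroup 2 D) (hDN : D ≤ N) :
    ∃ n ∈ N, ∀ d ∈ D, n * d * n⁻¹ ∈ P := by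
  haveI : Fact (Nat.Prime 2) := ⟨Nat.prime_two⟩
  set R : Sylow 2 ↥N := (hP.comap_subtype (K := N)).toSylow hi with hR
  obtain ⟨T, hT⟩ := (hD.comap_subtype (K := N)).exists_le_sylow
  obtain ⟨n, hn⟩ := MulAction.exists_smul_eq ↥N T R
  refine ⟨n, n.2, fun d hd => ?_⟩
  have h1 : (⟨d, hDN hd⟩ : ↥N) ∈ (T : Subgroup ↥N) := hT (show d ∈ D from hd)
  have h2 : MulAut.conj n • (⟨d, hDN hd⟩ : ↥N) ∈ (R : Subgroup ↥N) := by
    rw [← hn, Sylow.coe_subgroup_smul]
    exact smul_mem_pointwise_smul _ _ _ h1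
  exact h2

/-- The Sylow two-subgroup of a nonabelian simple group is not cyclic. -/
theorem not_isCyclic_sylow {X : Type u} [Group X] [Finite X] [IsSimpleGroup X]
    (hna : ¬ IsMulCommutative X) (R : Sylow 2 X) : ¬ IsCyclic ↥(R : Subgroup X) := by
  intro hc
  haveI : Fact (Nat.Prime 2) := ⟨Nat.prime_two⟩
  have h2 := CfsgLib.CIT.two_dvd_card_of_simple hna
  have hmin := (Nat.minFac_eq_two_iff _).2 h2
  have hcomp := hc.isComplement' hmin
  rcases (MonoidHom.normal_ker (MonoidHom.transferSylow R (hc.normalizer_le_centralizer hmin))).eq_bot_or_eq_top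
    with e | e
  · rw [e, isComplement'_bot_left] at hcomp
    haveI : IsCyclic X := by
      rw [← (Subgroup.topEquiv (G := X)).isCyclic, ← hcomp]
      exact hc
    exact hna ⟨⟨fun a b => IsCyclic.commGroup.mul_comm a b⟩⟩
  · rw [e, isComplement'_top_left] at hcomp
    exact R.ne_bot_of_dvd_card h2 hcomp

variable [Finite G] [M.Normal]

/-- An element of order two outside `M` that centralizes a Sylow subgroup of `M` modulo `z`. -/
theorem false_of_central (hM : OneZ M z) [((zpowers z).subgroupOf M).Normal]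
    [IsSimpleGroup (↥M ⧸ (zpowers z).subgroupOf M)]
    (hC : ∀ g : G, (∀ k ∈ M, g * k * g⁻¹ * k⁻¹ ∈ zpowers z) → g ∈ zpowers z) (S : Sylow 2 G)
    {c : G} (hc : c ∈ (S : Subgroup G) ⊓ M) (hc2 : c * c = z) {x : G} (hx : x ∈ (S : Subgroup G))
    (hxM : x ∉ M) (hx2 : x * x = 1 ∨ x * x = z)
    (hxc : ∀ p ∈ (S : Subgroup G) ⊓ M, Commute x p) : False := by
  haveI : Fact (Nat.Prime 2) := ⟨Nat.prime_two⟩
  haveI := hM.normal
  set π := QuotientGroup.mk' (zpowers z) with hπ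
  set ρ := QuotientGroup.mk' M with hρ
  set H : Subgroup (G ⧸ zpowers z) := ((zpowers (ρ x)).comap ρ).map π with hH
  have hxxM : x * x ∈ M := by
    rcases hx2 with e | e <;> rw [e]
    exacts [one_mem _, hM.hzM]
  have hcase : ∀ g ∈ (zpowers (ρ x)).comap ρ, g ∈ M ∨ g * x⁻¹ ∈ M := by
    intro g hg
    obtain ⟨k, hk⟩ := mem_zpowers_iff.1 (mem_comap.1 hg)
    have h2 : ρ x ^ (2 : ℤ) = 1 := by
      rw [zpow_two, ← map_mul]
      exact (QuotientGroup.eq_one_iff _).2 hxxM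
    rcases Int.even_or_odd' k with ⟨l, rfl | rfl⟩
    · rw [zpow_mul, h2, one_zpow] at hk
      exact Or.inl ((QuotientGroup.eq_one_iff g).1 hk.symm)
    · rw [zpow_add, zpow_mul, h2, one_zpow, one_mul, zpow_one] at hk
      refine Or.inr ((QuotientGroup.eq_one_iff _).1 (?_ : ρ (g * x⁻¹) = 1))
      rw [map_mul, map_inv, ← hk, mul_inv_cancel]
  set D₀ : Subgroup G := (S : Subgroup G) ⊓ (zpowers (ρ x)).comap ρ with hD₀
  have hxD : x ∈ D₀ := ⟨hx, mem_comap.2 (mem_zpowers _)⟩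
  obtain ⟨T, hT⟩ := ((S.2.to_le (inf_le_left : D₀ ≤ _)).map π |>.comap_subtype (K := H)).exists_le_sylow
  have hMH : ∀ m ∈ M, π m ∈ H := fun m hm => mem_map_of_mem π (mem_comap.2 (by
    rw [show ρ m = 1 from (QuotientGroup.eq_one_iff m).2 hm]; exact one_mem _))
  set D : Subgroup G := ((T : Subgroup ↥H).map H.subtype).comap π with hD
  have hDp : IsPGroup 2 D := (T.2.map H.subtype).comap_of_ker_isPGroup π (by
    rw [hπ, QuotientGroup.ker_mk']
    exact IsPGroup.of_card (n := 1) (by rw [Nat.card_zpowers, hM.hz, pow_one]))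
  have hD₀D : D₀ ≤ D := fun d hd =>
    ⟨⟨π d, mem_map_of_mem π hd.2⟩, hT (mem_map_of_mem π hd), rfl⟩
  have hPD : D ⊓ M = (S : Subgroup G) ⊓ M := by
    obtain ⟨R, hR⟩ := CfsgLib.LS.sylow_inf_normal S M
    have h1 : (R : Subgroup ↥M) ≤ D.subgroupOf M := by
      intro y hy
      have hy' : (y : G) ∈ (S : Subgroup G) ⊓ M := hR ▸ mem_map_of_mem M.subtype hy
      exact hD₀D ⟨hy'.1, mem_comap.2 (by
        show ρ (y : G) ∈ _
        rw [show ρ (y : G) = 1 from (QuotientGroup.eq_one_iff _).2 y.2]; exact one_mem _)⟩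
    rw [← hR, ← R.3 (hDp.comap_subtype) h1]
    exact (subgroupOf_map_subtype D M).symm
  have hxT : (⟨π x, mem_map_of_mem π hxD.2⟩ : ↥H) ∈ (T : Subgroup ↥H) := hT (mem_map_of_mem π hxD)
  have hord : orderOf (⟨π x, mem_map_of_mem π hxD.2⟩ : ↥H) = 2 := by
    rw [Subgroup.orderOf_mk, invol_iff]
    constructor
    · rw [← map_mul]
      exact (QuotientGroup.eq_one_iff _).2 (hM.mem_zp.2 hx2)
    · intro e
      exact hxM (zpowers_le.2 hM.hzM ((QuotientGroup.eq_one_iff x).1 e))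
  have hzs : IsZCentral (⟨π x, mem_map_of_mem π hxD.2⟩ : ↥H) := by
    refine zstar_of_weakly_closed T hord fun g hg => Subtype.ext ?_
    obtain ⟨g', hg'H, hg'⟩ := mem_map.1 g.2
    have hy : g' * x * g'⁻¹ ∈ D := mem_map.2 ⟨_, hg, by simp [hg']⟩
    have hsq : g' * x * g'⁻¹ * (g' * x * g'⁻¹) = x * x := by
      rw [show g' * x * g'⁻¹ * (g' * x * g'⁻¹) = g' * (x * x) * g'⁻¹ by group]
      rcases hx2 with e | e <;> rw [e]
      exacts [by group, hM.conj_z g']
    have hρy : ρ (g' * x * g'⁻¹) = ρ x := by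
      obtain ⟨k, hk⟩ := mem_zpowers_iff.1 (mem_comap.1 hg'H)
      rw [map_mul, map_mul, map_inv, ← hk]
      group
    have hpM : g' * x * g'⁻¹ * x⁻¹ ∈ M := (QuotientGroup.eq_one_iff _).1
      (show ρ (g' * x * g'⁻¹ * x⁻¹) = 1 by rw [map_mul, hρy, map_inv, mul_inv_cancel])
    have hpP : g' * x * g'⁻¹ * x⁻¹ ∈ (S : Subgroup G) ⊓ M :=
      hPD.le ⟨D.mul_mem hy (D.inv_mem (hD₀D hxD)), hpM⟩
    set p := g' * x * g'⁻¹ * x⁻¹ with hp
    have hy' : g' * x * g'⁻¹ = p * x := by rw [hp, inv_mul_cancel_right]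
    rw [hy', (hxc p hpP).mul_mul_mul_comm, mul_eq_right] at hsq
    show (g : G ⧸ zpowers z) * π x * (g : G ⧸ zpowers z)⁻¹ = π x
    rw [← hg', ← map_inv, ← map_mul, ← map_mul, hy']
    rcases hM.one p hpM hsq with e | e <;> rw [e]
    · rw [one_mul]
    · exact hM.mk_eq.2 (Or.inr ((hM.hzc x).eq))
  set φ := QuotientGroup.mk' ((zpowers z).subgroupOf M) with hφ
  let j : ↥M →* ↥H := (π.comp M.subtype).codRestrict H fun m => hMH m m.2
  set N : Subgroup ↥M := (Cfsg.pPrimeCore 2 ↥H).comap j with hN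
  rcases (Normal.map (H := N) inferInstance φ (QuotientGroup.mk'_surjective _)).eq_bot_or_eq_top with e | e
  · refine hxM (zpowers_le.2 hM.hzM (hC x fun k hk => ?_))
    have hcore := hzs ⟨π k, hMH k hk⟩
    have hmem : x * k * x⁻¹ * k⁻¹ ∈ M := mul_mem ((inferInstance : M.Normal).conj_mem k hk x) (inv_mem hk)
    have h1 : (⟨_, hmem⟩ : ↥M) ∈ N := by
      refine (congrArg (· ∈ Cfsg.pPrimeCore 2 ↥H) (Subtype.ext ?_)).mp hcore
      show π x * π k * (π x)⁻¹ * (π k)⁻¹ = π (x * k * x⁻¹ * k⁻¹)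
      simp only [map_mul, map_inv]
    rw [Subgroup.map_eq_bot_iff, QuotientGroup.ker_mk'] at e
    exact e h1
  · obtain ⟨n, hn, hne⟩ : φ ⟨c, hc.2⟩ ∈ N.map φ := e ▸ mem_top _
    rw [hφ, QuotientGroup.mk'_eq_mk'] at hne
    obtain ⟨w, hw, hwc⟩ := hne
    have hcN : j ⟨c, hc.2⟩ ∈ Cfsg.pPrimeCore 2 ↥H := by
      rw [← hwc, map_mul, show j w = 1 from Subtype.ext ((QuotientGroup.eq_one_iff _).2 hw), mul_one]
      exact hn
    refine notMem_pPrimeCore ?_ hcN
    rw [show j ⟨c, hc.2⟩ = (⟨π c, hMH c hc.2⟩ : ↥H) from rfl, Subgroup.orderOf_mk, invol_iff, ← map_mul]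
    refine ⟨(QuotientGroup.eq_one_iff _).2 (hM.mem_zp.2 (Or.inr hc2)), fun e1 => ?_⟩
    rcases hM.mem_zp.1 ((QuotientGroup.eq_one_iff _).1 e1) with rfl | rfl
    · exact hM.ne_one (by rw [← hc2, one_mul])
    · exact hM.ne_one (hc2.symm.trans hM.zz)

variable [((zpowers z).subgroupOf M).Normal] [IsSimpleGroup (↥M ⧸ (zpowers z).subgroupOf M)]

/-- Every element of order four of `M` is conjugate to `c` modulo `z`. -/
theorem exists_conj (hM : OneZ M z) (hna : ¬ IsMulCommutative (↥M ⧸ (zpowers z).subgroupOf M))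
    (S : Sylow 2 G) (hzS : z ∈ (S : Subgroup G)) {c e₀ : G} (hc : c ∈ (S : Subgroup G) ⊓ M) (hc2 : c * c = z)
    (hcS : ∀ s ∈ (S : Subgroup G), Eqz z (s * c * s⁻¹) c) (he₀ : e₀ ∈ (S : Subgroup G) ⊓ M)
    (hec : ¬ Commute e₀ c) {e : G} (heM : e ∈ M) (he2 : e * e = z) :
    ∃ g ∈ M, Eqz z (g * e * g⁻¹) c := by
  haveI : Fact (Nat.Prime 2) := ⟨Nat.prime_two⟩
  set φ := QuotientGroup.mk' ((zpowers z).subgroupOf M) with hφ
  obtain ⟨R, hR⟩ := CfsgLib.LS.sylow_inf_normal S M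
  have hRP : ∀ y : ↥M, y ∈ (R : Subgroup ↥M) ↔ (y : G) ∈ (S : Subgroup G) ⊓ M := fun y => by
    rw [← hR]
    exact ⟨fun hy => mem_map_of_mem _ hy, fun ⟨w, hw, hwy⟩ => Subtype.ext hwy ▸ hw⟩
  set Q : Subgroup ↥M := ((S : Subgroup G) ⊓ M ⊓ centralizer {c}).subgroupOf M with hQ
  have hQmem : ∀ y : ↥M, y ∈ Q ↔ (y : G) ∈ (S : Subgroup G) ⊓ M ∧ Commute (y : G) c := fun y => by
    rw [hQ, mem_subgroupOf]
    exact and_congr_right' Subgroup.mem_centralizer_singleton_iff
  have hflip : ∀ p ∈ (S : Subgroup G) ⊓ M, ¬ Commute p c → p * c * p⁻¹ = c * z := fun p hp hn =>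
    (hcS p hp.1).resolve_left fun e => hn (mul_inv_eq_iff_eq_mul.1 e)
  have hzQ : (⟨z, hM.hzM⟩ : ↥M) ∈ Q := (hQmem _).2 ⟨⟨hzS, hM.hzM⟩, (hM.hzc c).symm.symm⟩
  have hkerQ : φ.ker ≤ Q := by
    rw [hφ, QuotientGroup.ker_mk']
    intro y hy
    rcases hM.mem_zp.1 hy with e | e
    · rw [show y = 1 from Subtype.ext e]; exact one_mem _
    · rw [show y = ⟨z, hM.hzM⟩ from Subtype.ext e]; exact hzQ
  have hrel : (Q.map φ).relIndex ((R.mapSurjective (QuotientGroup.mk'_surjective _) :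
      Sylow 2 (↥M ⧸ (zpowers z).subgroupOf M)) : Subgroup _) = 2 := by
    rw [Sylow.coe_mapSurjective, relIndex_eq_two_iff_exists_notMem_and']
    have hin : ∀ y : ↥M, φ y ∈ Q.map φ ↔ y ∈ Q := fun y => by
      rw [← mem_comap, comap_map_eq_self hkerQ]
    refine ⟨φ ⟨e₀, he₀.2⟩, mem_map_of_mem φ ((hRP _).2 he₀),
      fun hh => hec ((hQmem _).1 ((hin _).1 hh)).2, ?_⟩
    rintro _ ⟨y, hy, rfl⟩
    rw [SetLike.mem_coe, hRP] at hy
    by_cases hyc : Commute (y : G) c
    · exact Or.inr ((hin y).2 ((hQmem y).2 ⟨hy, hyc⟩))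
    · refine Or.inl ?_
      rw [← map_mul, hin, hQmem]
      refine ⟨mul_mem he₀ hy, ?_⟩
      show Commute (e₀ * (y : G)) c
      rw [Commute, SemiconjBy, ← mul_inv_eq_iff_eq_mul]
      calc e₀ * (y : G) * c * (e₀ * (y : G))⁻¹ = e₀ * ((y : G) * c * (y : G)⁻¹) * e₀⁻¹ := by group
        _ = e₀ * c * (z * e₀⁻¹) := by rw [hflip _ hy hyc]; group
        _ = e₀ * c * e₀⁻¹ * z := by rw [(hM.hzc e₀⁻¹).eq]; group
        _ = c := by rw [hflip _ he₀ hec, mul_assoc, hM.zz, mul_one]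
  by_contra hno
  push Not at hno
  obtain ⟨N, hN, hN2, -⟩ := CfsgLib.Fusion.thompson_transfer _
    (u := φ ⟨e, heM⟩) (by
      rw [Sylow.coe_mapSurjective]
      exact map_mono fun y hy => (hRP y).2 ((hQmem y).1 hy).1) hrel (by
      rw [pow_two, ← map_mul]
      exact (QuotientGroup.eq_one_iff _).2 (hM.mem_zp.2 (Or.inr he2))) fun g hg => by
    obtain ⟨g, rfl⟩ := QuotientGroup.mk'_surjective _ g
    rw [← map_inv, ← map_mul, ← map_mul, ← mem_comap, comap_map_eq_self hkerQ, hQmem] at hg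
    have h2 : (g : G) * e * (g : G)⁻¹ * ((g : G) * e * (g : G)⁻¹) = z := by
      rw [show (g : G) * e * (g : G)⁻¹ * ((g : G) * e * (g : G)⁻¹) = (g : G) * (e * e) * (g : G)⁻¹ by group,
        he2, hM.conj_z]
    rcases hM.four hc.2 hc2 hg.1.2 hg.2 (Or.inr h2) with h1 | h1 | h1
    · simp only [coe_mul, InvMemClass.coe_inv] at h1
      rw [h1, one_mul] at h2
      exact hM.ne_one h2.symm
    · simp only [coe_mul, InvMemClass.coe_inv] at h1
      rw [h1, hM.zz] at h2
      exact hM.ne_one h2.symm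
    · exact hno g g.2 h1
  rcases hN.eq_bot_or_eq_top with e1 | e1
  · rw [e1, index_bot] at hN2
    haveI := isCyclic_of_prime_card hN2
    exact hna ⟨⟨fun a b => IsCyclic.commGroup.mul_comm a b⟩⟩
  · rw [e1, index_top] at hN2
    omega

/-- An involution centralizing a noncommuting pair of elements of order four modulo `z`. -/
theorem false_of_pair (h : Hyp G) (hM : OneZ M z) (hna : ¬ IsMulCommutative (↥M ⧸ (zpowers z).subgroupOf M))
    (hC : ∀ g : G, (∀ k ∈ M, g * k * g⁻¹ * k⁻¹ ∈ zpowers z) → g ∈ zpowers z) (S : Sylow 2 G)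
    (hzS : z ∈ (S : Subgroup G)) {c e x : G} (hc : c ∈ (S : Subgroup G) ⊓ M) (hc2 : c * c = z)
    (hcS : ∀ s ∈ (S : Subgroup G), Eqz z (s * c * s⁻¹) c) (he : e ∈ (S : Subgroup G) ⊓ M)
    (hec : ¬ Commute e c) (hx : x ∈ (S : Subgroup G)) (hxM : x ∉ M) (hx2 : x * x = 1 ∨ x * x = z)
    (hxc : Commute x c) (hxe : Commute x e) : False := by
  haveI : Fact (Nat.Prime 2) := ⟨Nat.prime_two⟩
  haveI := hM.normal
  set π := QuotientGroup.mk' (zpowers z) with hπ
  have hcon : ∀ {s : G}, s ∈ (S : Subgroup G) → Commute (π s) (π c) := fun {s} hs => by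
    have h1 := (hM.mk_eq).2 (hcS s hs)
    rw [map_mul, map_mul, map_inv] at h1
    exact mul_inv_eq_iff_eq_mul.1 h1
  have hecz : e * c * e⁻¹ = c * z := (hcS e he.1).resolve_left fun e1 => hec (mul_inv_eq_iff_eq_mul.1 e1)
  obtain ⟨ke, hke⟩ := exists_pow_two he.1
  have he2 : e * e = z := hM.sq_out hc.2 hc2 he.2 hke hecz
  by_cases hsmall : ∀ u ∈ (S : Subgroup G) ⊓ M, Commute u c → u = 1 ∨ u = z ∨ Eqz z u c
  · refine false_of_central hM hC S hc hc2 hx hxM hx2 fun p hp => ?_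
    have key : ∀ u ∈ (S : Subgroup G) ⊓ M, Commute u c → Commute x u := fun u hu huc => by
      rcases hsmall u hu huc with rfl | rfl | e1
      · exact Commute.one_right x
      · exact (hM.hzc x).symm
      · exact hM.commute_eqz e1 hxc
    rcases hcS p hp.1 with e1 | e1
    · exact key p hp (mul_inv_eq_iff_eq_mul.1 e1)
    · have h2 : Commute (e * p) c := by
        rw [Commute, SemiconjBy, ← mul_inv_eq_iff_eq_mul]
        calc e * p * c * (e * p)⁻¹ = e * (p * c * p⁻¹) * e⁻¹ := by group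
          _ = e * c * (z * e⁻¹) := by rw [e1]; group
          _ = e * c * e⁻¹ * z := by rw [(hM.hzc e⁻¹).eq]; group
          _ = c := by rw [hecz, mul_assoc, hM.zz, mul_one]
      have h3 := hxe.inv_right.mul_right (key _ (mul_mem he hp) h2)
      rwa [inv_mul_cancel_left] at h3
  push Not at hsmall
  obtain ⟨u, hu, huc, hu1, hu2, hu3⟩ := hsmall
  obtain ⟨ku, hku⟩ := exists_pow_two hu.1
  obtain ⟨n, hn⟩ := (((hM.root hc.2 hc2 ku u hu.2 hku huc).resolve_left hu1).resolve_left hu2).resolve_left hu3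
  set r := u ^ n with hr
  have hrP : r ∈ (S : Subgroup G) ⊓ M := pow_mem hu n
  have hrc : Commute r c := huc.pow_left n
  have hrr : π r * π r = π c := by rw [← map_mul]; exact hM.mk_eq.2 hn
  have hcc : π c * π c = 1 := by
    rw [← map_mul]; exact (QuotientGroup.eq_one_iff _).2 (hM.mem_zp.2 (Or.inr hc2))
  have hee : π e * π e = 1 := by
    rw [← map_mul]; exact (QuotientGroup.eq_one_iff _).2 (hM.mem_zp.2 (Or.inr he2))
  -- `r` moves every element of `P` outside the centralizer of `c`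
  have hmove : ∀ d ∈ (S : Subgroup G) ⊓ M, ¬ Commute d c → π r * π d * (π r)⁻¹ = π d * π c := by
    intro d hd hdc
    have hd1 : d * c * d⁻¹ = c * z := (hcS d hd.1).resolve_left fun e1 => hdc (mul_inv_eq_iff_eq_mul.1 e1)
    have hd2 : d * r * c * (d * r)⁻¹ = c * z := by
      rw [show d * r * c * (d * r)⁻¹ = d * (r * c * r⁻¹) * d⁻¹ by group, hrc.eq, mul_inv_cancel_right, hd1]
    obtain ⟨k1, hk1⟩ := exists_pow_two hd.1
    obtain ⟨k2, hk2⟩ := exists_pow_two (mul_mem hd.1 hrP.1)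
    have h1 := congrArg π ((hM.sq_out hc.2 hc2 (mul_mem hd.2 hrP.2) hk2 hd2).trans
      (hM.sq_out hc.2 hc2 hd.2 hk1 hd1).symm)
    rw [map_mul, map_mul, map_mul, mul_assoc, mul_right_inj,
      ← mul_assoc] at h1
    calc π r * π d * (π r)⁻¹ = π r * π d * π r * (π r * π r)⁻¹ := by group
      _ = π d * π c := by rw [h1, hrr, inv_eq_of_mul_eq_one_left hcc]
  obtain ⟨g₁, hg₁M, hg₁⟩ := exists_conj hM hna S hzS hc hc2 hcS he hec he.2 he2
  -- move the image of `c` into the Sylow subgroup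
  set Nc : Subgroup G := M ⊓ (centralizer {π c}).comap π with hNc
  have hNmem : ∀ m : G, m ∈ Nc ↔ m ∈ M ∧ Commute (π m) (π c) := fun m => by
    rw [hNc]
    exact and_congr_right' Subgroup.mem_centralizer_singleton_iff
  have hPN : (S : Subgroup G) ⊓ M ≤ Nc := fun s hs => (hNmem s).2 ⟨hs.2, hcon hs.1⟩
  have hi : ¬ 2 ∣ ((S : Subgroup G) ⊓ M).relIndex Nc := fun hd =>
    CfsgLib.Fusion.not_dvd_relIndex_inf_of_normal S M
      (hd.trans (Dvd.intro _ (relIndex_mul_relIndex _ _ _ hPN inf_le_left)))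
  obtain ⟨h₁, hh₁, hh₁P⟩ := conj_into (S.2.to_le inf_le_left) hPN hi
    (((S.2.to_le (inf_le_left : (S : Subgroup G) ⊓ M ≤ _)).map (MulAut.conj g₁).toMonoidHom).to_le
      (inf_le_left : _ ⊓ Nc ≤ _)) inf_le_right
  have hg₁c : π g₁ * π e * (π g₁)⁻¹ = π c := by rw [← map_inv, ← map_mul, ← map_mul]; exact hM.mk_eq.2 hg₁
  have hh₁c : Commute (π h₁) (π c) := ((hNmem h₁).1 hh₁).2
  set g₀ := h₁ * g₁ with hg₀
  have hg₀M : g₀ ∈ M := mul_mem hh₁.1 hg₁M
  have hg₀e : π g₀ * π e * (π g₀)⁻¹ = π c := by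
    rw [hg₀, map_mul, show π h₁ * π g₁ * π e * (π h₁ * π g₁)⁻¹ = π h₁ * (π g₁ * π e * (π g₁)⁻¹) * (π h₁)⁻¹ by group,
      hg₁c, hh₁c.eq, mul_inv_cancel_right]
  set e' := g₀ * c * g₀⁻¹ with he'
  have he'P : e' ∈ (S : Subgroup G) ⊓ M := by
    rw [show e' = h₁ * (g₁ * c * g₁⁻¹) * h₁⁻¹ by rw [he', hg₀]; group]
    refine hh₁P _ ⟨⟨c, hc, rfl⟩, (hNmem _).2 ⟨mul_mem (mul_mem hg₁M hc.2) (inv_mem hg₁M), ?_⟩⟩
    rw [map_mul, map_mul, map_inv]
    nth_rw 2 [← hg₁c]
    exact (hcon he.1).symm.map (MulAut.conj (π g₁)).toMonoidHom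
  have he'c : ¬ Commute e' c := by
    intro hh
    have h1 : Eqz z (g₀ * e * g₀⁻¹) c := hM.mk_eq.1 (by rw [map_mul, map_mul, map_inv]; exact hg₀e)
    have h2 := hM.commute_eqz h1 hh
    rw [he', Commute, SemiconjBy] at h2
    exact hec (Commute.symm (mul_left_cancel (a := g₀) (mul_right_cancel (b := g₀⁻¹) (by
      calc g₀ * (c * e) * g₀⁻¹ = g₀ * c * g₀⁻¹ * (g₀ * e * g₀⁻¹) := by group
        _ = g₀ * e * g₀⁻¹ * (g₀ * c * g₀⁻¹) := h2
        _ = g₀ * (e * c) * g₀⁻¹ := by group))))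
  set k := g₀⁻¹ * r * g₀ with hk
  have hkM : k ∈ M := mul_mem (mul_mem (inv_mem hg₀M) hrP.2) hg₀M
  have hke : Commute k e := by
    have h1 : Commute r (g₀ * e * g₀⁻¹) :=
      hM.commute_eqz (hM.mk_eq.1 (by rw [map_mul, map_mul, map_inv]; exact hg₀e)) hrc
    calc k * e = g₀⁻¹ * (r * (g₀ * e * g₀⁻¹)) * g₀ := by rw [hk]; group
      _ = g₀⁻¹ * (g₀ * e * g₀⁻¹ * r) * g₀ := by rw [h1.eq]
      _ = e * k := by rw [hk]; group
  have hkc : π k * π c * (π k)⁻¹ = π c * π e := by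
    have h1 := hmove e' he'P he'c
    rw [he', map_mul, map_mul, map_inv] at h1
    have h2 : π e = (π g₀)⁻¹ * π c * π g₀ := by rw [← hg₀e]; group
    calc π k * π c * (π k)⁻¹ = (π g₀)⁻¹ * (π r * (π g₀ * π c * (π g₀)⁻¹) * (π r)⁻¹) * π g₀ := by
          rw [hk, map_mul, map_mul, map_inv]; group
      _ = π c * π e := by rw [h1, h2]; group
  -- `k x k⁻¹` centralizes `c` and `e`
  set ρ := QuotientGroup.mk' M with hρ
  set C : Subgroup G := (zpowers (ρ x)).comap ρ ⊓ centralizer {c, e} with hCdef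
  have hCmem : ∀ w : G, w ∈ C ↔ ρ w ∈ zpowers (ρ x) ∧ Commute w c ∧ Commute w e := fun w => by
    rw [hCdef]
    refine and_congr_right' ⟨fun hw => ⟨(mem_centralizer_iff.1 hw c (Or.inl rfl)).symm,
      (mem_centralizer_iff.1 hw e (Or.inr rfl)).symm⟩, fun hw => mem_centralizer_iff.2 ?_⟩
    rintro d (rfl | rfl)
    exacts [hw.1.symm, hw.2.symm]
  have hxC : x ∈ C := (hCmem x).2 ⟨mem_zpowers _, hxc, hxe⟩
  have hkx : k * x * k⁻¹ ∈ C := by
    refine (hCmem _).2 ⟨?_, ?_, ?_⟩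
    · rw [map_mul, map_mul, map_inv, show ρ k = 1 from (QuotientGroup.eq_one_iff k).2 hkM]
      simp [mem_zpowers]
    · have h1 : Eqz z (k⁻¹ * c * k) (c * e⁻¹) := hM.mk_eq.1 (by
        simp only [map_mul, map_inv]
        have h2 : π e * π k = π k * π e := by rw [← map_mul, ← map_mul, hke.eq]
        have h3 : π k * π c = π c * π e * π k := mul_inv_eq_iff_eq_mul.1 hkc
        rw [mul_assoc, inv_mul_eq_iff_eq_mul, ← mul_assoc, eq_mul_inv_iff_mul_eq, h3,
          mul_assoc (π c), mul_assoc (π c), h2])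
      have h2 : Commute x (k⁻¹ * c * k) := hM.commute_eqz h1 (hxc.mul_right hxe.inv_right)
      calc k * x * k⁻¹ * c = k * (x * (k⁻¹ * c * k)) * k⁻¹ := by group
        _ = k * (k⁻¹ * c * k * x) * k⁻¹ := by rw [h2.eq]
        _ = c * (k * x * k⁻¹) := by group
    · exact (hke.mul_left hxe).mul_left hke.inv_left
  have hzx : ∀ g : G, (g * x * g⁻¹) ^ 2 ^ 2 = 1 := fun g => by
    rw [conj_pow, show x ^ 2 ^ 2 = (x * x) * (x * x) by rw [← pow_two, ← pow_two, ← pow_mul]; norm_num]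
    rcases hx2 with e1 | e1 <;> rw [e1] <;> simp [hM.zz]
  have hpz : ∀ g : G, IsPGroup 2 (zpowers (g * x * g⁻¹)) := fun g => by
    rintro ⟨_, i, rfl⟩
    refine ⟨2, Subtype.ext ?_⟩
    show ((g * x * g⁻¹) ^ i) ^ (2 ^ 2) = 1
    rw [← zpow_natCast, zpow_comm, zpow_natCast, hzx, one_zpow]
  obtain ⟨T, hT⟩ := ((hpz 1).comap_subtype (K := C)).exists_le_sylow
  set TG := (T : Subgroup ↥C).map C.subtype with hTG
  have hxT : x ∈ TG := ⟨⟨x, hxC⟩, hT (show x ∈ zpowers (1 * x * 1⁻¹) by simp), rfl⟩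
  have hTC : TG ≤ C := map_subtype_le _
  have hTsmall : ∀ w ∈ TG, w = 1 ∨ w = z ∨ Eqz z w x := by
    have key : ∀ m ∈ TG, m ∈ M → m = 1 ∨ m = z := fun m hm hmM => by
      obtain ⟨⟨v, hv⟩, hvT, rfl⟩ := hm
      obtain ⟨i, hi⟩ := T.2 ⟨⟨v, hv⟩, hvT⟩
      obtain ⟨-, h1, h2⟩ := (hCmem v).1 hv
      exact hM.cent_pair hc.2 hc2 hecz i v hmM (congrArg (fun a => ((a : ↥C) : G)) (congrArg Subtype.val hi)) h1 h2
    intro w hw
    obtain ⟨i, hi⟩ := mem_zpowers_iff.1 ((hCmem w).1 (hTC hw)).1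
    have hx21 : ρ x ^ (2 : ℤ) = 1 := by
      rw [zpow_two, ← map_mul]
      refine (QuotientGroup.eq_one_iff _).2 ?_
      rcases hx2 with e1 | e1 <;> rw [e1]
      exacts [one_mem _, hM.hzM]
    rcases Int.even_or_odd' i with ⟨l, rfl | rfl⟩
    · rw [zpow_mul, hx21, one_zpow] at hi
      exact (key w hw ((QuotientGroup.eq_one_iff w).1 hi.symm)).imp_right Or.inl
    · rw [zpow_add, zpow_mul, hx21, one_zpow, one_mul, zpow_one] at hi
      have h1 : w * x⁻¹ ∈ M := (QuotientGroup.eq_one_iff _).1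
        (show ρ (w * x⁻¹) = 1 by rw [map_mul, map_inv, ← hi, mul_inv_cancel])
      refine Or.inr (Or.inr ?_)
      rcases key _ (mul_mem hw (inv_mem hxT)) h1 with e1 | e1
      · exact Or.inl (mul_inv_eq_one.1 e1)
      · exact Or.inr (by rw [mul_inv_eq_iff_eq_mul.1 e1, (hM.hzc x).eq])
  obtain ⟨c', hc', hc'T⟩ := conj_into (T.2.map C.subtype) hTC (by
      rw [relIndex, subgroupOf, comap_map_eq_self_of_injective C.subtype_injective]
      exact T.not_dvd_index) (hpz k) (zpowers_le.2 hkx)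
  set g := c' * k with hg
  obtain ⟨-, hc'c, hc'e⟩ := (hCmem c').1 hc'
  have hgx : Eqz z (g * x * g⁻¹) x := by
    have h1 := hc'T _ (mem_zpowers _)
    rw [show c' * (k * x * k⁻¹) * c'⁻¹ = g * x * g⁻¹ by rw [hg]; group] at h1
    rcases hTsmall _ h1 with e1 | e1 | e1
    · exact absurd (by rw [(by simpa using e1 : x = 1)]; exact one_mem _) hxM
    · exact absurd (by
        rw [show x = z from mul_left_cancel ((mul_inv_eq_iff_eq_mul.1 e1).trans (hM.hzc g).eq)]
        exact hM.hzM) hxM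
    · exact e1
  have hgc : π g * π c * (π g)⁻¹ = π c * π e := by
    have h1 : Commute (π c') (π c * π e) := (hc'c.map π).mul_right (hc'e.map π)
    rw [hg, map_mul, show π c' * π k * π c * (π c' * π k)⁻¹ = π c' * (π k * π c * (π k)⁻¹) * (π c')⁻¹ by group,
      hkc, h1.eq, mul_inv_cancel_right]
  -- a second involution of `S` moved into `S`
  have hgN : g ∈ normalizer ((S : Subgroup G) : Set G) := by
    have hzo : g * z * g⁻¹ ∈ (S : Subgroup G) := by rw [hM.conj_z]; exact hzS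
    rcases hx2 with e1 | e1
    · exact h.mem_normalizer (invol_iff.2 ⟨e1, fun e2 => hxM (e2 ▸ one_mem M)⟩) hM.hz (hM.hzc x).symm
        (fun e2 => hxM (e2 ▸ hM.hzM)) hx hzS (hM.mem_of_eqz hzS hgx hx) hzo
    · refine h.mem_normalizer (a := x * c) (invol_iff.2 ⟨by rw [hxc.symm.mul_mul_mul_comm, e1, hc2, hM.zz],
        fun e2 => hxM ?_⟩) hM.hz (hM.hzc _).symm (fun e2 => hxM ?_) (mul_mem hx hc.1) hzS ?_ hzo
      · rw [eq_inv_of_mul_eq_one_left e2]; exact inv_mem hc.2
      · rw [eq_mul_inv_of_mul_eq e2]; exact mul_mem hM.hzM (inv_mem hc.2)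
      · rw [show g * (x * c) * g⁻¹ = (g * x * g⁻¹) * (g * c * g⁻¹) by group]
        exact mul_mem (hM.mem_of_eqz hzS hgx hx) (hM.mem_of_eqz hzS
          ((hM.mk_eq (a := g * c * g⁻¹) (b := c * e)).1 (by simp only [map_mul, map_inv]; exact hgc)) (mul_mem hc.1 he.1))
  -- `g` keeps the centre of `P`
  have hp : g⁻¹ * r * g ∈ (S : Subgroup G) := (mem_normalizer_iff''.1 hgN r).1 hrP.1
  have h1 : Commute (π r) (π c * π e) := by
    have h2 := hcon hp
    rw [map_mul, map_mul, map_inv] at h2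
    rw [← hgc]
    calc π r * (π g * π c * (π g)⁻¹) = π g * ((π g)⁻¹ * π r * π g * π c) * (π g)⁻¹ := by group
      _ = π g * (π c * ((π g)⁻¹ * π r * π g)) * (π g)⁻¹ := by rw [h2.eq]
      _ = π g * π c * (π g)⁻¹ * π r := by group
  have h2 := hmove e he hec
  have h3 : π c = 1 := by
    have h4 : π r * π e * (π r)⁻¹ = π e := by
      have h5 : Commute (π r) (π e) := by simpa using ((hrc.map π).inv_right).mul_right h1
      rw [h5.eq, mul_inv_cancel_right]
    rw [h4] at h2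
    exact mul_eq_left.1 h2.symm
  rcases hM.mem_zp.1 ((QuotientGroup.eq_one_iff c).1 h3) with rfl | rfl
  · exact hM.ne_one (by rw [← hc2, one_mul])
  · exact hM.ne_one (hc2.symm.trans hM.zz)

end CfsgLib.RankOneInter.QuatF

namespace CfsgLib.RankOneInter

open Subgroup CfsgLib.Invol QuatF

universe u

/-- A simple factor of `G / ⟨z⟩` with trivial centralizer and one involution upstairs makes a Sylow
two-subgroup of `G` quaternion. -/
theorem false_of_quaternion {G : Type u} [Group G] [Finite G] (h : Hyp G) {z : G} (hz : orderOf z = 2)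
    (hzc : z ∈ center G) (M : Subgroup G) [M.Normal] (hzM : z ∈ M) [((zpowers z).subgroupOf M).Normal]
    (hs : IsSimpleGroup (↥M ⧸ (zpowers z).subgroupOf M))
    (hna : ¬ IsMulCommutative (↥M ⧸ (zpowers z).subgroupOf M))
    (hC : ∀ g : G, (∀ k ∈ M, g * k * g⁻¹ * k⁻¹ ∈ zpowers z) → g ∈ zpowers z)
    (hone : ∀ a ∈ M, orderOf a = 2 → a = z)
    (hnQ : ∀ S : Sylow 2 G, ∀ n : ℕ, IsEmpty (↥(S : Subgroup G) ≃* QuaternionGroup (2 ^ (n + 1)))) :
    False := by
  haveI : Fact (Nat.Prime 2) := ⟨Nat.prime_two⟩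
  haveI := hs
  have hM : OneZ M z := ⟨hz, fun g => (mem_center_iff.1 hzc g).symm, hzM, fun a ha ha2 =>
    (em (a = 1)).imp_right fun ha1 => hone a ha (invol_iff.2 ⟨ha2, ha1⟩)⟩
  haveI := hM.normal
  set π := QuotientGroup.mk' (zpowers z) with hπ
  obtain ⟨S⟩ : Nonempty (Sylow 2 G) := inferInstance
  have hzS : z ∈ (S : Subgroup G) := mem_of_normalizer (k := 1)
    (mem_normalizer_iff.2 fun s => by rw [(hM.hzc s).eq, mul_inv_cancel_right])
    (by rw [pow_one, pow_two, hM.zz])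
  set P := (S : Subgroup G) ⊓ M with hP
  have hPc : ¬ IsCyclic ↥P := by
    intro hc
    obtain ⟨R, hR⟩ := CfsgLib.LS.sylow_inf_normal S M
    have hsur := QuotientGroup.mk'_surjective ((zpowers z).subgroupOf M)
    haveI : IsCyclic ↥(R : Subgroup ↥M) :=
      isCyclic_of_injective ((M.subtype.comp (R : Subgroup ↥M).subtype).codRestrict P
        fun y => (le_of_eq hR) (mem_map_of_mem _ y.2))
        fun a b e => Subtype.ext (Subtype.ext (congrArg Subtype.val e :))
    refine not_isCyclic_sylow hna (R.mapSurjective hsur) ?_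
    rw [Sylow.coe_mapSurjective]
    exact isCyclic_of_surjective _ (MonoidHom.subgroupMap_surjective _ (R : Subgroup ↥M))
  have hone' : OneInvol P := fun a ha b hb hao hbo _ => (hone a ha.2 hao).trans (hone b hb.2 hbo).symm
  obtain ⟨x, hx, hxo, hxz⟩ : ∃ x ∈ (S : Subgroup G), orderOf x = 2 ∧ x ≠ z := by
    by_contra! hno
    rcases OneInvol.cases (D := (S : Subgroup G))
      (fun a ha b hb hao hbo _ => (hno a ha hao).trans (hno b hb hbo).symm) S.2 with hc | ⟨n, ⟨e⟩⟩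
    · exact hPc (isCyclic_of_injective (inclusion (inf_le_left : P ≤ _)) (inclusion_injective _))
    · exact (hnQ S n).false e
  have hxx : x * x = 1 := invol_mul_self hxo
  have hxi : x⁻¹ = x := invol_inv hxo
  have hxM : x ∉ M := fun e => hxz (hone x e hxo)
  have hSP : ∀ s ∈ (S : Subgroup G), ∀ p ∈ P, s * p * s⁻¹ ∈ P := fun s hs p hp =>
    ⟨(S : Subgroup G).mul_mem ((S : Subgroup G).mul_mem hs hp.1) ((S : Subgroup G).inv_mem hs), (inferInstance : M.Normal).conj_mem p hp.2 s⟩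
  -- an element of order four of `P`, central in `S` modulo `z`
  obtain ⟨w, hw, hwo, hwS⟩ := CfsgLib.Bender.Full.exists_central_of_normal (s := 2) (N := P.map π)
    (R := (S : Subgroup G).map π) (S.2.map π) (map_mono inf_le_left) (by
      rintro _ ⟨s, hs, rfl⟩
      refine mem_normalizer_iff.2 fun v => ⟨?_, fun hv => ?_⟩
      · rintro ⟨p, hp, rfl⟩
        exact ⟨_, hSP s hs p hp, by rw [map_mul, map_mul, map_inv]⟩
      · obtain ⟨p, hp, hpv⟩ := hv
        refine ⟨_, hSP s⁻¹ (inv_mem hs) p hp, ?_⟩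
        rw [map_mul, map_mul, hpv]
        simp only [map_inv]
        group) (fun e => hPc (by
      rw [Subgroup.map_eq_bot_iff, hπ, QuotientGroup.ker_mk'] at e
      exact isCyclic_of_injective (inclusion e) (inclusion_injective _)))
  obtain ⟨c, hc, rfl⟩ := hw
  have hc2 : c * c = z := by
    obtain ⟨h1, h2⟩ := invol_iff.1 hwo
    rw [← map_mul] at h1
    refine (hM.mem_zp.1 ((QuotientGroup.eq_one_iff _).1 h1)).resolve_left fun e => ?_
    rcases hM.one c hc.2 e with rfl | rfl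
    · exact h2 (map_one π)
    · exact h2 ((QuotientGroup.eq_one_iff _).2 (mem_zpowers _))
  have hcS : ∀ s ∈ (S : Subgroup G), Eqz z (s * c * s⁻¹) c := fun s hs => hM.mk_eq.1 (by
    rw [map_mul, map_mul, map_inv, ← (hwS _ (mem_map_of_mem π hs)).eq, mul_inv_cancel_right])
  have hflip : ∀ p ∈ P, ¬ Commute p c → p * c * p⁻¹ = c * z := fun p hp hn =>
    (hcS p hp.1).resolve_left fun e => hn (mul_inv_eq_iff_eq_mul.1 e)
  obtain ⟨e₀, he₀, he₀c⟩ : ∃ e ∈ P, ¬ Commute e c := by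
    by_contra! hall
    rcases hone'.cases (S.2.to_le inf_le_left) with hcyc | ⟨n, ⟨eq⟩⟩
    · exact hPc hcyc
    · obtain ⟨_, _, -, -, -, -, hQZ⟩ := quat_data eq
      exact hM.ne_one (hc2.symm.trans (hQZ c hc fun q hq => (hall q hq).symm))
  have hadj : ∀ f d : G, f * d * f⁻¹ = x * d * x⁻¹ → Commute (x * f) d := fun f d e => by
    calc x * f * d = x * (f * d * f⁻¹) * f := by group
      _ = x * x * d * (x⁻¹ * f) := by rw [e]; group
      _ = d * (x * f) := by rw [hxx, hxi, one_mul]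
  by_cases hfix : ∃ e ∈ P, ¬ Commute e c ∧ Eqz z (x * e * x⁻¹) e
  · obtain ⟨e, he, hec, hxe⟩ := hfix
    obtain ⟨ke, hke⟩ := exists_pow_two he.1
    have hecz := hflip e he hec
    have he2 : e * e = z := hM.sq_out hc.2 hc2 he.2 hke hecz
    have hcez : c * e * c⁻¹ = e * z := by
      have h1 := mul_inv_eq_iff_eq_mul.1 hecz
      rw [mul_inv_eq_iff_eq_mul, mul_assoc, (hM.hzc c).eq, ← mul_assoc, h1, mul_assoc c z e,
        (hM.hzc e).eq, ← mul_assoc, mul_assoc, hM.zz, mul_one]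
    have fin : ∀ f ∈ P, Eqz z (x * f * x⁻¹) f → (f * f = 1 ∨ f * f = z) →
        f * c * f⁻¹ = x * c * x⁻¹ → f * e * f⁻¹ = x * e * x⁻¹ → False := by
      intro f hf hxf hf2 h1 h2
      refine false_of_pair h hM hna hC S hzS hc hc2 hcS he hec (mul_mem hx hf.1)
        (fun hm => hxM (by simpa using mul_mem hm (inv_mem hf.2))) ?_ (hadj f c h1) (hadj f e h2)
      have h3 : x * f * (x * f) = x * f * x⁻¹ * f := by rw [hxi]; group
      rw [h3]
      rcases hxf with e1 | e1 <;> rw [e1]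
      · exact hf2
      · rw [mul_assoc, (hM.hzc f).eq, ← mul_assoc]
        rcases hf2 with e2 | e2 <;> rw [e2]
        exacts [Or.inr (one_mul z), Or.inl hM.zz]
    rcases hcS x hx with h1 | h1 <;> rcases hxe with h2 | h2
    · exact fin 1 (one_mem P) (Or.inl (by simp)) (Or.inl (one_mul 1)) (by simp [h1]) (by simp [h2])
    · exact fin c hc (Or.inl h1) (Or.inr hc2) (by rw [h1, mul_inv_cancel_right]) (by rw [h2, hcez])
    · exact fin e he (Or.inl h2) (Or.inr he2)
        (by rw [h1, hecz]) (by rw [h2, mul_inv_cancel_right])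
    · refine fin (c * e) (mul_mem hc he) ?_ (Or.inr ?_) ?_ ?_
      · refine hM.mk_eq.1 ?_
        rw [show x * (c * e) * x⁻¹ = (x * c * x⁻¹) * (x * e * x⁻¹) by group, map_mul, map_mul]
        exact congrArg₂ (· * ·) (hM.mk_eq.2 (Or.inr h1)) (hM.mk_eq.2 (Or.inr h2))
      · calc c * e * (c * e) = c * (e * c * e⁻¹) * (e * e) := by group
          _ = c * c * (z * z) := by rw [hecz, he2]; group
          _ = z := by rw [hM.zz, hc2, mul_one]
      · calc c * e * c * (c * e)⁻¹ = c * (e * c * e⁻¹) * c⁻¹ := by group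
          _ = c * c * (z * c⁻¹) := by rw [hecz]; group
          _ = x * c * x⁻¹ := by rw [h1, (hM.hzc c⁻¹).eq]; group
      · calc c * e * e * (c * e)⁻¹ = c * e * c⁻¹ := by group
          _ = x * e * x⁻¹ := by rw [h2, hcez]
  push Not at hfix
  -- `x` inverts `c`
  have hxcz : x * c * x⁻¹ = c * z := by
    refine (hcS x hx).resolve_left fun hxc => ?_
    have hu : x * e₀ * x⁻¹ * e₀⁻¹ ∈ P := mul_mem (hSP x hx e₀ he₀) (inv_mem he₀)
    set u := x * e₀ * x⁻¹ * e₀⁻¹ with hudef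
    have huc : Commute u c := by
      rw [Commute, SemiconjBy, ← mul_inv_eq_iff_eq_mul]
      have h1 : e₀⁻¹ * c * e₀ = c * z := by
        have h0 := hflip e₀ he₀ he₀c
        refine hM.swap ?_
        calc c = e₀⁻¹ * (e₀ * c * e₀⁻¹) * e₀ := by group
          _ = e₀⁻¹ * (c * z) * e₀ := by rw [h0]
          _ = e₀⁻¹ * c * (z * e₀) := by simp only [mul_assoc]
          _ = e₀⁻¹ * c * e₀ * z := by rw [(hM.hzc e₀).eq, ← mul_assoc]
      calc u * c * u⁻¹ = x * e₀ * x⁻¹ * (e₀⁻¹ * c * e₀) * (x * e₀⁻¹ * x⁻¹) := by rw [hudef]; group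
        _ = x * e₀ * (x⁻¹ * (c * z) * x) * (e₀⁻¹ * x⁻¹) := by rw [h1]; group
        _ = x * e₀ * (c * z) * (e₀⁻¹ * x⁻¹) := by
          have h3 : Commute x (c * z) := (mul_inv_eq_iff_eq_mul.1 hxc : x * c = c * x) |> fun hh =>
            Commute.mul_right hh (hM.hzc x).symm
          rw [h3.inv_left.eq, inv_mul_cancel_right]
        _ = x * (e₀ * c * e₀⁻¹ * z) * x⁻¹ := by
          simp only [mul_assoc]
          rw [← mul_assoc z e₀⁻¹ x⁻¹, (hM.hzc e₀⁻¹).eq]
          simp only [mul_assoc]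
        _ = x * c * x⁻¹ := by rw [hflip e₀ he₀ he₀c, mul_assoc c z z, hM.zz, mul_one]
        _ = c := hxc
    have hxu : x * u * x⁻¹ = u⁻¹ := by
      rw [hudef, hxi]
      calc x * (x * e₀ * x * e₀⁻¹) * x = (x * x) * e₀ * x * e₀⁻¹ * x := by group
        _ = e₀ * x * e₀⁻¹ * x := by rw [hxx, one_mul]
        _ = (x * e₀ * x * e₀⁻¹)⁻¹ := by rw [mul_inv_rev, mul_inv_rev, mul_inv_rev, hxi, inv_inv]; group
    have hue : x * e₀ * x⁻¹ = u * e₀ := by rw [hudef, inv_mul_cancel_right]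
    obtain ⟨ku, hku⟩ := exists_pow_two hu.1
    have hbad : ∀ v : G, Eqz z v c → x * v * x⁻¹ = v⁻¹ → False := fun v hv hxv => by
      have h1 : Commute x v := hM.commute_eqz hv (mul_inv_eq_iff_eq_mul.1 hxc)
      rw [h1.eq, mul_inv_cancel_right, eq_inv_iff_mul_eq_one, hM.sq_eqz hv, hc2] at hxv
      exact hM.ne_one hxv
    rcases hM.root hc.2 hc2 ku u hu.2 hku huc with e1 | e1 | e1 | ⟨n, e1⟩
    · exact hfix e₀ he₀ he₀c (Or.inl (by rw [hue, e1, one_mul]))
    · exact hfix e₀ he₀ he₀c (Or.inr (by rw [hue, e1, (hM.hzc e₀).eq]))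
    · exact hbad u e1 hxu
    · refine hbad _ e1 ?_
      rw [← pow_add, ← conj_pow, hxu, inv_pow]
  have hclass : ∀ p ∈ P, Eqz z (x * p * x⁻¹) p → (p * p = 1 ∨ p * p = z) → p = 1 ∨ p = z ∨ Eqz z p c :=
    fun p hp hxp hp2 => hM.four hc.2 hc2 hp.2 (by_contra fun hn => hfix p hp hn hxp) hp2
  have hclaim : ∀ t ∈ M, t * t = z → Commute (π t) (π c) := by
    intro t htM ht2
    have hzker : π z = 1 := (QuotientGroup.eq_one_iff z).2 (mem_zpowers z)
    have htZ : t ∉ zpowers z := fun e => by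
      rcases hM.mem_zp.1 e with rfl | rfl
      · exact hM.ne_one (by rw [← ht2, one_mul])
      · exact hM.ne_one (ht2.symm.trans hM.zz)
    have ha : orderOf (π x) = 2 := invol_iff.2 ⟨by rw [← map_mul, hxx, map_one],
      fun e => hxM ((zpowers_le.2 hzM) ((QuotientGroup.eq_one_iff x).1 e))⟩
    have hb : orderOf (π t) = 2 := invol_iff.2 ⟨by rw [← map_mul, ht2, hzker],
      fun e => htZ ((QuotientGroup.eq_one_iff t).1 e)⟩
    have hev : Even (orderOf (π x * π t)) := even_of_not_isConj ha hb fun hcj => by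
      obtain ⟨g, hg⟩ := isConj_iff.1 hcj
      obtain ⟨g, rfl⟩ := QuotientGroup.mk'_surjective _ g
      rw [← map_inv, ← map_mul, ← map_mul] at hg
      have h1 : g * x * g⁻¹ ∈ M := hM.mem_of_eqz hzM (hM.mk_eq.1 hg) htM
      refine hxM ?_
      simpa [mul_assoc] using (inferInstance : M.Normal).conj_mem _ h1 g⁻¹
    set m := orderOf (π x * π t) / 2 with hm
    set W := (x * t) ^ m with hW
    have hWπ : π W = (π x * π t) ^ m := by rw [hW, map_pow, map_mul]
    have hWo : orderOf (π W) = 2 := hWπ ▸ orderOf_pow_half hev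
    have hWx : Commute (π W) (π x) := hWπ ▸ commute_pow_half (invol_conj_mul ha hb) hev
    have hWt : Commute (π W) (π t) := hWπ ▸ commute_pow_half (invol_conj_mul' ha hb) hev
    have hW2 : W * W = 1 ∨ W * W = z := hM.mem_zp.1 ((QuotientGroup.eq_one_iff _).1
      (show π (W * W) = 1 by rw [map_mul]; exact invol_mul_self hWo))
    have hW4 : W ^ 2 ^ 2 = 1 := by
      rw [show (2 : ℕ) ^ 2 = 2 + 2 from rfl, pow_add, pow_two]
      rcases hW2 with e | e <;> rw [e]
      exacts [one_mul 1, hM.zz]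
    have conjEq : ∀ {a b : G}, Commute (π a) (π b) → Eqz z (a * b * a⁻¹) b := fun {a b} hab =>
      hM.mk_eq.1 (by rw [map_mul, map_mul, map_inv, hab.eq, mul_inv_cancel_right])
    have hWS : W ∈ (S : Subgroup G) := mem_of_normalizer (h.mem_normalizer hxo hz (hM.hzc x).symm hxz hx hzS
      (hM.mem_of_eqz hzS (conjEq hWx) hx) (by rw [hM.conj_z]; exact hzS)) hW4
    have hρ : W ∈ M ∨ W * x⁻¹ ∈ M := by
      set ρ := QuotientGroup.mk' M
      have h1 : ρ W = ρ x ^ m := by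
        rw [hW, map_pow, map_mul, show ρ t = 1 from (QuotientGroup.eq_one_iff t).2 htM, mul_one]
      have h2 : ρ x ^ 2 = 1 := by rw [pow_two, ← map_mul, hxx, map_one]
      rcases Nat.even_or_odd' m with ⟨l, e | e⟩
      · exact Or.inl ((QuotientGroup.eq_one_iff W).1 (show ρ W = 1 by rw [h1, e, pow_mul, h2, one_pow]))
      · exact Or.inr ((QuotientGroup.eq_one_iff _).1 (show ρ (W * x⁻¹) = 1 by
          rw [map_mul, map_inv, h1, e, pow_succ, pow_mul, h2, one_pow, one_mul, mul_inv_cancel]))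
    rcases hρ with hWM | hWM
    · rcases hclass W ⟨hWS, hWM⟩ (conjEq hWx.symm) hW2 with e | e | e
      · exact absurd (by rw [e, map_one]) (invol_ne_one hWo)
      · exact absurd (by rw [e, hzker]) (invol_ne_one hWo)
      · rw [← hM.mk_eq.2 e]; exact hWt.symm
    · set p := W * x⁻¹ with hp
      have hpW : W = p * x := by rw [hp, inv_mul_cancel_right]
      have hpP : p ∈ P := ⟨(S : Subgroup G).mul_mem hWS ((S : Subgroup G).inv_mem hx), hWM⟩
      have hπp : Commute (π x) (π p) := by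
        rw [hp, map_mul, map_inv]
        exact hWx.symm.mul_right (Commute.refl _).inv_right
      have hpp : p * p = 1 ∨ p * p = z := hM.mem_zp.1 ((QuotientGroup.eq_one_iff _).1
        (show π (p * p) = 1 by
          rw [hp, map_mul, map_mul, map_inv, invol_inv ha, hWx.symm.mul_mul_mul_comm, invol_mul_self hWo,
            invol_mul_self ha, one_mul]))
      have hWW : W * W = 1 := by
        rw [hpW, show p * x * (p * x) = p * (x * p * x⁻¹) * (x * x) by group, hxx, mul_one]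
        rcases hclass p hpP (conjEq hπp) hpp with e | e | e
        · simp [e]
        · rw [e, hM.conj_z, hM.zz]
        · rcases e with e | e
          · rw [e, hxcz, ← mul_assoc, hc2, hM.zz]
          · rw [e, show x * (c * z) * x⁻¹ = (x * c * x⁻¹) * (x * z * x⁻¹) by group, hxcz, hM.conj_z,
              mul_assoc c z z, hM.zz, mul_one, mul_assoc, ← (hM.hzc c).eq.symm, ← mul_assoc, hc2, hM.zz]
      have hWo' : orderOf W = 2 := invol_iff.2 ⟨hWW, fun e => invol_ne_one hWo (by rw [e, map_one])⟩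
      have hWz : W ≠ z := fun e => invol_ne_one hWo (by rw [e, hzker])
      have htS : t ∈ (S : Subgroup G) := mem_of_normalizer (k := 2) (h.mem_normalizer hWo' hz (hM.hzc W).symm hWz
        hWS hzS (hM.mem_of_eqz hzS (conjEq hWt.symm) hWS) (by rw [hM.conj_z]; exact hzS))
        (by rw [show (2 : ℕ) ^ 2 = 2 + 2 from rfl, pow_add, pow_two,
          ht2, hM.zz])
      exact hwS _ (mem_map_of_mem π htS) |>.symm
  -- the class of `c` generates a commutative normal subgroup of the factor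
  set φ := QuotientGroup.mk' ((zpowers z).subgroupOf M) with hφ
  set cb := φ ⟨c, hc.2⟩ with hcb
  have hcb1 : cb ≠ 1 := fun e => by
    rw [hcb, hφ, QuotientGroup.mk'_apply, QuotientGroup.eq_one_iff, mem_subgroupOf] at e
    rcases hM.mem_zp.1 e with (rfl : c = 1) | (rfl : c = z)
    · exact hM.ne_one (by rw [← hc2, one_mul])
    · exact hM.ne_one (hc2.symm.trans hM.zz)
  have hN : normalClosure {cb} ≤ centralizer {cb} := by
    refine (closure_le _).2 fun v hv => ?_
    obtain ⟨_, rfl, hcj⟩ := Group.mem_conjugatesOfSet_iff.1 hv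
    obtain ⟨g, rfl⟩ := isConj_iff.1 hcj
    obtain ⟨g, rfl⟩ := QuotientGroup.mk'_surjective _ g
    rw [SetLike.mem_coe, mem_centralizer_singleton_iff, hcb, ← map_inv, ← map_mul, ← map_mul, ← map_mul, ← map_mul,
      hφ, QuotientGroup.mk'_eq_mk']
    set t := (g : G) * c * (g : G)⁻¹ with ht
    have ht2 : t * t = z := by
      rw [ht, show (g : G) * c * (g : G)⁻¹ * ((g : G) * c * (g : G)⁻¹) = (g : G) * (c * c) * (g : G)⁻¹ by group,
        hc2, hM.conj_z]
    have h1 := hclaim t (mul_mem (mul_mem g.2 hc.2) (inv_mem g.2)) ht2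
    rw [Commute, SemiconjBy, ← map_mul, ← map_mul, hπ, QuotientGroup.mk'_eq_mk'] at h1
    obtain ⟨v, hv, hv'⟩ := h1
    exact ⟨⟨v, zpowers_le.2 hzM hv⟩, hv, Subtype.ext hv'⟩
  have htop : normalClosure {cb} = ⊤ := normalClosure_normal.eq_bot_or_eq_top.resolve_left fun e =>
    hcb1 (mem_bot.1 (e ▸ subset_normalClosure (Set.mem_singleton cb)))
  have hcen : cb ∈ center (↥M ⧸ (zpowers z).subgroupOf M) := mem_center_iff.2 fun g =>
    mem_centralizer_singleton_iff.1 (hN (htop ▸ mem_top g))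
  rcases (inferInstance : (center (↥M ⧸ (zpowers z).subgroupOf M)).Normal).eq_bot_or_eq_top with e | e
  · exact hcb1 (mem_bot.1 (e ▸ hcen))
  · exact hna ⟨⟨fun a b => mem_center_iff.1 (e ▸ mem_top b) a⟩⟩

end CfsgLib.RankOneInter
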