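import Cfsg.Agent.Lib.Invol.RankOneInter.Strong
import Cfsg.Agent.Lib.Invol.RankOneInter.OddIdx
import Cfsg.Agent.Lib.Invol.RankOneInter.QuatFactor
import Cfsg.Agent.Lib.Invol.CyclicInter.Main
import Cfsg.Agent.Lib.LocalStructure.Basic
import Cfsg.Agent.S3185

/-!
# One simple factor forces cyclic intersections
-/

set_option autoImplicit false
set_option linter.unusedSectionVars false
set_option linter.style.haveILetI false

namespace CfsgLib.RankOneInter

open Subgroup CfsgLib.Invol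

universe u

variable {G : Type u} [Group G] [Finite G]

/-- Normal `2`-subgroups lie in every Sylow subgroup. -/
theorem normal_le_sylow {Q : Subgroup G} [Q.Normal] (hQ : IsPGroup 2 Q) (S : Sylow 2 G) :
    Q ≤ (S : Subgroup G) := by
  rw [← S.3 (hQ.to_sup_of_normal_left S.2) le_sup_right]
  exact le_sup_left

/-- A small group with one involution is cyclic. -/
theorem OneInvol.cyclic_of_small {D : Subgroup G} (h : OneInvol D) (hD : IsPGroup 2 D)
    (hsmall : Nat.card D < 8 ∨ ∀ x ∈ D, x * x = 1) : IsCyclic ↥D := by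
  rcases h.cases hD with hc | ⟨n, ⟨e⟩⟩
  · exact hc
  exfalso
  haveI : NeZero (2 ^ (n + 1)) := ⟨by positivity⟩
  rcases hsmall with hs | hs
  · have hc : Nat.card D = 4 * 2 ^ (n + 1) := by
      rw [Nat.card_congr e.toEquiv, Nat.card_eq_fintype_card, QuaternionGroup.card]
    have : 2 ≤ 2 ^ (n + 1) := le_self_pow₀ (by norm_num) (by omega)
    omega
  · have h1 : (e.symm (QuaternionGroup.xa 0)) ^ 2 = 1 := by
      rw [pow_two]; exact Subtype.ext (hs _ (e.symm (QuaternionGroup.xa 0)).2)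
    have h2 := orderOf_dvd_of_pow_eq_one h1
    rw [MulEquiv.orderOf_eq, QuaternionGroup.orderOf_xa] at h2
    exact absurd h2 (by norm_num)

/-- Two Sylow subgroups of a member of the five families meet in a cyclic group. -/
theorem cyclic_inter_of_families (h : Hyp G) (hs : IsSimpleGroup G) (hna : ¬ IsMulCommutative G)
    (hf : CfsgLib.CycInter.Families G) {S T : Sylow 2 G} (hne : S ≠ T) :
    IsCyclic ↥((S : Subgroup G) ⊓ (T : Subgroup G)) := by
  haveI : Fact (Nat.Prime 2) := ⟨Nat.prime_two⟩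
  haveI := hs
  set D := (S : Subgroup G) ⊓ (T : Subgroup G)
  have hD : IsPGroup 2 D := S.2.to_le inf_le_left
  have hone : OneInvol D := h.oneInvol hne
  have viaForm : CfsgLib.Walter.CentForm G → IsCyclic ↥D := fun hc =>
    hone.cyclic_of_small hD (Or.inr fun x hx => (CfsgLib.Walter.Rank.sylow_elementary hs hc S).2 x hx.1)
  have viaIso : CfsgLib.Gold.IsoFamilies G → IsCyclic ↥D := fun hi => by
    obtain ⟨H, hH⟩ := CfsgLib.Gold.RankOne.exists_data_at hs hi S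
    obtain ⟨g, hg⟩ := MulAction.exists_smul_eq G S T
    by_cases hgH : g ∈ H
    · exact absurd (((Sylow.smul_eq_iff_mem_normalizer).2 (hH.norm hgH)).symm.trans hg) hne
    have hbot : D = ⊥ := by
      rw [eq_bot_iff]
      intro x hx
      rw [mem_bot]
      by_contra hx1
      have hle : D ≤ H ⊓ H.map (MulAut.conj g).toMonoidHom := by
        refine le_inf (inf_le_left.trans hH.le) (inf_le_right.trans ?_)
        rw [← hg, Sylow.coe_subgroup_smul]
        exact map_mono hH.le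
      obtain ⟨k, hk⟩ := hD ⟨x, hx⟩
      have hpos : 2 ∣ Nat.card D := by
        obtain ⟨j, hj⟩ := IsPGroup.iff_card.1 hD
        rw [hj]
        refine dvd_pow_self 2 fun e => hx1 ?_
        rw [e, pow_zero, card_eq_one] at hj
        exact mem_bot.1 (hj ▸ hx)
      exact Nat.not_even_iff_odd.2 (hH.se.2.2 g hgH) (even_iff_two_dvd.2 (hpos.trans (card_dvd_of_le hle)))
    rw [hbot]
    infer_instance
  rcases hf with ⟨n, F, iF, iF', hn, hc, he⟩ | ⟨m, F, iF, iF', hm, hc, he⟩ | ⟨n, F, iF, iF', hn, hc, he⟩ |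
    ⟨F, iF, iF', h8, h5, he⟩ | hJ
  · exact viaIso (Or.inl ⟨F, iF, iF', ⟨n, hn, hc⟩, he⟩)
  · exact viaIso (Or.inr (Or.inl ⟨F, iF, iF', m, hm, hc, he⟩))
  · exact viaIso (Or.inr (Or.inr ⟨F, iF, iF', n, hn,
      by rw [hc, ← pow_mul, show (4 : ℕ) = 2 ^ 2 from rfl, ← pow_mul, mul_comm], he⟩))
  · exact viaForm (Or.inl ⟨F, iF, iF', Or.inr ⟨h5.le, h8⟩, he⟩)
  · refine hone.cyclic_of_small hD (Or.inl ?_)
    have h8 := CfsgLib.SU.card_sylow_two (k := 3) (show Nat.card G = 2 ^ 3 * 21945 by rw [hJ.2]; norm_num) ⟨10972, rfl⟩ S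
    refine lt_of_le_of_ne ((Nat.le_of_dvd Nat.card_pos (card_dvd_of_le inf_le_left)).trans (h8.trans (by norm_num)).le)
      fun e => hne (Sylow.ext ((S.3 T.2 ?_).symm))
    have : D = (S : Subgroup G) := eq_of_le_of_card_ge inf_le_left (by rw [h8, e]; norm_num)
    exact this ▸ inf_le_right

/-- A Sylow subgroup whose trace has two commuting involutions lies in the factor. -/
theorem sylow_le_factor (h : Hyp G) (Q M : Subgroup G) [Q.Normal] [M.Normal] (hQM : Q ≤ M)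
    (hQ2 : IsPGroup 2 Q) [IsSimpleGroup (↥M ⧸ Q.subgroupOf M)]
    (hC : ∀ g : G, (∀ k ∈ M, g * k * g⁻¹ * k⁻¹ ∈ Q) → g ∈ Q)
    (hd : CfsgLib.CycInter.HasTData (↥M ⧸ Q.subgroupOf M)) (S : Sylow 2 G) {a b : G}
    (haM : a ∈ M) (haS : a ∈ (S : Subgroup G)) (hbM : b ∈ M) (hbS : b ∈ (S : Subgroup G))
    (ha : orderOf a = 2) (hb : orderOf b = 2) (hab : Commute a b) (hne : a ≠ b) :
    (S : Subgroup G) ≤ M := by
  haveI : Fact (Nat.Prime 2) := ⟨Nat.prime_two⟩
  set π := QuotientGroup.mk' Q with hπdef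
  have hπ := QuotientGroup.mk'_surjective Q
  have hker : ∀ x, π x = 1 ↔ x ∈ Q := fun x => QuotientGroup.eq_one_iff x
  set N := M.map π with hN
  haveI : N.Normal := ‹M.Normal›.map π hπ
  have hNM : ∀ x, π x ∈ N ↔ x ∈ M := fun x => by
    refine ⟨?_, fun hx => mem_map_of_mem π hx⟩
    rintro ⟨m, hm, e⟩
    have h1 : m⁻¹ * x ∈ M := hQM ((hker _).1 (by rw [map_mul, map_inv, e, inv_mul_cancel]))
    simpa using mul_mem hm h1
  let ρ : ↥M →* ↥N := (π.comp M.subtype).codRestrict N fun x => mem_map_of_mem π x.2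
  have hρ : Function.Surjective ρ := by
    rintro ⟨_, m, hm, rfl⟩
    exact ⟨⟨m, hm⟩, rfl⟩
  have hρk : Q.subgroupOf M = ρ.ker := by
    ext x
    rw [mem_subgroupOf, MonoidHom.mem_ker, Subtype.ext_iff]
    exact (hker x).symm
  let e : ↥M ⧸ Q.subgroupOf M ≃* ↥N :=
    (QuotientGroup.quotientMulEquivOfEq hρk).trans (QuotientGroup.quotientKerEquivOfSurjective ρ hρ)
  haveI : IsSimpleGroup ↥N := MulEquiv.isSimpleGroup e.symm
  have hCN : centralizer (N : Set (G ⧸ Q)) = ⊥ := by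
    refine (eq_bot_iff_forall _).2 fun x hx => ?_
    obtain ⟨g, rfl⟩ := hπ x
    refine (hker g).2 (hC g fun k hk => (hker _).1 ?_)
    rw [map_mul, map_mul, map_mul, map_inv, map_inv, ← mem_centralizer_iff.1 hx _ (mem_map_of_mem π hk),
      mul_inv_cancel_right, mul_inv_cancel]
  set S' := S.mapSurjective hπ
  have hS' : ∀ x, π x ∈ (S' : Subgroup (G ⧸ Q)) ↔ x ∈ (S : Subgroup G) := fun x => by
    rw [Sylow.coe_mapSurjective]
    refine ⟨?_, fun hx => mem_map_of_mem π hx⟩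
    rintro ⟨s, hs, e⟩
    have h1 : s⁻¹ * x ∈ (S : Subgroup G) :=
      normal_le_sylow hQ2 S ((hker _).1 (by rw [map_mul, map_inv, e, inv_mul_cancel]))
    simpa using mul_mem hs h1
  obtain ⟨P, hP⟩ := CfsgLib.LS.sylow_inf_normal S' N
  have hPmem : ∀ n : ↥N, n ∈ (P : Subgroup ↥N) ↔ (n : G ⧸ Q) ∈ (S' : Subgroup (G ⧸ Q)) := fun n => by
    refine ⟨fun hn => (hP.le (mem_map_of_mem N.subtype hn)).1, fun hn => ?_⟩
    obtain ⟨m, hm, e1⟩ := hP.ge (show (n : G ⧸ Q) ∈ (S' : Subgroup (G ⧸ Q)) ⊓ N from ⟨hn, n.2⟩)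
    rwa [← N.subtype_injective e1]
  obtain ⟨τ, hτ⟩ := (hd.congr e) P
  have hle := sylow_le_of_normalizer hCN hτ S' (hP.le.trans inf_le_left) fun m hm s hs => by
    obtain ⟨m', hm'M, hm'⟩ := m.2
    obtain ⟨s', rfl⟩ := hπ s
    rw [← hm']
    rw [← map_mul, ← map_inv, ← map_mul, hS']
    have hconj : ∀ c ∈ M, c ∈ (S : Subgroup G) → m' * c * m'⁻¹ ∈ (S : Subgroup G) := fun c hcM hcS => by
      have h1 := (hm ⟨π c, mem_map_of_mem π hcM⟩).1 ((hPmem _).2 ((hS' c).2 hcS))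
      have h2 := (hPmem _).1 h1
      rw [Subgroup.coe_mul, Subgroup.coe_mul, Subgroup.coe_inv, ← hm', ← map_mul, ← map_inv, ← map_mul, hS'] at h2
      exact h2
    exact ((mem_set_normalizer_iff.1 (h.mem_normalizer ha hb hab hne haS hbS (hconj a haM haS) (hconj b hbM hbS))) s').1
      ((hS' s').1 hs)
  intro x hx
  exact (hNM x).1 (hle ((hS' x).2 hx))

/-- One factor over a cyclic kernel is impossible. -/
theorem one_factor (h : Hyp G) (Q M : Subgroup G) [Q.Normal] [M.Normal]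
    (hQ2 : IsPGroup 2 Q) (hQc : IsCyclic ↥Q) (hQM : Q ≤ M) (hc : ∀ q ∈ Q, ∀ m ∈ M, Commute q m)
    [IsSimpleGroup (↥M ⧸ Q.subgroupOf M)] (hna : ¬ IsMulCommutative (↥M ⧸ Q.subgroupOf M))
    (hC : ∀ g : G, (∀ k ∈ M, g * k * g⁻¹ * k⁻¹ ∈ Q) → g ∈ Q)
    (hnQ : ∀ S : Sylow 2 G, ∀ n : ℕ, IsEmpty (↥(S : Subgroup G) ≃* QuaternionGroup (2 ^ (n + 1))))
    (hnC : ∃ S T : Sylow 2 G, S ≠ T ∧ ¬ IsCyclic ↥((S : Subgroup G) ⊓ (T : Subgroup G))) : False := by
  classical
  haveI : Fact (Nat.Prime 2) := ⟨Nat.prime_two⟩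
  obtain ⟨S₁, T₁, hne, hnc⟩ := hnC
  have hM : Hyp ↥M := h.subgroup M
  -- Sylow subgroups below `M` give Sylow subgroups of `M`
  have hdown : (S₁ : Subgroup G) ≤ M → (T₁ : Subgroup G) ≤ M →
      ∃ A B : Sylow 2 ↥M, A ≠ B ∧ ∀ x : ↥M,
        x ∈ (A : Subgroup ↥M) ⊓ (B : Subgroup ↥M) ↔ (x : G) ∈ (S₁ : Subgroup G) ⊓ (T₁ : Subgroup G) := fun hS hT => by
    refine ⟨S₁.subtype hS, T₁.subtype hT, fun e => hne (Sylow.ext ?_), fun x => Iff.rfl⟩
    have e1 : (S₁ : Subgroup G).subgroupOf M = (T₁ : Subgroup G).subgroupOf M := congrArg Sylow.toSubgroup e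
    rw [← map_subgroupOf_eq_of_le hS, e1, map_subgroupOf_eq_of_le hT]
  have hallle : ∀ S : Sylow 2 G, (S : Subgroup G) ≤ M → ∀ T : Sylow 2 G, (T : Subgroup G) ≤ M := fun S hS T => by
    obtain ⟨g, hg⟩ := MulAction.exists_smul_eq G S T
    rw [← hg, Sylow.coe_subgroup_smul]
    rintro x ⟨s, hs, rfl⟩
    exact ‹M.Normal›.conj_mem s (hS hs) g
  set Z := Q.subgroupOf M with hZ
  by_cases hQ1 : Q = ⊥
  · -- the factor itself is simple
    have hZ1 : Z = ⊥ := by rw [hZ, hQ1, bot_subgroupOf]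
    let e : ↥M ≃* ↥M ⧸ Z := (QuotientGroup.quotientBot.symm).trans (QuotientGroup.quotientMulEquivOfEq hZ1.symm)
    haveI : IsSimpleGroup ↥M := MulEquiv.isSimpleGroup e
    have hnaM : ¬ IsMulCommutative ↥M := fun hh => hna ⟨⟨fun a b => by
      obtain ⟨a, rfl⟩ := e.surjective a
      obtain ⟨b, rfl⟩ := e.surjective b
      rw [← map_mul, ← map_mul, hh.is_comm.comm a b]⟩⟩
    have hfam : CfsgLib.CycInter.Families ↥M := Cfsg.Agent.S3185.result hnaM fun S T hST _ => hM S T hST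
    have hd := CfsgLib.CycInter.hasTData_of_families hnaM hfam
    obtain ⟨P⟩ := (inferInstance : Nonempty (Sylow 2 ↥M))
    obtain ⟨τ, hτ⟩ := hd P
    obtain ⟨a, ha, b, hb, haa, hbb, ha1, hb1, hab⟩ := hτ.two
    obtain ⟨S, hS⟩ := (P.2.map M.subtype).exists_le_sylow
    have hSM := sylow_le_factor h Q M hQM hQ2 hC (hd.congr e) S a.2 (hS (mem_map_of_mem _ ha)) b.2
      (hS (mem_map_of_mem _ hb)) (by rw [Subgroup.orderOf_coe]; exact invol_iff.2 ⟨haa, ha1⟩)
      (by rw [Subgroup.orderOf_coe]; exact invol_iff.2 ⟨hbb, hb1⟩)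
      (congrArg Subtype.val (hτ.central b hb hbb a ha) :) (fun e => hab (Subtype.ext e))
    obtain ⟨A, B, hAB, hiff⟩ := hdown (hallle S hSM S₁) (hallle S hSM T₁)
    haveI := cyclic_inter_of_families hM inferInstance hnaM hfam hAB
    refine hnc (isCyclic_of_surjective
      ((M.subtype.comp ((A : Subgroup ↥M) ⊓ (B : Subgroup ↥M)).subtype).codRestrict _ fun x => (hiff x).1 x.2)
      fun y => ⟨⟨⟨y.1, hallle S hSM S₁ y.2.1⟩, (hiff _).2 y.2⟩, rfl⟩)
  -- the involution of the kernel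
  obtain ⟨z, hzQ, hz⟩ : ∃ z ∈ Q, orderOf z = 2 := by
    refine exists_invol_mem (even_iff_two_dvd.2 ?_)
    obtain ⟨k, hk⟩ := IsPGroup.iff_card.1 hQ2
    rw [hk]
    exact dvd_pow_self 2 fun e => hQ1 (by rw [e, pow_zero] at hk; exact card_eq_one.1 hk)
  have hQone : ∀ a ∈ Q, orderOf a = 2 → a = z := fun a ha ha2 =>
    CfsgLib.CycInter.cyclic_invol_unique hQc ha hzQ (invol_mul_self ha2) (invol_mul_self hz) (invol_ne_one ha2)
      (invol_ne_one hz)
  have hZc : Z ≤ center ↥M := fun q hq => mem_center_iff.2 fun m =>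
    Subtype.ext (hc q (mem_subgroupOf.1 hq) m m.2).eq.symm
  have hZ2 : IsPGroup 2 Z := hQ2.comap_subtype
  set z' : ↥M := ⟨z, hQM hzQ⟩
  have hz' : orderOf z' = 2 := by rw [Subgroup.orderOf_mk, hz]
  have hZone : ∀ a ∈ Z, orderOf a = 2 → a = z' := fun a ha ha2 =>
    Subtype.ext (hQone a (mem_subgroupOf.1 ha) (by rw [Subgroup.orderOf_coe, ha2]))
  by_cases hy : ∃ y : ↥M, orderOf y = 2 ∧ y ∉ Z
  · obtain ⟨hform, hinter⟩ := strong hM Z hZc hZ2 (show z' ∈ Z from hzQ) hz' hZone hna hy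
    obtain ⟨y, hyo, hyZ⟩ := hy
    have hyo' : orderOf (y : G) = 2 := by rw [Subgroup.orderOf_coe, hyo]
    obtain ⟨S, hS⟩ := (IsPGroup.of_card (n := 1) (G := zpowers (y : G))
      (by rw [Nat.card_zpowers, hyo', pow_one])).exists_le_sylow
    have hSM := sylow_le_factor h Q M hQM hQ2 hC (CfsgLib.Gold.RankOne.hasTData_form inferInstance hform) S
      y.2 (hS (mem_zpowers _)) (hQM hzQ) (normal_le_sylow hQ2 S hzQ) hyo' hz (hc z hzQ y y.2).symm
      (fun e => hyZ (mem_subgroupOf.2 (e ▸ hzQ)))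
    obtain ⟨A, B, hAB, hiff⟩ := hdown (hallle S hSM S₁) (hallle S hSM T₁)
    haveI := hQc
    refine hnc (isCyclic_of_injective
      (Subgroup.inclusion (H := (S₁ : Subgroup G) ⊓ (T₁ : Subgroup G)) (K := Q) fun x hx => ?_)
      (Subgroup.inclusion_injective _))
    exact mem_subgroupOf.1 (hinter A B hAB ((hiff ⟨x, hallle S hSM S₁ hx.1⟩).2 hx))
  -- all involutions of the factor are in the kernel
  push Not at hy
  have hone : ∀ a ∈ M, orderOf a = 2 → a = z := fun a ha ha2 =>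
    hQone a (mem_subgroupOf.1 (hy ⟨a, ha⟩ (by rw [Subgroup.orderOf_mk, ha2]))) ha2
  obtain ⟨P⟩ := (inferInstance : Nonempty (Sylow 2 ↥M))
  have hP1 : OneInvol (P : Subgroup ↥M) := fun a _ b _ ha2 hb2 _ =>
    Subtype.ext ((hone a a.2 (by rw [Subgroup.orderOf_coe, ha2])).trans
      (hone b b.2 (by rw [Subgroup.orderOf_coe, hb2])).symm)
  have hQz : Q = zpowers z := by
    refine le_antisymm ?_ (zpowers_le.2 hzQ)
    rcases hP1.cases P.2 with hcy | ⟨n, ⟨e⟩⟩
    · exfalso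
      have hπ := QuotientGroup.mk'_surjective Z
      refine not_solvable_of_simple hna (CfsgLib.Perm.CycStab.isSolvable_of_cyclic_two (P.mapSurjective hπ) ?_)
      haveI := hcy
      rw [Sylow.coe_mapSurjective]
      exact isCyclic_of_surjective ((QuotientGroup.mk' Z).subgroupMap (P : Subgroup ↥M))
        ((QuotientGroup.mk' Z).subgroupMap_surjective _)
    · intro q hq
      obtain ⟨-, -, -, -, -, -, hcen⟩ := quat_data e
      have h1 : (⟨q, hQM hq⟩ : ↥M) * ⟨q, hQM hq⟩ = 1 :=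
        hcen _ (central_le_sylow hZc hZ2 P (show (⟨q, hQM hq⟩ : ↥M) ∈ Z from hq)) fun w _ =>
          Subtype.ext (hc q hq w w.2).eq
      by_cases hq1 : q = 1
      · rw [hq1]; exact one_mem _
      · rw [hQone q hq (invol_iff.2 ⟨congrArg Subtype.val h1, hq1⟩)]
        exact mem_zpowers z
  subst hQz
  have hzc : z ∈ center G := mem_center_iff.2 fun g => by
    have h1 := hQone (g * z * g⁻¹) (‹(zpowers z).Normal›.conj_mem z hzQ g) (invol_conj hz g)
    exact mul_inv_eq_iff_eq_mul.1 h1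
  exact false_of_quaternion h hz hzc M (hQM hzQ) ‹_› hna hC hone hnQ

end CfsgLib.RankOneInter
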