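import Cfsg.Agent.Lib.Invol.RankOneInter.PairSimple
import Cfsg.Agent.Lib.Invol.CentralInter.General.Cover
import Cfsg.Agent.Lib.Walter.Rank.Transfer
import Cfsg.Agent.Lib.GW.CyclicSylow

/-!
# Two commuting simple factors over a cyclic two-group
-/

set_option autoImplicit false
set_option linter.unusedSectionVars false
set_option linter.style.haveILetI false

namespace CfsgLib.RankOneInter

open Subgroup CfsgLib.Invol
open scoped commutatorElement

universe u

abbrev SL25 := Matrix.SpecialLinearGroup (Fin 2) (ZMod 5)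

namespace PairCase

variable {G : Type u} [Group G]

theorem commute_sq {a y : G} (hc : Commute a y) {z : G} (hz : z * z = 1) (ha : a * a = z) (hy : y * y = z) :
    a * y * (a * y) = 1 := by
  rw [hc.symm.mul_mul_mul_comm, ha, hy, hz]

/-- Changing arguments by elements centralizing them does not change their commutator. -/
theorem comm_central {a a' q q' : G} (h1 : Commute q a) (h2 : Commute q a') (h3 : Commute q' a)
    (h4 : Commute q' a') (h5 : Commute q q') : ⁅a * q, a' * q'⁆ = ⁅a, a'⁆ := by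
  have e1 : Commute q (a' * q') := h2.mul_right h5
  calc ⁅a * q, a' * q'⁆ = a * (q * (a' * q')) * q⁻¹ * a⁻¹ * (a' * q')⁻¹ := by rw [commutatorElement_def]; group
    _ = a * ((a' * q') * q) * q⁻¹ * a⁻¹ * (a' * q')⁻¹ := by rw [e1.eq]
    _ = a * a' * (q' * a⁻¹) * q'⁻¹ * a'⁻¹ := by group
    _ = a * a' * (a⁻¹ * q') * q'⁻¹ * a'⁻¹ := by rw [h3.inv_right.eq]
    _ = ⁅a, a'⁆ := by rw [commutatorElement_def]; group

variable [Finite G]

/-- A nonsolvable group has two Sylow two-subgroups. -/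
theorem exists_ne_sylow (B : Subgroup G) (hB : ¬ Group.IsSolvable ↥B) : ∃ T U : Sylow 2 ↥B, T ≠ U := by
  haveI : Fact (Nat.Prime 2) := ⟨Nat.prime_two⟩
  by_contra! hall
  obtain ⟨T⟩ : Nonempty (Sylow 2 ↥B) := inferInstance
  haveI : Subsingleton (Sylow 2 ↥B) := ⟨hall⟩
  haveI : (T : Subgroup ↥B).Normal := T.normal_of_subsingleton
  haveI : Group.IsNilpotent ↥(T : Subgroup ↥B) := T.2.isNilpotent
  haveI : Group.IsSolvable (↥B ⧸ (T : Subgroup ↥B)) := Cfsg.Agent.S0205.result (by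
    rw [← index_eq_card, ← Nat.not_even_iff_odd, even_iff_two_dvd]
    exact T.not_dvd_index)
  exact hB (Group.isSolvable_of_ker_le_range (T : Subgroup ↥B).subtype (QuotientGroup.mk' (T : Subgroup ↥B))
    (by rw [QuotientGroup.ker_mk', range_subtype]))

/-- Two Sylow subgroups of `B` and a two-group commuting with `B` lie in two Sylow subgroups. -/
theorem meet (h : Hyp G) {B : Subgroup G} {T U : Sylow 2 ↥B} (hne : T ≠ U) {P : Subgroup G}
    (hP : IsPGroup 2 P) (hc : ∀ p ∈ P, ∀ b ∈ B, Commute p b) :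
    ∃ D : Subgroup G, OneInvol D ∧ P ≤ D ∧ ∀ y ∈ (T : Subgroup ↥B) ⊓ (U : Subgroup ↥B), (y : G) ∈ D := by
  haveI : Fact (Nat.Prime 2) := ⟨Nat.prime_two⟩
  have key : ∀ R : Sylow 2 ↥B, ∃ S : Sylow 2 G, P ≤ (S : Subgroup G) ∧ (R : Subgroup ↥B).map B.subtype ≤ (S : Subgroup G) := by
    intro R
    obtain ⟨S, hS⟩ := (IsPGroup.to_sup_of_normal_left' hP (R.2.map B.subtype) (by
      rintro _ ⟨b, -, rfl⟩
      refine mem_normalizer_iff.2 fun x => ⟨fun hx => ?_, fun hx => ?_⟩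
      · show (b : G) * x * (b : G)⁻¹ ∈ P
        rw [← (hc x hx b b.2).eq, mul_inv_cancel_right]
        exact hx
      · have h1 := hc _ hx b b.2
        have h2 : (b : G) * x * (b : G)⁻¹ = x := mul_left_cancel (a := (b : G)) (by
          calc (b : G) * ((b : G) * x * (b : G)⁻¹) = (b : G) * x * (b : G)⁻¹ * (b : G) := h1.eq.symm
            _ = (b : G) * x := by group)
        have h3 : (b : G) * x * (b : G)⁻¹ ∈ P := hx
        exact h2 ▸ h3)).exists_le_sylow
    exact ⟨S, le_sup_left.trans hS, le_sup_right.trans hS⟩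
  obtain ⟨S, hPS, hTS⟩ := key T
  obtain ⟨S', hPS', hUS⟩ := key U
  refine ⟨(S : Subgroup G) ⊓ (S' : Subgroup G), h.oneInvol fun e => hne ?_, le_inf hPS hPS', fun y hy =>
    ⟨hTS (mem_map_of_mem _ hy.1), hUS (mem_map_of_mem _ hy.2)⟩⟩
  subst e
  have h1 : IsPGroup 2 ↥((S : Subgroup G).subgroupOf B) := S.2.comap_subtype
  exact Sylow.ext ((T.3 h1 fun y hy => hTS (mem_map_of_mem _ hy)).symm.trans
    (U.3 h1 fun y hy => hUS (mem_map_of_mem _ hy)))

/-- What commutes with a nonsolvable subgroup has one involution. -/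
theorem pair_oneInvol (h : Hyp G) {B : Subgroup G} (hB : ¬ Group.IsSolvable ↥B) {P : Subgroup G}
    (hP : IsPGroup 2 P) (hc : ∀ p ∈ P, ∀ b ∈ B, Commute p b) : OneInvol P := by
  obtain ⟨T, U, hne⟩ := exists_ne_sylow B hB
  obtain ⟨D, hD, hPD, -⟩ := meet h hne hP hc
  exact hD.mono hPD

variable {Q : Subgroup G} [Q.Normal]

/-- A simple subnormal subgroup of `G / Q`. -/
structure Atom (K : Subgroup (G ⧸ Q)) : Prop where
  sub : K.IsSubnormal
  simple : IsSimpleGroup ↥K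
  na : ¬ IsMulCommutative ↥K

theorem Atom.comp {K : Subgroup (G ⧸ Q)} (hK : Atom K) : Cfsg.IsComponent K :=
  ⟨hK.sub, CfsgLib.Walter.Rank.isQuasisimple_of_simple hK.simple hK.na⟩

/-- The perfect preimage. -/
structure Lift (Q : Subgroup G) [Q.Normal] (K : Subgroup (G ⧸ Q)) (A : Subgroup G) : Prop where
  map : A.map (QuotientGroup.mk' Q) = K
  perf : ⁅A, A⁆ = A
  cent : ∀ a ∈ A, ∀ q ∈ Q, Commute a q
  max : ∀ B : Subgroup G, B.map (QuotientGroup.mk' Q) ≤ K → ⁅B, B⁆ = B → B ≤ A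

theorem commutator_cent (hQc : IsCyclic ↥Q) {c : G} (hc : c ∈ commutator G) {q : G} (hq : q ∈ Q) :
    Commute c q := by
  haveI := hQc
  have hle : commutator G ≤ (MulAut.conjNormal (H := Q)).ker := by
    rw [_root_.commutator_def, commutator_le]
    intro a _ b _
    rw [MonoidHom.mem_ker, map_commutatorElement, commutatorElement_eq_one_iff_mul_comm]
    exact CfsgLib.GW.aut_comm_of_cyclic _ _
  have h1 := congrArg Subtype.val (DFunLike.congr_fun (MonoidHom.mem_ker.1 (hle hc)) ⟨q, hq⟩)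
  exact mul_inv_eq_iff_eq_mul.1 (by simpa using h1)

theorem exists_lift (hQc : IsCyclic ↥Q) {K : Subgroup (G ⧸ Q)} (hK : ⁅K, K⁆ = K) : ∃ A, Lift Q K A := by
  set π := QuotientGroup.mk' Q
  obtain ⟨A, hAK, hmin⟩ := WellFounded.has_min (wellFounded_lt : WellFounded ((· < ·) : Subgroup G → _ → Prop))
    {A | A.map π = K} ⟨K.comap π, map_comap_eq_self_of_surjective (QuotientGroup.mk'_surjective Q) K⟩
  have hperf : ⁅A, A⁆ = A := by
    have h1 : ⁅A, A⁆ ≤ A := (commutator_le).2 fun a ha b hb =>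
      mul_mem (mul_mem (mul_mem ha hb) (inv_mem ha)) (inv_mem hb)
    refine h1.lt_or_eq.resolve_left (hmin _ ?_)
    show ⁅A, A⁆.map π = K
    rw [map_commutator, show A.map π = K from hAK, hK]
  have hcent : ∀ a ∈ A, ∀ q ∈ Q, Commute a q := fun a ha q hq => commutator_cent hQc (by
    rw [← hperf] at ha
    rw [_root_.commutator_def]
    exact commutator_mono le_top le_top ha) hq
  refine ⟨A, hAK, hperf, hcent, fun B hB hBp => ?_⟩
  rw [← hBp, commutator_le]
  haveI := hQc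
  have hsplit : ∀ b ∈ B, ∃ a ∈ A, ∃ q ∈ Q, b = a * q := fun b hb => by
    obtain ⟨a, ha, e⟩ : π b ∈ A.map π := (show A.map π = K from hAK) ▸ hB (mem_map_of_mem π hb)
    exact ⟨a, ha, a⁻¹ * b, QuotientGroup.eq.1 e, by group⟩
  intro b hb b' hb'
  obtain ⟨a, ha, q, hq, rfl⟩ := hsplit b hb
  obtain ⟨a', ha', q', hq', rfl⟩ := hsplit b' hb'
  rw [comm_central (hcent a ha q hq).symm (hcent a' ha' q hq).symm (hcent a ha q' hq').symm
    (hcent a' ha' q' hq').symm (congrArg Subtype.val (IsCyclic.commGroup.mul_comm (⟨q, hq⟩ : ↥Q) ⟨q', hq'⟩))]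
  exact mul_mem (mul_mem (mul_mem ha ha') (inv_mem ha)) (inv_mem ha')

theorem Lift.commute (hQc : IsCyclic ↥Q) {K L : Subgroup (G ⧸ Q)} {A B : Subgroup G} (hA : Lift Q K A)
    (hB : Lift Q L B) (hKL : ∀ k ∈ K, ∀ l ∈ L, Commute k l) {a b : G} (ha : a ∈ A) (hb : b ∈ B) :
    Commute a b := by
  haveI := hQc
  have h1 : ∀ x ∈ A, ∃ q ∈ Q, b * x * b⁻¹ = x * q := fun x hx => by
    refine ⟨x⁻¹ * (b * x * b⁻¹), (QuotientGroup.eq_one_iff _).1 ?_, by group⟩
    show QuotientGroup.mk' Q (x⁻¹ * (b * x * b⁻¹)) = 1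
    have h0 := hKL _ (hA.map ▸ mem_map_of_mem (QuotientGroup.mk' Q) hx : QuotientGroup.mk' Q x ∈ K)
      _ (hB.map ▸ mem_map_of_mem (QuotientGroup.mk' Q) hb : QuotientGroup.mk' Q b ∈ L)
    rw [map_mul, map_mul, map_mul, map_inv, map_inv, ← h0.eq, mul_inv_cancel_right, inv_mul_cancel]
  have hle : ⁅A, A⁆ ≤ centralizer {b} := by
    rw [commutator_le]
    intro x hx x' hx'
    obtain ⟨q, hq, e⟩ := h1 x hx
    obtain ⟨q', hq', e'⟩ := h1 x' hx'
    rw [mem_centralizer_singleton_iff]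
    have h2 : b * ⁅x, x'⁆ * b⁻¹ = ⁅x, x'⁆ := by
      rw [show b * ⁅x, x'⁆ * b⁻¹ = ⁅b * x * b⁻¹, b * x' * b⁻¹⁆ by simp only [commutatorElement_def]; group, e, e']
      exact comm_central (hA.cent x hx q hq).symm (hA.cent x' hx' q hq).symm (hA.cent x hx q' hq').symm
        (hA.cent x' hx' q' hq').symm (congrArg Subtype.val (IsCyclic.commGroup.mul_comm (⟨q, hq⟩ : ↥Q) ⟨q', hq'⟩))
    exact (mul_inv_eq_iff_eq_mul.1 h2).symm
  exact mem_centralizer_singleton_iff.1 (hle (hA.perf.symm ▸ ha))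

/-- The projection of a lift. -/
def Lift.proj {K : Subgroup (G ⧸ Q)} {A : Subgroup G} (hA : Lift Q K A) : ↥A →* ↥K :=
  ((QuotientGroup.mk' Q).comp A.subtype).codRestrict K fun a => hA.map ▸ mem_map_of_mem _ a.2

theorem Lift.proj_surj {K : Subgroup (G ⧸ Q)} {A : Subgroup G} (hA : Lift Q K A) :
    Function.Surjective hA.proj := fun k => by
  obtain ⟨a, ha, e⟩ : (k : G ⧸ Q) ∈ A.map (QuotientGroup.mk' Q) := hA.map.symm ▸ k.2
  exact ⟨⟨a, ha⟩, Subtype.ext e⟩

theorem Lift.proj_eq_one {K : Subgroup (G ⧸ Q)} {A : Subgroup G} (hA : Lift Q K A) (a : ↥A) :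
    hA.proj a = 1 ↔ (a : G) ∈ Q := by
  rw [Subtype.ext_iff]
  exact QuotientGroup.eq_one_iff (a : G)

theorem Lift.not_solvable {K : Subgroup (G ⧸ Q)} {A : Subgroup G} (hA : Lift Q K A) (hK : Atom K) :
    ¬ Group.IsSolvable ↥A := fun hs => by
  haveI := hs
  haveI := hK.simple
  exact CfsgLib.CIT.nsolv_of_simple hK.na (Group.isSolvable_of_surjective hA.proj_surj)

/-- Two commuting factors with their lifts. -/
structure Two (Q : Subgroup G) [Q.Normal] (K L : Subgroup (G ⧸ Q)) (A B : Subgroup G) : Prop where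
  hyp : Hyp G
  q2 : IsPGroup 2 Q
  qc : IsCyclic ↥Q
  atom : Atom K
  atom' : Atom L
  ne : K ≠ L
  lift : Lift Q K A
  lift' : Lift Q L B

variable {K L : Subgroup (G ⧸ Q)} {A B : Subgroup G}

theorem Two.symm (d : Two Q K L A B) : Two Q L K B A :=
  ⟨d.hyp, d.q2, d.qc, d.atom', d.atom, d.ne.symm, d.lift', d.lift⟩

theorem Two.comm (d : Two Q K L A B) : ∀ k ∈ K, ∀ l ∈ L, Commute k l := fun k hk l hl =>
  CfsgLib.Coprime.commutator_eq_bot_iff_forall.1
    (CfsgLib.Coprime.components_commute d.atom.comp d.atom'.comp d.ne) k hk l hl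

theorem Two.inf (d : Two Q K L A B) {x : G ⧸ Q} (hk : x ∈ K) (hl : x ∈ L) : x = 1 := by
  haveI := d.atom.simple
  have h1 : (⟨x, hk⟩ : ↥K) ∈ center ↥K :=
    mem_center_iff.2 fun y => Subtype.ext (d.comm y y.2 x hl).eq
  rw [center_bot d.atom.na, mem_bot] at h1
  exact congrArg Subtype.val h1

theorem Two.commute (d : Two Q K L A B) {a b : G} (ha : a ∈ A) (hb : b ∈ B) : Commute a b :=
  d.lift.commute d.qc d.lift' d.comm ha hb

theorem Two.oneInvol (d : Two Q K L A B) {P : Subgroup G} (hP : IsPGroup 2 P) (hPA : P ≤ A) :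
    OneInvol (P ⊔ Q) := by
  refine pair_oneInvol d.hyp (d.lift'.not_solvable d.atom') (IsPGroup.to_sup_of_normal_right hP d.q2) ?_
  intro p hp b hb
  rw [← SetLike.mem_coe, mul_normal, Set.mem_mul] at hp
  obtain ⟨x, hx, q, hq, rfl⟩ := hp
  exact (d.commute (hPA hx) hb).mul_left (d.lift'.cent b hb q hq).symm

/-- `Q` has order two. -/
theorem Two.base (d : Two Q K L A B) :
    ∃ z : G, orderOf z = 2 ∧ (∀ q, q ∈ Q ↔ q = 1 ∨ q = z) ∧ ∀ R : Sylow 2 ↥A,
      ∃ x ∈ (R : Subgroup ↥A), (x : G) * x = z ∧ ∃ c ∈ (R : Subgroup ↥A), ¬ Commute (c : G) x := by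
  haveI : Fact (Nat.Prime 2) := ⟨Nat.prime_two⟩
  haveI := d.atom.simple
  have hdata : ∀ R : Sylow 2 ↥A, ∃ z x : G, z ∈ Q ∧ orderOf z = 2 ∧ x ∈ (R : Subgroup ↥A).map A.subtype ∧
      x * x = z ∧ ∀ y ∈ (R : Subgroup ↥A).map A.subtype,
        (∀ q ∈ (R : Subgroup ↥A).map A.subtype, Commute y q) → y * y = 1 := by
    intro R
    set P := (R : Subgroup ↥A).map A.subtype with hP
    have h1 : OneInvol (P ⊔ Q) := d.oneInvol (R.2.map _) (map_subtype_le _)
    rcases (h1.mono (le_sup_left : P ≤ P ⊔ Q)).cases (R.2.map _) with hc | ⟨n, ⟨e⟩⟩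
    · haveI := hc
      refine absurd ?_ (QuatF.not_isCyclic_sylow d.atom.na (R.mapSurjective d.lift.proj_surj))
      rw [Sylow.coe_mapSurjective]
      haveI : IsCyclic ↥(R : Subgroup ↥A) :=
        ((R : Subgroup ↥A).equivMapOfInjective A.subtype A.subtype_injective).isCyclic.2 hc
      exact isCyclic_of_surjective _ (MonoidHom.subgroupMap_surjective _ (R : Subgroup ↥A))
    obtain ⟨z, x, hzP, hzo, hx, hxx, hcen⟩ := quat_data e
    refine ⟨z, x, ?_, hzo, hx, hxx, hcen⟩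
    by_contra hzQ
    obtain ⟨⟨z', hz'A⟩, hz'R, rfl⟩ := hzP
    have hz1 : d.lift.proj ⟨z', hz'A⟩ ≠ 1 := fun e1 => hzQ ((d.lift.proj_eq_one _).1 e1)
    have hzz : (⟨z', hz'A⟩ : ↥A) * ⟨z', hz'A⟩ = 1 := Subtype.ext (invol_mul_self hzo)
    refine not_unique_invol d.atom.na (R.mapSurjective d.lift.proj_surj) (z := d.lift.proj ⟨z', hz'A⟩)
      (invol_iff.2 ⟨by rw [← map_mul, hzz, map_one], hz1⟩) ?_
    rintro _ ⟨r, hr, rfl⟩ hro
    have hrP : (r : G) ∈ P := mem_map_of_mem _ hr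
    have hr2 : (r : G) * r = 1 := by
      by_contra hne
      have hrrQ : (r : G) * r ∈ Q := (d.lift.proj_eq_one (r * r)).1 (by rw [map_mul]; exact invol_mul_self hro)
      obtain ⟨k, hk⟩ := (R.2.map A.subtype) ⟨(r : G) * r, mul_mem hrP hrP⟩
      have hk' : ((r : G) * r) ^ 2 ^ k = 1 := congrArg Subtype.val hk
      obtain ⟨j, -, hj⟩ := (Nat.dvd_prime_pow Nat.prime_two).1 (orderOf_dvd_of_pow_eq_one hk')
      have hev : Even (orderOf ((r : G) * r)) := by
        rw [hj, even_iff_two_dvd]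
        exact dvd_pow_self 2 fun h0 => hne (orderOf_eq_one_iff.1 (by rw [hj, h0, pow_zero]))
      have hw := orderOf_pow_half hev
      have hwP := pow_mem (mul_mem hrP hrP) (orderOf ((r : G) * r) / 2)
      refine hzQ ?_
      show z' ∈ Q
      rw [← h1 _ (mem_sup_left hwP) z' (mem_sup_left ⟨⟨z', hz'A⟩, hz'R, rfl⟩) hw hzo
        (d.lift.cent z' hz'A _ (pow_mem hrrQ _)).symm]
      exact pow_mem hrrQ _
    haveI : NeZero (2 ^ (n + 1)) := ⟨by positivity⟩
    have huniq : ∀ w : ↥P, w * w = 1 → (w : G) ≠ 1 → e w = .a ((2 ^ (n + 1) : ℕ) : ZMod (2 * 2 ^ (n + 1))) :=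
      fun w hw hw1 => (quaternion_sq_one (q := e w) (by rw [← map_mul, hw, map_one])).resolve_left
        fun e1 => hw1 (congrArg Subtype.val ((map_eq_one_iff e e.injective).1 e1))
    have hr1 : (r : G) ≠ 1 := fun e1 =>
      invol_ne_one hro (by rw [show r = 1 from Subtype.ext e1, map_one])
    have h2 := e.injective ((huniq ⟨r, hrP⟩ (Subtype.ext hr2) hr1).trans
      (huniq ⟨z', ⟨⟨z', hz'A⟩, hz'R, rfl⟩⟩ (Subtype.ext (invol_mul_self hzo)) (invol_ne_one hzo)).symm)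
    exact congrArg d.lift.proj (Subtype.ext (congrArg Subtype.val h2 :))
  obtain ⟨R₀⟩ : Nonempty (Sylow 2 ↥A) := inferInstance
  obtain ⟨z, x, hzQ, hzo, hx, hxx, hcen⟩ := hdata R₀
  haveI := d.qc
  have hQcomm : ∀ a ∈ Q, ∀ b ∈ Q, Commute a b := fun a ha b hb =>
    congrArg Subtype.val (IsCyclic.commGroup.mul_comm (⟨a, ha⟩ : ↥Q) ⟨b, hb⟩)
  have hone := d.oneInvol (R₀.2.map A.subtype) (map_subtype_le _)
  have huq : ∀ q ∈ Q, orderOf q = 2 → q = z := fun q hq ho =>
    hone q (mem_sup_right hq) z (mem_sup_right hzQ) ho hzo (hQcomm q hq z hzQ)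
  have hsmall : ∀ (k : ℕ) (q : G), q ∈ Q → q ^ 2 ^ k = 1 → q = 1 ∨ q = z := by
    intro k
    induction k with
    | zero => intro q _ hq; exact Or.inl (by simpa using hq)
    | succ k ih =>
      intro q hq hqk
      rcases ih (q * q) (mul_mem hq hq) (by rw [← pow_two, ← pow_mul, ← pow_succ']; exact hqk) with e | e
      · exact (em (q = 1)).imp_right fun h1 => huq q hq (invol_iff.2 ⟨e, h1⟩)
      · exfalso
        have hxA : x ∈ A := map_subtype_le _ hx
        have hxq : Commute q x := (d.lift.cent x hxA q hq).symm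
        have h2 : q * x * (q * x) = 1 := commute_sq hxq (invol_mul_self hzo) e hxx
        have hqx : q * x = 1 ∨ q * x = z := (em (q * x = 1)).imp_right fun h1 =>
          hone _ (mul_mem (mem_sup_right hq) (mem_sup_left hx)) z (mem_sup_right hzQ) (invol_iff.2 ⟨h2, h1⟩) hzo
            ((hQcomm q hq z hzQ).mul_left (d.lift.cent x hxA z hzQ))
        have hxQ : x ∈ Q := by
          rcases hqx with e1 | e1
          · rw [eq_inv_of_mul_eq_one_right e1]; exact inv_mem hq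
          · rw [eq_inv_mul_of_mul_eq e1]; exact mul_mem (inv_mem hq) hzQ
        have := hcen x hx fun y hy => (d.lift.cent y (map_subtype_le _ hy) x hxQ).symm
        exact invol_ne_one hzo (hxx.symm.trans this)
  have hQz : ∀ q, q ∈ Q ↔ q = 1 ∨ q = z := fun q => by
    refine ⟨fun hq => ?_, ?_⟩
    · obtain ⟨k, hk⟩ := d.q2 ⟨q, hq⟩
      exact hsmall k q hq (congrArg Subtype.val hk)
    · rintro (rfl | rfl)
      exacts [one_mem Q, hzQ]
  refine ⟨z, hzo, hQz, fun R => ?_⟩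
  obtain ⟨z', x', hz'Q, hz'o, ⟨x'', hx'', rfl⟩, hxx', hcen'⟩ := hdata R
  obtain rfl := ((hQz z').1 hz'Q).resolve_left (invol_ne_one hz'o)
  refine ⟨x'', hx'', hxx', ?_⟩
  by_contra! hall
  refine invol_ne_one hz'o (hxx'.symm.trans (hcen' _ (mem_map_of_mem _ hx'') ?_))
  rintro _ ⟨c, hc, rfl⟩
  exact (hall c hc).symm

end PairCase

end CfsgLib.RankOneInter
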