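import Cfsg.Agent.Lib.Invol.RankOneInter.PairFactor

/-!
# Each of two commuting factors is `SL(2, 5)`
-/

set_option autoImplicit false
set_option linter.unusedSectionVars false
set_option linter.style.haveILetI false

namespace CfsgLib.RankOneInter.PairCase

open Subgroup CfsgLib.Invol
open scoped commutatorElement

universe u

variable {G : Type u} [Group G] [Finite G] {Q : Subgroup G} [Q.Normal] {K L : Subgroup (G ⧸ Q)}
  {A B : Subgroup G} {z : G}

/-- Two factors together with the involution of `Q`. -/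
structure Two' (Q : Subgroup G) [Q.Normal] (K L : Subgroup (G ⧸ Q)) (A B : Subgroup G) (z : G) : Prop
    extends Two Q K L A B where
  hz : orderOf z = 2
  mem : ∀ q, q ∈ Q ↔ q = 1 ∨ q = z
  data : ∀ R : Sylow 2 ↥A, ∃ x ∈ (R : Subgroup ↥A), (x : G) * x = z ∧
    ∃ c ∈ (R : Subgroup ↥A), ¬ Commute (c : G) x
  data' : ∀ R : Sylow 2 ↥B, ∃ x ∈ (R : Subgroup ↥B), (x : G) * x = z ∧
    ∃ c ∈ (R : Subgroup ↥B), ¬ Commute (c : G) x

theorem Two'.swap (d : Two' Q K L A B z) : Two' Q L K B A z :=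
  ⟨d.toTwo.symm, d.hz, d.mem, d.data', d.data⟩

theorem Two.exists_z (d : Two Q K L A B) : ∃ z, Two' Q K L A B z := by
  obtain ⟨z, hz, hmem, hdata⟩ := d.base
  obtain ⟨z', hz', hmem', hdata'⟩ := d.symm.base
  obtain rfl := ((hmem z').1 ((hmem' z').2 (Or.inr rfl))).resolve_left (invol_ne_one hz')
  exact ⟨z', d, hz', hmem, hdata, hdata'⟩

theorem Two'.zQ (d : Two' Q K L A B z) : z ∈ Q := (d.mem z).2 (Or.inr rfl)

theorem Two'.zA (d : Two' Q K L A B z) : z ∈ A := by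
  obtain ⟨R⟩ : Nonempty (Sylow 2 ↥A) := inferInstance
  obtain ⟨x, -, hxx, -⟩ := d.data R
  exact hxx ▸ mul_mem x.2 x.2

theorem Two'.central (d : Two' Q K L A B z) (g : G) : Commute z g := by
  have h := (d.mem _).1 ((inferInstance : Q.Normal).conj_mem z d.zQ g)
  rcases h with h | h
  · exact absurd (conj_eq_one_iff.1 h) (invol_ne_one d.hz)
  · exact (mul_inv_eq_iff_eq_mul.1 h).symm

theorem Two'.oneZ (d : Two' Q K L A B z) : QuatF.OneZ A z := by
  refine ⟨d.hz, d.central, d.zA, fun a ha ha2 => (em (a = 1)).imp_right fun ha1 => ?_⟩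
  have hao := invol_iff.2 ⟨ha2, ha1⟩
  have hP : IsPGroup 2 (zpowers a) := IsPGroup.of_card (n := 1) (by rw [Nat.card_zpowers, hao, pow_one])
  exact d.toTwo.oneInvol hP (zpowers_le.2 ha) a (mem_sup_left (mem_zpowers a)) z (mem_sup_right d.zQ) hao d.hz
    (d.central a).symm

theorem Two'.eqz_iff (d : Two' Q K L A B z) {a b : G} :
    QuotientGroup.mk' Q a = QuotientGroup.mk' Q b ↔ QuatF.Eqz z a b := by
  rw [QuotientGroup.mk'_eq_mk']
  constructor
  · rintro ⟨w, hw, rfl⟩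
    rcases (d.mem w).1 hw with rfl | rfl
    · exact Or.inl (mul_one a).symm
    · exact Or.inr (by rw [mul_assoc, invol_mul_self d.hz, mul_one])
  · rintro (rfl | rfl)
    · exact ⟨1, one_mem _, mul_one _⟩
    · exact ⟨z, d.zQ, by rw [mul_assoc, invol_mul_self d.hz, mul_one]⟩

/-- Distinct Sylow subgroups of a factor meet trivially. -/
theorem Two'.ti (d : Two' Q K L A B z) : TI ↥K := by
  haveI : Fact (Nat.Prime 2) := ⟨Nat.prime_two⟩
  intro T₁ T₂ hne
  by_contra hbot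
  haveI : Nontrivial ↥((T₁ : Subgroup ↥K) ⊓ (T₂ : Subgroup ↥K)) := (nontrivial_iff_ne_bot _).2 hbot
  have h2 : 2 ∣ Nat.card ↥((T₁ : Subgroup ↥K) ⊓ (T₂ : Subgroup ↥K)) := by
    obtain ⟨k, hk⟩ := IsPGroup.iff_card.1 (T₁.2.to_le (inf_le_left (b := (T₂ : Subgroup ↥K))))
    rw [hk]
    refine dvd_pow_self 2 fun h0 => ?_
    rw [h0, pow_zero] at hk
    exact Finite.one_lt_card.ne' hk
  obtain ⟨⟨v, hv⟩, hvo⟩ := exists_prime_orderOf_dvd_card' 2 h2
  rw [Subgroup.orderOf_mk] at hvo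
  set φ := d.lift.proj with hφ
  have hker : IsPGroup 2 φ.ker := fun a => by
    obtain ⟨k, hk⟩ := d.q2 ⟨(a.1 : G), (d.lift.proj_eq_one a.1).1 a.2⟩
    exact ⟨k, Subtype.ext (Subtype.ext (show ((a.1 : G)) ^ 2 ^ k = 1 from congrArg Subtype.val hk))⟩
  obtain ⟨R₁, hR₁⟩ := (T₁.2.comap_of_ker_isPGroup φ hker).exists_le_sylow
  obtain ⟨R₂, hR₂⟩ := (T₂.2.comap_of_ker_isPGroup φ hker).exists_le_sylow
  have hRne : R₁ ≠ R₂ := fun e => hne (by
    have h1 : ∀ (T : Sylow 2 ↥K) (R : Sylow 2 ↥A), (T : Subgroup ↥K).comap φ ≤ R →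
        (R : Subgroup ↥A).map φ = T := fun T R hR => T.3 (R.2.map φ) fun t ht => by
      obtain ⟨a, rfl⟩ := d.lift.proj_surj t
      exact mem_map_of_mem φ (hR ht)
    exact Sylow.ext (by rw [← h1 T₁ R₁ hR₁, ← h1 T₂ R₂ hR₂, e]))
  obtain ⟨y, rfl⟩ := d.lift.proj_surj v
  obtain ⟨R⟩ : Nonempty (Sylow 2 ↥B) := inferInstance
  obtain ⟨w, -, hw, -⟩ := d.data' R
  have hzz := invol_mul_self d.hz
  have hwp : IsPGroup 2 (zpowers (w : G)) := by
    rintro ⟨_, i, rfl⟩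
    refine ⟨2, Subtype.ext ?_⟩
    show ((w : G) ^ i) ^ 2 ^ 2 = 1
    rw [← zpow_natCast, zpow_comm, zpow_natCast, show (2 : ℕ) ^ 2 = 2 + 2 from rfl, pow_add, pow_two, hw, hzz,
      one_zpow]
  obtain ⟨D, hD, hPD, hyD⟩ := meet d.hyp hRne (P := zpowers (w : G) ⊔ Q)
    (IsPGroup.to_sup_of_normal_right hwp d.q2) (fun p hp a ha => by
      rw [← SetLike.mem_coe, mul_normal, Set.mem_mul] at hp
      obtain ⟨x, hx, q, hq, rfl⟩ := hp
      exact (d.toTwo.commute ha ((zpowers_le.2 w.2) hx)).symm.mul_left (d.lift.cent a ha q hq).symm)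
  have hy := hyD y ⟨hR₁ hv.1, hR₂ hv.2⟩
  have hy1 : (y : G) ∉ Q := fun e => invol_ne_one hvo ((d.lift.proj_eq_one y).2 e)
  have hyy : (y : G) * y = z := by
    have h1 : (y : G) * y ∈ Q := (d.lift.proj_eq_one (y * y)).1 (by rw [map_mul]; exact invol_mul_self hvo)
    refine ((d.mem _).1 h1).resolve_left fun e => hy1 ?_
    rcases d.oneZ.one _ y.2 e with e' | e' <;> rw [e']
    exacts [one_mem Q, d.zQ]
  have hwy := d.toTwo.commute y.2 w.2
  have hsq : (y : G) * w * ((y : G) * w) = 1 := commute_sq hwy hzz hyy hw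
  have hwD : (y : G) * w ∈ D := mul_mem hy (hPD (mem_sup_left (mem_zpowers _)))
  have hyw : (y : G) * w ∈ Q := by
    by_cases h1 : (y : G) * w = 1
    · rw [h1]; exact one_mem Q
    · rw [hD _ hwD z (hPD (mem_sup_right d.zQ)) (invol_iff.2 ⟨hsq, h1⟩) d.hz (d.central _).symm]
      exact d.zQ
  refine hy1 ((QuotientGroup.eq_one_iff (y : G)).1 ?_)
  have h1 : QuotientGroup.mk' Q (y : G) * QuotientGroup.mk' Q (w : G) = 1 := by
    rw [← map_mul]; exact (QuotientGroup.eq_one_iff _).2 hyw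
  refine d.toTwo.inf (show QuotientGroup.mk' Q (y : G) ∈ K from d.lift.map ▸ mem_map_of_mem _ y.2) ?_
  show QuotientGroup.mk' Q (y : G) ∈ L
  rw [eq_inv_of_mul_eq_one_left h1]
  exact inv_mem (d.lift'.map ▸ mem_map_of_mem (QuotientGroup.mk' Q) w.2)

/-- The Sylow subgroups of a factor are four groups. -/
theorem Two'.klein (d : Two' Q K L A B z) (T : Sylow 2 ↥K) : IsKleinFour (T : Subgroup ↥K) := by
  haveI : Fact (Nat.Prime 2) := ⟨Nat.prime_two⟩
  haveI := d.atom.simple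
  set φ := d.lift.proj with hφ
  obtain ⟨R, hR⟩ := Sylow.mapSurjective_surjective d.lift.proj_surj 2 T
  have hRT : (R : Subgroup ↥A).map φ = T := congrArg Sylow.toSubgroup hR
  haveI : Nontrivial ↥(T : Subgroup ↥K) := (nontrivial_iff_ne_bot _).2
    (T.ne_bot_of_dvd_card (CfsgLib.CIT.two_dvd_card_of_simple d.atom.na))
  haveI := T.2.center_nontrivial
  obtain ⟨k₀, hk₀⟩ := IsPGroup.iff_card.1 (T.2.to_subgroup (center ↥(T : Subgroup ↥K)))
  obtain ⟨cb, hcb⟩ := exists_prime_orderOf_dvd_card' (G := center ↥(T : Subgroup ↥K)) 2 (by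
    rw [hk₀]
    refine dvd_pow_self 2 fun h0 => ?_
    rw [h0, pow_zero] at hk₀
    exact Finite.one_lt_card.ne' hk₀)
  set t₀ : ↥K := ((cb : ↥(T : Subgroup ↥K)) : ↥K) with ht₀def
  have ht₀ : orderOf t₀ = 2 := by rw [ht₀def, Subgroup.orderOf_coe, Subgroup.orderOf_coe, hcb]
  have ht₀T : t₀ ∈ (T : Subgroup ↥K) := (cb : ↥(T : Subgroup ↥K)).2
  have ht₀c : ∀ t ∈ (T : Subgroup ↥K), t * t₀ = t₀ * t := fun t ht =>
    congrArg Subtype.val (mem_center_iff.1 cb.2 ⟨t, ht⟩)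
  have hinv : ∀ t ∈ (T : Subgroup ↥K), orderOf t = 2 → ∀ t' ∈ (T : Subgroup ↥K), t' * t = t * t' := by
    intro t ht hto t' ht'
    obtain ⟨n, hn, rfl⟩ := d.ti.trans d.atom.na T ht₀ hto ht₀T ht
    have h1 := ht₀c _ ((mem_normalizer_iff''.1 hn t').1 ht')
    calc t' * (n * t₀ * n⁻¹) = n * (n⁻¹ * t' * n * t₀) * n⁻¹ := by group
      _ = n * (t₀ * (n⁻¹ * t' * n)) * n⁻¹ := by rw [h1]
      _ = n * t₀ * n⁻¹ * t' := by group
  -- lift the central involution
  obtain ⟨⟨c, hcA⟩, hcR, hcφ⟩ : t₀ ∈ (R : Subgroup ↥A).map φ := hRT ▸ ht₀T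
  have hO := d.oneZ
  have hmk : ∀ {a b : ↥A}, φ a = φ b → QuatF.Eqz z (a : G) b := fun {a b} e =>
    d.eqz_iff.1 (congrArg Subtype.val e :)
  have hmk' : ∀ {a b : ↥A}, QuatF.Eqz z (a : G) b → φ a = φ b := fun {a b} e => Subtype.ext (d.eqz_iff.2 e)
  have hpow : ∀ a ∈ (R : Subgroup ↥A), ∃ k : ℕ, (a : G) ^ 2 ^ k = 1 := fun a ha => by
    obtain ⟨k, hk⟩ := R.2 ⟨a, ha⟩
    exact ⟨k, congrArg (fun w : ↥(R : Subgroup ↥A) => ((w : ↥A) : G)) hk⟩
  have hc2 : c * c = z := by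
    have h1 : c * c ∈ Q := (d.lift.proj_eq_one (⟨c, hcA⟩ * ⟨c, hcA⟩)).1 (by
      rw [map_mul, ← hφ, hcφ]; exact invol_mul_self ht₀)
    refine ((d.mem _).1 h1).resolve_left fun e => invol_ne_one ht₀ ?_
    rw [← hcφ]
    refine (d.lift.proj_eq_one _).2 ?_
    rcases hO.one c hcA e with rfl | rfl
    exacts [one_mem Q, d.zQ]
  have hcR' : ∀ a ∈ (R : Subgroup ↥A), QuatF.Eqz z ((a : G) * c * (a : G)⁻¹) c := fun a ha =>
    hmk (a := a * ⟨c, hcA⟩ * a⁻¹) (b := ⟨c, hcA⟩) (by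
      rw [map_mul, map_mul, map_inv, hcφ, ht₀c _ (hRT ▸ mem_map_of_mem φ ha), mul_inv_cancel_right])
  have hflip : ∀ a ∈ (R : Subgroup ↥A), ¬ Commute (a : G) c → (a : G) * c * (a : G)⁻¹ = c * z := fun a ha hn =>
    (hcR' a ha).resolve_left fun e => hn (mul_inv_eq_iff_eq_mul.1 e)
  obtain ⟨e, heR, hec⟩ : ∃ e ∈ (R : Subgroup ↥A), ¬ Commute (e : G) c := by
    by_contra! hall
    obtain ⟨x, hx, hxx, c', hc', hn⟩ := d.data R
    have hcy : ∀ y ∈ (R : Subgroup ↥A), (y : G) * y = z → QuatF.Eqz z (y : G) c := fun y hy hyy =>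
      ((hO.four hcA hc2 y.2 (hall y hy) (Or.inr hyy)).resolve_left fun e =>
        invol_ne_one d.hz (by rw [← hyy, e, one_mul])).resolve_left fun e =>
        invol_ne_one d.hz (by rw [← hyy, e, invol_mul_self d.hz])
    exact hn (hO.commute_eqz (hcy x hx hxx) (hall c' hc'))
  have he2 : (e : G) * e = z := by
    obtain ⟨k, hk⟩ := hpow e heR
    exact hO.sq_out hcA hc2 e.2 hk (hflip e heR hec)
  have heφ : orderOf (φ e) = 2 := by
    rw [invol_iff, ← map_mul]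
    refine ⟨(d.lift.proj_eq_one _).2 ?_, fun h1 => ?_⟩
    · rw [Subgroup.coe_mul, he2]; exact d.zQ
    · rcases (d.mem _).1 ((d.lift.proj_eq_one e).1 h1) with h2 | h2
      · exact hec (by rw [h2]; exact Commute.one_left c)
      · exact hec (by rw [h2]; exact d.central c)
  -- nothing else commutes with `c`
  have hsmall : ∀ a ∈ (R : Subgroup ↥A), Commute (a : G) c → φ a = 1 ∨ φ a = t₀ := by
    intro a ha hac
    obtain ⟨k, hk⟩ := hpow a ha
    rcases hO.root hcA hc2 k a a.2 hk hac with e1 | e1 | e1 | ⟨n, e1⟩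
    · exact Or.inl ((d.lift.proj_eq_one a).2 (by rw [e1]; exact one_mem Q))
    · exact Or.inl ((d.lift.proj_eq_one a).2 (by rw [e1]; exact d.zQ))
    · exact Or.inr (hcφ ▸ hmk' (b := ⟨c, hcA⟩) e1)
    exfalso
    set r := a ^ n with hr
    have hrR : r ∈ (R : Subgroup ↥A) := pow_mem ha n
    have hrc : Commute (r : G) c := by rw [hr, Subgroup.coe_pow]; exact hac.pow_left n
    have h2 : (e : G) * r * c * ((e : G) * r)⁻¹ = c * z := by
      rw [show (e : G) * r * c * ((e : G) * r)⁻¹ = (e : G) * ((r : G) * c * (r : G)⁻¹) * (e : G)⁻¹ by group,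
        hrc.eq, mul_inv_cancel_right, hflip e heR hec]
    obtain ⟨k', hk'⟩ := hpow _ (mul_mem heR hrR)
    have h3 : φ e * φ r * (φ e * φ r) = 1 := by
      rw [← map_mul, ← map_mul]
      refine (d.lift.proj_eq_one _).2 ?_
      have h4 := hO.sq_out hcA hc2 (mul_mem e.2 r.2) hk' h2
      rw [Subgroup.coe_mul, Subgroup.coe_mul, h4]
      exact d.zQ
    have hcm := hinv (φ e) (hRT ▸ mem_map_of_mem φ heR) heφ (φ r) (hRT ▸ mem_map_of_mem φ hrR)
    rw [(show Commute (φ r) (φ e) from hcm).mul_mul_mul_comm, invol_mul_self heφ, one_mul] at h3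
    refine invol_ne_one ht₀ ?_
    rw [← hcφ, ← h3, ← map_mul]
    exact (hmk' (a := r * r) (b := ⟨c, hcA⟩) (by rw [hr, Subgroup.coe_mul, Subgroup.coe_pow]; exact e1)).symm
  have hne : φ e ≠ t₀ := fun h1 =>
    hec (hO.commute_eqz (hmk (a := e) (b := ⟨c, hcA⟩) (h1.trans hcφ.symm)) (Commute.refl c)).symm
  have hTset : (T : Subgroup ↥K) = Subgroup.closure {t₀, φ e} := by
    refine le_antisymm (fun t ht => ?_) ((closure_le _).2 (by
      rintro x (rfl | rfl)
      exacts [ht₀T, hRT ▸ mem_map_of_mem φ heR]))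
    obtain ⟨a, ha, rfl⟩ : t ∈ (R : Subgroup ↥A).map φ := hRT ▸ ht
    have hcl : ∀ u : ↥K, u = 1 ∨ u = t₀ → u ∈ Subgroup.closure ({t₀, φ e} : Set ↥K) := by
      rintro u (rfl | rfl)
      exacts [one_mem _, Subgroup.subset_closure (Or.inl rfl)]
    by_cases hac : Commute (a : G) c
    · exact hcl _ (hsmall a ha hac)
    · have h1 : Commute ((e : G) * a) c := by
        rw [Commute, SemiconjBy, ← mul_inv_eq_iff_eq_mul]
        calc (e : G) * a * c * ((e : G) * a)⁻¹ = (e : G) * ((a : G) * c * (a : G)⁻¹) * (e : G)⁻¹ := by group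
          _ = (e : G) * c * (z * (e : G)⁻¹) := by rw [hflip a ha hac]; group
          _ = (e : G) * c * (e : G)⁻¹ * z := by rw [(d.central (e : G)⁻¹).eq]; group
          _ = c := by rw [hflip e heR hec, mul_assoc, invol_mul_self d.hz, mul_one]
      have h2 := mul_mem (inv_mem (Subgroup.subset_closure (k := ({t₀, φ e} : Set ↥K)) (show φ e ∈ ({t₀, φ e} : Set ↥K) from Or.inr rfl)))
        (hcl _ (hsmall (e * a) (mul_mem heR ha) h1))
      rwa [map_mul, inv_mul_cancel_left] at h2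
  rw [hTset]
  exact isKleinFour_closure_pair ht₀ heφ hne.symm (ht₀c _ (hRT ▸ mem_map_of_mem φ heR)).symm

/-- A factor is `SL(2, 5)`. -/
theorem Two'.model (d : Two' Q K L A B z) : Nonempty (↥A ≃* SL25) := by
  haveI := d.atom.simple
  set φ := d.lift.proj
  obtain ⟨T⟩ : Nonempty (Sylow 2 ↥K) := inferInstance
  have h60 := d.ti.card_sixty d.atom.na T (d.klein T)
  have hker : φ.ker = center ↥A := by
    refine le_antisymm (fun (a : ↥A) ha => mem_center_iff.2 fun (b : ↥A) => Subtype.ext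
      (d.lift.cent (b : G) b.2 (a : G) ((d.lift.proj_eq_one a).1 ha)).eq) fun (a : ↥A) ha => ?_
    have h1 : φ a ∈ center ↥K := mem_center_iff.2 fun k => by
      obtain ⟨b, rfl⟩ := d.lift.proj_surj k
      rw [← map_mul, ← map_mul, mem_center_iff.1 ha b]
    rwa [center_bot d.atom.na, mem_bot] at h1
  let e : ↥A ⧸ center ↥A ≃* ↥K := (QuotientGroup.quotientMulEquivOfEq hker.symm).trans
    (QuotientGroup.quotientKerEquivOfSurjective φ d.lift.proj_surj)
  refine CfsgLib.CentGen.sl_two_five_of_cover ?_ (fun h => invol_ne_one d.hz ?_)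
    ((Nat.card_congr e.toEquiv).trans h60) fun hs => CfsgLib.CIT.nsolv_of_simple d.atom.na ?_
  · refine map_injective A.subtype_injective ?_
    rw [map_subtype_commutator, d.lift.perf, ← MonoidHom.range_eq_map, range_subtype]
  · have h1 : (⟨z, d.zA⟩ : ↥A) ∈ center ↥A := mem_center_iff.2 fun b => Subtype.ext (d.central b).symm
    rw [h, mem_bot] at h1
    exact congrArg Subtype.val h1
  · haveI := hs
    exact Group.isSolvable_of_surjective (f := e.toMonoidHom) e.surjective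

end CfsgLib.RankOneInter.PairCase
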