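import Cfsg.Agent.Lib.Invol.SylowTI
import Cfsg.Agent.Lib.Invol.NormalKleinCentralizer
import Cfsg.Agent.Lib.Invol.HallJankoCount
import Cfsg.Agent.Lib.Invol.RankOneInter.QuatFactor
import Cfsg.Agent.Lib.Fusion.AbelianSylowAut

/-!
# Simple groups with trivially intersecting four Sylow subgroups
-/

set_option autoImplicit false
set_option linter.unusedSectionVars false
set_option linter.style.haveILetI false

namespace CfsgLib.RankOneInter.PairCase

open Subgroup CfsgLib.Invol
open scoped Pointwise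

universe u

/-- Distinct Sylow two-subgroups meet trivially. -/
def TI (X : Type u) [Group X] : Prop :=
  ∀ S T : Sylow 2 X, S ≠ T → (S : Subgroup X) ⊓ (T : Subgroup X) = ⊥

variable {X : Type u} [Group X] [Finite X]

theorem TI.eq (h : TI X) {S T : Sylow 2 X} {a : X} (ha : a ≠ 1) (haS : a ∈ (S : Subgroup X))
    (haT : a ∈ (T : Subgroup X)) : S = T := by
  by_contra hne
  exact ha (mem_bot.1 ((h S T hne).le ⟨haS, haT⟩))

theorem smul_mem {T : Sylow 2 X} {g y : X} (hy : y ∈ (T : Subgroup X)) :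
    g * y * g⁻¹ ∈ ((g • T : Sylow 2 X) : Subgroup X) := by
  rw [Sylow.coe_subgroup_smul]
  exact smul_mem_pointwise_smul _ _ _ hy

variable [IsSimpleGroup X]

theorem center_bot (hna : ¬ IsMulCommutative X) : center X = ⊥ :=
  (inferInstance : (center X).Normal).eq_bot_or_eq_top.resolve_right fun e =>
    hna ⟨⟨fun a b => mem_center_iff.1 (e ▸ mem_top b : b ∈ center X) a⟩⟩

theorem core_bot (hna : ¬ IsMulCommutative X) : Cfsg.pPrimeCore 2 X = ⊥ := by
  haveI := CfsgLib.Coprime.pPrimeCore_characteristic (G := X) 2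
  refine (inferInstance : (Cfsg.pPrimeCore 2 X).Normal).eq_bot_or_eq_top.resolve_right fun e => ?_
  have h := CfsgLib.Coprime.pPrimeCore_not_dvd (G := X) Nat.prime_two
  rw [e, card_top] at h
  exact h (CfsgLib.CIT.two_dvd_card_of_simple hna)

/-- A Sylow subgroup of a nonabelian simple group has two involutions. -/
theorem not_unique_invol (hna : ¬ IsMulCommutative X) (T : Sylow 2 X) {z : X} (hz : orderOf z = 2)
    (hu : ∀ x ∈ (T : Subgroup X), orderOf x = 2 → x = z) : False := by
  have h := eq_of_zcentral_bot (zcentral_of_unique_invol T hz hu) (core_bot hna)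
  rw [center_bot hna, mem_bot] at h
  exact invol_ne_one hz h

/-- The normalizer of `T` is transitive on its involutions. -/
theorem TI.trans (h : TI X) (hna : ¬ IsMulCommutative X) (T : Sylow 2 X) {a b : X} (ha : orderOf a = 2)
    (hb : orderOf b = 2) (haT : a ∈ (T : Subgroup X)) (hbT : b ∈ (T : Subgroup X)) :
    ∃ n ∈ normalizer ((T : Subgroup X) : Set X), n * a * n⁻¹ = b := by
  haveI : Fact (Nat.Prime 2) := ⟨Nat.prime_two⟩
  have hnn : ¬ (T : Subgroup X).Normal := fun hn => by
    rcases hn.eq_bot_or_eq_top with e | e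
    · exact invol_ne_one ha (mem_bot.1 (e ▸ haT))
    · haveI : Group.IsNilpotent X :=
        (((T.2.of_equiv (MulEquiv.subgroupCongr e)).of_equiv Subgroup.topEquiv)).isNilpotent
      exact CfsgLib.CIT.nsolv_of_simple hna inferInstance
  obtain ⟨g, hg⟩ := isConj_iff.1 (isConj_of_TI_sylow T hnn (fun g hg =>
    h (g • T) T fun e => hg ((Sylow.coe_subgroup_smul (g := g) (P := T)).symm.trans
      (congrArg Sylow.toSubgroup e))) ha hb)
  exact ⟨g, Sylow.smul_eq_iff_mem_normalizer.1 (h.eq (invol_ne_one hb) (hg ▸ smul_mem haT) hbT), hg⟩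

/-- With a four Sylow subgroup the group has order sixty. -/
theorem TI.card_sixty (h : TI X) (hna : ¬ IsMulCommutative X) (T : Sylow 2 X)
    (hK : IsKleinFour (T : Subgroup X)) : Nat.card X = 60 := by
  haveI : Fact (Nat.Prime 2) := ⟨Nat.prime_two⟩
  haveI : Nontrivial ↥(T : Subgroup X) := Finite.one_lt_card_iff_nontrivial.1 (by rw [hK.card_four]; norm_num)
  obtain ⟨v, hv⟩ := exists_ne (1 : ↥(T : Subgroup X))
  have hv1 : (v : X) ≠ 1 := fun e => hv (Subtype.ext e)
  have hv2 := klein_invol T hK v.2 hv1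
  have hle : (T : Subgroup X) ≤ centralizer ({(v : X)} : Set X) := fun a ha =>
    mem_centralizer_singleton_iff.2 (congrArg Subtype.val ((klein_comm T hK).is_comm.comm ⟨a, ha⟩ v))
  have hN : centralizer ({(v : X)} : Set X) ≤ normalizer ((T : Subgroup X) : Set X) := fun g hg => by
    refine Sylow.smul_eq_iff_mem_normalizer.1 (h.eq hv1 ?_ v.2)
    have h1 := smul_mem (g := g) v.2
    rwa [mem_centralizer_singleton_iff.1 hg, mul_inv_cancel_right] at h1
  obtain ⟨e⟩ := NormalKlein.iso_alt_five (V := (T : Subgroup X)) (x := (v : X))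
    ⟨hv2, hle, hK, fun hd => T.not_dvd_index (hd.trans (relIndex_dvd_index_of_le hle)),
      normal_subgroupOf_of_le_normalizer hN⟩
  rw [Nat.card_congr e.toEquiv, HallJanko.card_alt_five]

/-- An automorphism of two-power order fixing a four Sylow subgroup is induced by it. -/
theorem inner_of_fix (hna : ¬ IsMulCommutative X) (T : Sylow 2 X) (hK : IsKleinFour (T : Subgroup X))
    (α : MulAut X) {k : ℕ} (hα : α ^ 2 ^ k = 1) (hfix : ∀ x ∈ (T : Subgroup X), α x = x) :
    ∃ g ∈ (T : Subgroup X), ∀ x, α x = g * x * g⁻¹ := by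
  haveI : Fact (Nat.Prime 2) := ⟨Nat.prime_two⟩
  obtain ⟨i, -, hi⟩ := (Nat.dvd_prime_pow Nat.prime_two).1 (orderOf_dvd_of_pow_eq_one hα)
  obtain ⟨g, hg⟩ := CfsgLib.Fusion.isInner_of_fixes_abelian_sylow (center_bot hna) (core_bot hna) T
    (klein_comm T hK) α hi hfix
  have hpow : g ^ 2 ^ k = 1 := by
    have e : MulAut.conj g = α := MulEquiv.ext fun x => (hg x).symm
    have h1 : MulAut.conj (g ^ 2 ^ k) = 1 := by rw [map_pow, e, hα]
    have h2 : g ^ 2 ^ k ∈ center X := mem_center_iff.2 fun y =>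
      (mul_inv_eq_iff_eq_mul.1 (show g ^ 2 ^ k * y * (g ^ 2 ^ k)⁻¹ = y from DFunLike.congr_fun h1 y)).symm
    rwa [center_bot hna, mem_bot] at h2
  refine ⟨g, QuatF.mem_of_normalizer (k := k) (mem_normalizer_iff.2 fun x => ?_) hpow, hg⟩
  constructor
  · intro hx; rw [← hg, hfix x hx]; exact hx
  · intro hx
    have h1 := hfix _ hx
    rw [← hg, α.injective.eq_iff] at h1
    · rw [← hg] at hx
      rwa [h1] at hx

end CfsgLib.RankOneInter.PairCase
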