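import Cfsg.Agent.Lib.Invol.RankOneInter.Setting
import Cfsg.Agent.Lib.Invol.BrauerSuzuki
import Cfsg.Agent.Lib.Invol.GLTwoThree
import Cfsg.Agent.Lib.Invol.AltEightSubgroups
import Cfsg.Agent.Lib.Coprime.UniqueOrderP
import Cfsg.Agent.Lib.PGroup.CyclicIndexTwoAut

/-!
# Two-groups with one involution
-/

set_option autoImplicit false
set_option linter.unusedSectionVars false

namespace CfsgLib.RankOneInter

open Subgroup CfsgLib.Invol

universe u

variable {G : Type u} [Group G] [Finite G]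

theorem OneInvol.mono {D D' : Subgroup G} (h : OneInvol D) (hle : D' ≤ D) : OneInvol D' :=
  fun a ha b hb => h a (hle ha) b (hle hb)

theorem OneInvol.unique {D : Subgroup G} (h : OneInvol D) (hD : IsPGroup 2 D) :
    CfsgLib.Coprime.UniqueOrderP 2 ↥D := by
  intro a b ha hb ha1
  by_cases hb1 : b = 1
  · rw [hb1]; exact one_mem _
  have ha' : orderOf (a : G) = 2 := by rw [orderOf_coe]; exact orderOf_eq_prime ha ha1
  have hb' : orderOf (b : G) = 2 := by rw [orderOf_coe]; exact orderOf_eq_prime hb hb1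
  haveI : Nontrivial ↥D := ⟨⟨a, 1, ha1⟩⟩
  haveI := hD.center_nontrivial
  obtain ⟨k, hk, hk'⟩ : ∃ k, 0 < k ∧ Nat.card (center ↥D) = 2 ^ k := by
    obtain ⟨k, hk⟩ := IsPGroup.iff_card.1 (hD.to_subgroup (center ↥D))
    refine ⟨k, Nat.pos_of_ne_zero fun e => ?_, hk⟩
    rw [e, pow_zero] at hk
    exact Finite.one_lt_card.ne' hk
  obtain ⟨c, hc⟩ := exists_prime_orderOf_dvd_card' (G := center ↥D) 2 (hk' ▸ dvd_pow_self 2 hk.ne')
  have hc' : orderOf ((c : ↥D) : G) = 2 := by rw [orderOf_coe, orderOf_coe, hc]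
  have key : ∀ x : ↥D, orderOf (x : G) = 2 → (x : G) = ((c : ↥D) : G) := fun x hx =>
    h _ x.2 _ c.1.2 hx hc' (congrArg Subtype.val (mem_center_iff.1 c.2 x))
  have hab : b = a := Subtype.ext ((key b hb').trans (key a ha').symm)
  rw [hab]
  exact mem_zpowers a

/-- Cyclic or generalized quaternion. -/
theorem OneInvol.cases {D : Subgroup G} (h : OneInvol D) (hD : IsPGroup 2 D) :
    IsCyclic ↥D ∨ ∃ n : ℕ, Nonempty (↥D ≃* QuaternionGroup (2 ^ (n + 1))) := by
  rcases CfsgLib.Coprime.cyclic_or_quaternion_of_unique_two hD (h.unique hD) with hc | ⟨n, ⟨e⟩⟩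
  · exact Or.inl hc
  · rcases n with - | n
    · refine Or.inl ?_
      rw [MulEquiv.isCyclic e]
      exact QuaternionGroup.quaternionGroup_one_isCyclic
    · exact Or.inr ⟨n, ⟨e⟩⟩

/-- The data of a noncyclic group with one involution. -/
theorem quat_data {Q : Subgroup G} {n : ℕ} (e : ↥Q ≃* QuaternionGroup (2 ^ (n + 1))) :
    ∃ z x : G, z ∈ Q ∧ orderOf z = 2 ∧ x ∈ Q ∧ x * x = z ∧
      ∀ y ∈ Q, (∀ q ∈ Q, Commute y q) → y * y = 1 := by
  haveI : NeZero (2 ^ (n + 1)) := ⟨by positivity⟩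
  set x : ↥Q := e.symm (QuaternionGroup.xa 0) with hx
  have h2 : orderOf (x * x) = 2 := by
    rw [hx, ← map_mul, MulEquiv.orderOf_eq, ← pow_two, orderOf_pow, QuaternionGroup.orderOf_xa]
    rfl
  refine ⟨((x * x : ↥Q) : G), x, (x * x).2, by rw [orderOf_coe, h2], x.2, rfl, fun y hy hc => ?_⟩
  have h3 := quaternion_central_sq (N := 2 ^ (n + 1)) (le_self_pow₀ (by norm_num) (by omega))
    (q := e ⟨y, hy⟩) (by
      rw [← e.apply_symm_apply (QuaternionGroup.xa 0), ← map_mul, ← map_mul, ← hx,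
        show (⟨y, hy⟩ : ↥Q) * x = x * ⟨y, hy⟩ from Subtype.ext (hc x x.2).eq]) (by
      rw [← e.apply_symm_apply (QuaternionGroup.a 1), ← map_mul, ← map_mul]
      exact congrArg e (Subtype.ext (hc _ (e.symm (QuaternionGroup.a 1)).2).eq))
  rw [← map_mul, map_eq_one_iff _ e.injective] at h3
  exact congrArg Subtype.val h3

/-- The automorphisms of a group with one involution form a solvable group. -/
theorem OneInvol.solvable_mulAut {D : Subgroup G} (h : OneInvol D) (hD : IsPGroup 2 D) :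
    Group.IsSolvable (MulAut ↥D) := by
  haveI : Fact (Nat.Prime 2) := ⟨Nat.prime_two⟩
  rcases h.cases hD with hc | ⟨n, ⟨e⟩⟩
  · haveI := hc
    refine Group.isSolvable_of_comm fun α β => MulEquiv.ext fun g => ?_
    obtain ⟨g₀, hg₀⟩ := IsCyclic.exists_generator (α := ↥D)
    obtain ⟨k, rfl⟩ := mem_zpowers_iff.1 (hg₀ g)
    obtain ⟨i, hi⟩ := mem_zpowers_iff.1 (hg₀ (α g₀))
    obtain ⟨j, hj⟩ := mem_zpowers_iff.1 (hg₀ (β g₀))
    simp only [MulAut.mul_apply, map_zpow, ← hi, ← hj, ← zpow_mul, mul_comm i j]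
  · suffices hs : Group.IsSolvable (MulAut (QuaternionGroup (2 ^ (n + 1)))) by
      haveI := hs
      exact Group.isSolvable_of_surjective (f := (MulAut.congr e.symm).toMonoidHom)
        (MulAut.congr e.symm).surjective
    haveI : NeZero (2 ^ (n + 1)) := ⟨by positivity⟩
    rcases n with - | n
    · haveI : Finite (MulAut (QuaternionGroup (2 ^ 1))) :=
        Finite.of_injective (fun α : MulAut (QuaternionGroup (2 ^ 1)) => (α : QuaternionGroup (2 ^ 1) → _))
          DFunLike.coe_injective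
      exact CfsgLib.Invol.AltEightSubgroups.solvable_of_card_lt_sixty _ rfl
        (lt_of_le_of_lt CfsgLib.GLTwoThree.card_mulAut_le (by norm_num))
    · haveI : Finite (MulAut (QuaternionGroup (2 ^ (n + 2)))) :=
        Finite.of_injective (fun α : MulAut (QuaternionGroup (2 ^ (n + 2))) => (α : QuaternionGroup (2 ^ (n + 2)) → _))
          DFunLike.coe_injective
      haveI := (CfsgLib.CyclicTwoAut.isPGroup_mulAut_quaternion (j := n + 2) (by omega)).isNilpotent
      infer_instance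

end CfsgLib.RankOneInter
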