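import Cfsg.Agent.Lib.Invol.KleinPair
import Cfsg.Prelude.Def_CaseTheorems
import Mathlib.GroupTheory.Sylow

/-!
# Sylow `2`-intersections of rank at most one: the basic consequences
-/

set_option autoImplicit false
set_option linter.unusedSectionVars false

namespace CfsgLib.RankOneInter

open Subgroup CfsgLib.Invol

universe u

/-- Any two distinct Sylow `2`-subgroups meet in a group of `2`-rank at most one. -/
def Hyp (G : Type u) [Group G] : Prop :=
  ∀ S T : Sylow 2 G, S ≠ T → Cfsg.PRankLE 2 1 ↥((S : Subgroup G) ⊓ (T : Subgroup G))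

/-- `D` has at most one involution. -/
def OneInvol {G : Type u} [Group G] (D : Subgroup G) : Prop :=
  ∀ a ∈ D, ∀ b ∈ D, orderOf a = 2 → orderOf b = 2 → Commute a b → a = b

variable {G : Type u} [Group G] [Finite G]

theorem Hyp.oneInvol (h : Hyp G) {S T : Sylow 2 G} (hne : S ≠ T) :
    OneInvol ((S : Subgroup G) ⊓ (T : Subgroup G)) := by
  intro a ha b hb hao hbo hc
  by_contra hab
  set D := (S : Subgroup G) ⊓ (T : Subgroup G)
  have ha' : orderOf (⟨a, ha⟩ : D) = 2 := by rwa [Subgroup.orderOf_mk]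
  have hb' : orderOf (⟨b, hb⟩ : D) = 2 := by rwa [Subgroup.orderOf_mk]
  have hk := isKleinFour_closure_pair ha' hb' (fun e => hab (congrArg Subtype.val e)) (Subtype.ext hc.eq)
  set A := Subgroup.closure ({⟨a, ha⟩, ⟨b, hb⟩} : Set D)
  have h1 := h S T hne A (isMulCommutative_closure fun x hx y hy => by
      simp only [Set.mem_insert_iff, Set.mem_singleton_iff] at hx hy
      rcases hx with rfl | rfl <;> rcases hy with rfl | rfl
      exacts [rfl, Subtype.ext hc.eq, Subtype.ext hc.eq.symm, rfl])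
    fun x hx => by
      have h2 : (⟨x, hx⟩ : A) ^ Monoid.exponent A = 1 := Monoid.pow_exponent_eq_one _
      rw [hk.exponent_two] at h2
      exact congrArg Subtype.val h2
  rw [hk.card_four, pow_one] at h1
  omega

/-- Two commuting involutions lie in one Sylow subgroup only. -/
theorem Hyp.sylow_eq (h : Hyp G) {S T : Sylow 2 G} {a b : G} (ha : orderOf a = 2) (hb : orderOf b = 2)
    (hc : Commute a b) (hab : a ≠ b) (haS : a ∈ (S : Subgroup G)) (hbS : b ∈ (S : Subgroup G))
    (haT : a ∈ (T : Subgroup G)) (hbT : b ∈ (T : Subgroup G)) : S = T := by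
  by_contra hne
  exact hab (h.oneInvol hne a ⟨haS, haT⟩ b ⟨hbS, hbT⟩ ha hb hc)

/-- An element keeping two commuting involutions of `S` in it normalizes it. -/
theorem Hyp.mem_normalizer (h : Hyp G) {S : Sylow 2 G} {a b g : G} (ha : orderOf a = 2) (hb : orderOf b = 2)
    (hc : Commute a b) (hab : a ≠ b) (haS : a ∈ (S : Subgroup G)) (hbS : b ∈ (S : Subgroup G))
    (hga : g * a * g⁻¹ ∈ (S : Subgroup G)) (hgb : g * b * g⁻¹ ∈ (S : Subgroup G)) :
    g ∈ normalizer ((S : Subgroup G) : Set G) := by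
  have hmem : ∀ x : G, g * x * g⁻¹ ∈ (S : Subgroup G) → x ∈ ((g⁻¹ • S : Sylow 2 G) : Subgroup G) := fun x hx => by
    rw [Sylow.coe_subgroup_smul, mem_pointwise_smul_iff_inv_smul_mem, ← map_inv, MulAut.smul_def,
      MulAut.conj_apply]
    simpa using hx
  exact inv_mem_iff.1 (Sylow.smul_eq_iff_mem_normalizer.1
    (h.sylow_eq ha hb hc hab haS hbS (hmem a hga) (hmem b hgb)).symm)

/-- The hypothesis passes to subgroups. -/
theorem Hyp.subgroup (h : Hyp G) (N : Subgroup G) : Hyp ↥N := by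
  intro P R hne A hA hA2
  obtain ⟨S, hS⟩ := (P.2.map N.subtype).exists_le_sylow
  obtain ⟨T, hT⟩ := (R.2.map N.subtype).exists_le_sylow
  have key : ∀ (A : Sylow 2 ↥N) (A' : Sylow 2 G), (A : Subgroup ↥N).map N.subtype ≤ A' →
      (A' : Subgroup G).comap N.subtype = A := fun A A' hA =>
    A.3 (A'.2.comap_of_injective _ N.subtype_injective) fun x hx => hA (mem_map_of_mem _ hx)
  have hST : S ≠ T := fun e => hne (Sylow.ext (by rw [← key P S hS, ← key R T hT, e]))
  let f : ↥((P : Subgroup ↥N) ⊓ (R : Subgroup ↥N)) →* ↥((S : Subgroup G) ⊓ (T : Subgroup G)) :=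
    (N.subtype.comp ((P : Subgroup ↥N) ⊓ (R : Subgroup ↥N)).subtype).codRestrict _
      fun x => ⟨hS (mem_map_of_mem _ x.2.1), hT (mem_map_of_mem _ x.2.2)⟩
  have hf : Function.Injective f := fun a b e => Subtype.ext (Subtype.ext (congrArg Subtype.val e :))
  haveI := hA
  have h1 := h S T hST (A.map f) (Subgroup.map_isMulCommutative A f)
    (by rintro _ ⟨a, ha, rfl⟩; rw [← map_pow, hA2 a ha, map_one])
  rwa [card_map_of_injective hf] at h1

/-- A cyclic-or-quaternion group: what centralizes a noncyclic part lies in it. -/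
theorem OneInvol.mem_of_commute {D Q : Subgroup G} (hD : OneInvol D) (hQD : Q ≤ D) {z x : G}
    (hzQ : z ∈ Q) (hz : orderOf z = 2) (hxQ : x ∈ Q) (hx : x * x = z)
    (hQZ : ∀ y ∈ Q, (∀ q ∈ Q, Commute y q) → y * y = 1)
    {y : G} (hy : y ∈ D) (hyc : ∀ q ∈ Q, Commute y q) (hy2 : y * y ∈ Q) : y ∈ Q := by
  have h1 : y * y * (y * y) = 1 := hQZ _ hy2 fun q hq => (hyc q hq).mul_left (hyc q hq)
  have huniq : ∀ a ∈ D, a * a = 1 → Commute a z → a ∈ Q := fun a ha ha2 hc => by
    by_cases ha1 : a = 1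
    · rw [ha1]; exact one_mem Q
    · rw [hD a ha z (hQD hzQ) (invol_iff.2 ⟨ha2, ha1⟩) hz hc]; exact hzQ
  by_cases hy1 : y * y = 1
  · exact huniq y hy hy1 (hyc z hzQ)
  have hyz : y * y = z := hD _ (hQD hy2) z (hQD hzQ) (invol_iff.2 ⟨h1, hy1⟩) hz
    ((hyc z hzQ).mul_left (hyc z hzQ))
  have hxy : Commute x y := (hyc x hxQ).symm
  have h2 := huniq (x * y) (mul_mem (hQD hxQ) hy) (by
    rw [hxy.symm.mul_mul_mul_comm, hx, hyz, invol_mul_self hz])
    ((hx ▸ (Commute.refl x).mul_right (Commute.refl x) : Commute x z).mul_left (hyc z hzQ))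
  simpa using mul_mem (inv_mem hxQ) h2

end CfsgLib.RankOneInter
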