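import Cfsg.Agent.Lib.Invol.RankOneInter.QFacts
import Cfsg.Agent.Lib.Invol.NormalFourExists
import Cfsg.Agent.Lib.Invol.CentralInter.Basic
import Cfsg.Agent.Lib.Goldschmidt.Final
import Cfsg.Agent.Lib.Goldschmidt.RankOne.Omega
import Cfsg.Agent.Lib.Bender.Suzuki.Classified
import Cfsg.Agent.Lib.Walter.Main
import Cfsg.Agent.Lib.Perm.CycStab.Prim
import Cfsg.Agent.Lib.Fusion.Tate
import Cfsg.Agent.Lib.Invol.CyclicInter.Odd

/-!
# A central extension of a simple group with a noncentral involution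

A lifted involution lies in one Sylow subgroup only.  One of them is central modulo the kernel, so the
central involutions of the Sylow subgroup form a strongly closed subgroup and Goldschmidt's list applies.
-/

set_option autoImplicit false
set_option linter.unusedSectionVars false
set_option linter.style.haveILetI false

namespace CfsgLib.RankOneInter

open Subgroup CfsgLib.Invol

universe u

variable {X : Type u} [Group X] [Finite X]

/-- The central kernel is in every Sylow subgroup. -/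
theorem central_le_sylow {Z : Subgroup X} (hZc : Z ≤ center X) (hZ2 : IsPGroup 2 Z) (T : Sylow 2 X) :
    Z ≤ (T : Subgroup X) := by
  haveI : Fact (Nat.Prime 2) := ⟨Nat.prime_two⟩
  intro x hx
  obtain ⟨k, hk⟩ := hZ2 ⟨x, hx⟩
  refine CfsgLib.CentInt.mem_sylow_of_normalizer (k := k) (mem_set_normalizer_iff.2 fun s => ?_)
    (by simpa using congrArg Subtype.val hk)
  rw [← mem_center_iff.1 (hZc hx) s, mul_inv_cancel_right]

/-- A simple group is not solvable. -/
theorem not_solvable_of_simple {L : Type u} [Group L] [IsSimpleGroup L] (hna : ¬ IsMulCommutative L) :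
    ¬ Group.IsSolvable L := fun h => hna ⟨⟨IsSimpleGroup.comm_iff_isSolvable.2 h⟩⟩

/-- No simple group has a subgroup of index two. -/
theorem index_ne_two {L : Type u} [Group L] [Finite L] [IsSimpleGroup L] (hna : ¬ IsMulCommutative L)
    {M : Subgroup L} (hM : M.Normal) : M.index ≠ 2 := by
  intro h2
  rcases hM.eq_bot_or_eq_top with e | e
  · rw [e, index_bot] at h2
    haveI := isCyclic_of_prime_card (p := 2) (hp := ⟨Nat.prime_two⟩) h2
    exact hna ⟨⟨fun a b => IsCyclic.commGroup.mul_comm a b⟩⟩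
  · rw [e, index_top] at h2
    omega

/-- Some lifted involution is central modulo the kernel. -/
theorem exists_central_lift (Z : Subgroup X) [Z.Normal] (hZc : Z ≤ center X) (hZ2 : IsPGroup 2 Z) {z : X}
    (hzZ : z ∈ Z) (hz : orderOf z = 2) (hZone : ∀ a ∈ Z, orderOf a = 2 → a = z) [IsSimpleGroup (X ⧸ Z)]
    (hna : ¬ IsMulCommutative (X ⧸ Z)) (hy : ∃ y : X, orderOf y = 2 ∧ y ∉ Z) (S : Sylow 2 X) :
    ∃ y ∈ (S : Subgroup X), orderOf y = 2 ∧ y ∉ Z ∧ ∀ s ∈ (S : Subgroup X), s * y * s⁻¹ * y⁻¹ ∈ Z := by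
  classical
  haveI : Fact (Nat.Prime 2) := ⟨Nat.prime_two⟩
  have hZS := central_le_sylow hZc hZ2 S
  set π := QuotientGroup.mk' Z with hπdef
  have hπ := QuotientGroup.mk'_surjective Z
  have hker : ∀ x, π x = 1 ↔ x ∈ Z := fun x => QuotientGroup.eq_one_iff x
  set P := S.mapSurjective hπ with hPdef
  have hPS : ∀ x, π x ∈ (P : Subgroup (X ⧸ Z)) ↔ x ∈ (S : Subgroup X) := fun x => by
    rw [hPdef, Sylow.coe_mapSurjective]
    refine ⟨?_, fun h => mem_map_of_mem π h⟩
    rintro ⟨s, hs, e⟩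
    have h1 : s⁻¹ * x ∈ (S : Subgroup X) := hZS ((hker _).1 (by rw [map_mul, map_inv, e, inv_mul_cancel]))
    simpa using mul_mem hs h1
  have hnc : ¬ IsCyclic ↥(P : Subgroup (X ⧸ Z)) := fun hc =>
    not_solvable_of_simple hna (CfsgLib.Perm.CycStab.isSolvable_of_cyclic_two P hc)
  by_cases hall : ∀ B : Subgroup ↥(S : Subgroup X), B.Normal → IsMulCommutative B → IsCyclic B
  · rcases cyclic_or_std S.2 hall with hc | ⟨-, k, r, e, a, b, -, F, -⟩
    · refine absurd ?_ hnc
      haveI := hc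
      exact isCyclic_of_surjective ((π.comp (S : Subgroup X).subtype).codRestrict (P : Subgroup (X ⧸ Z))
        fun s => (hPS s).2 s.2) fun p => by
          obtain ⟨x, hx⟩ := hπ p.1
          exact ⟨⟨x, (hPS x).1 (hx.symm ▸ p.2)⟩, Subtype.ext hx⟩
    -- the image of the cyclic subgroup of index two
    set A : Subgroup (X ⧸ Z) := zpowers (π a) with hA
    haveI : IsCyclic ↥A := inferInstanceAs (IsCyclic ↥(zpowers (π a)))
    have hAP : A ≤ (P : Subgroup (X ⧸ Z)) := zpowers_le.2 ((hPS _).2 a.2)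
    have hdec : ∀ p ∈ (P : Subgroup (X ⧸ Z)), p ∈ A ∨ ∃ i : ℤ, p = π a ^ i * π b := fun p hp => by
      obtain ⟨x, rfl⟩ := hπ p
      obtain ⟨i, e1 | e1⟩ := F.exists_eq ⟨x, (hPS x).1 hp⟩
      · have e2 : x = (a : X) ^ i := congrArg Subtype.val e1
        exact Or.inl (mem_zpowers_iff.2 ⟨i, by rw [e2, map_zpow]⟩)
      · have e2 : x = (a : X) ^ i * b := congrArg Subtype.val e1
        exact Or.inr ⟨i, by rw [e2, map_mul, map_zpow]⟩
    have hnorm : ∀ p ∈ (P : Subgroup (X ⧸ Z)), ∀ q ∈ A, p * q * p⁻¹ ∈ A := by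
      have hb : π b * π a * (π b)⁻¹ ∈ A := by
        have e2 : (b : X) * a * (b : X)⁻¹ = (a : X) ^ r := congrArg Subtype.val F.conj
        exact mem_zpowers_iff.2 ⟨r, by rw [← map_zpow, ← e2, map_mul, map_mul, map_inv]⟩
      intro p hp q hq
      obtain ⟨j, rfl⟩ := mem_zpowers_iff.1 hq
      rw [← conj_zpow]
      refine zpow_mem ?_ j
      rcases hdec p hp with h | ⟨i, rfl⟩
      · exact mul_mem (mul_mem h (mem_zpowers _)) (inv_mem h)
      · rw [show π a ^ i * π b * π a * (π a ^ i * π b)⁻¹ = π a ^ i * (π b * π a * (π b)⁻¹) * (π a ^ i)⁻¹ by group]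
        exact mul_mem (mul_mem (zpow_mem (mem_zpowers _) i) hb) (inv_mem (zpow_mem (mem_zpowers _) i))
    have hrel : A.relIndex (P : Subgroup (X ⧸ Z)) = 2 := by
      rw [relIndex, index_eq_two_iff]
      have hbP : π b ∈ (P : Subgroup (X ⧸ Z)) := (hPS _).2 b.2
      have hbA : π b ∉ A := fun h => hnc (by
        have : (P : Subgroup (X ⧸ Z)) = A := le_antisymm (fun p hp => by
          rcases hdec p hp with h' | ⟨i, rfl⟩
          · exact h'
          · exact mul_mem (zpow_mem (mem_zpowers _) i) h) hAP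
        rw [this]; infer_instance)
      have hbb : π b * π b ∈ A := by
        have e2 : (b : X) * b = (a : X) ^ e := congrArg Subtype.val F.sq
        exact mem_zpowers_iff.2 ⟨e, by rw [← map_zpow, ← e2, map_mul]⟩
      refine ⟨⟨π b, hbP⟩, fun q => ?_⟩
      simp only [mem_subgroupOf, Subgroup.coe_mul]
      by_cases hq : (q : X ⧸ Z) ∈ A
      · exact Or.inr ⟨hq, fun h => hbA (by simpa using mul_mem (inv_mem hq) h)⟩
      · refine Or.inl ⟨?_, hq⟩
        rcases hdec _ q.2 with h | ⟨i, hi⟩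
        · exact absurd h hq
        · rw [hi, mul_assoc]
          exact mul_mem (zpow_mem (mem_zpowers _) i) hbb
    obtain ⟨y₀, hy₀, hy₀Z⟩ := hy
    have hu : (π y₀) ^ 2 = 1 := by rw [pow_two, ← map_mul, invol_mul_self hy₀, map_one]
    obtain ⟨g, hg⟩ : ∃ g, g * π y₀ * g⁻¹ ∈ A := by
      by_contra hno
      push Not at hno
      obtain ⟨M, hM, hM2, -⟩ := CfsgLib.Fusion.thompson_transfer P hAP hrel hu hno
      exact index_ne_two hna hM hM2
    obtain ⟨g, rfl⟩ := hπ g
    rw [← map_inv, ← map_mul, ← map_mul] at hg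
    have hy'o : orderOf (g * y₀ * g⁻¹) = 2 := invol_conj hy₀ g
    have hy'Z : g * y₀ * g⁻¹ ∉ Z := fun h => hy₀Z (by
      have := ‹Z.Normal›.conj_mem _ h g⁻¹
      simpa [mul_assoc] using this)
    refine ⟨g * y₀ * g⁻¹, (hPS _).1 (hAP hg), hy'o, hy'Z, fun s hs => (hker _).1 ?_⟩
    have h1 : π s * π (g * y₀ * g⁻¹) * (π s)⁻¹ = π (g * y₀ * g⁻¹) := by
      refine CfsgLib.CycInter.cyclic_invol_unique inferInstance (hnorm _ ((hPS s).2 hs) _ hg) hg ?_ ?_ ?_ ?_
      · rw [show π s * π (g * y₀ * g⁻¹) * (π s)⁻¹ * (π s * π (g * y₀ * g⁻¹) * (π s)⁻¹) =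
          π s * π ((g * y₀ * g⁻¹) * (g * y₀ * g⁻¹)) * (π s)⁻¹ by rw [map_mul π (g * y₀ * g⁻¹)]; group,
          invol_mul_self hy'o, map_one, mul_one, mul_inv_cancel]
      · rw [← map_mul, invol_mul_self hy'o, map_one]
      · exact fun h => hy'Z ((hker _).1 (conj_eq_one_iff.1 h))
      · exact fun h => hy'Z ((hker _).1 h)
    rw [map_mul, map_mul, map_mul, map_inv, h1, ← map_mul, mul_inv_cancel, map_one]
  · push Not at hall
    obtain ⟨B, hBn, hBa, hBc⟩ := hall
    obtain ⟨U, hUn, hU4, hU2⟩ := exists_normal_four_of_abelian S.2 hBn hBa hBc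
    have hUne : U ≠ ⊥ := fun e => by rw [e, card_bot] at hU4; omega
    obtain ⟨t, htU, hto, htc⟩ := exists_fixed_of_normalized (p := 2) (P := (⊤ : Subgroup ↥(S : Subgroup X)))
      (S.2.to_subgroup ⊤) (S.2.to_subgroup U) hUne
      (le_of_le_of_eq le_top (normalizer_eq_top_iff.2 hUn).symm)
    have hfix : ∀ s : ↥(S : Subgroup X), s * t = t * s := fun s =>
      mem_centralizer_singleton_iff.1 (htc (mem_top s))
    have hto' : orderOf (t : X) = 2 := by rw [Subgroup.orderOf_coe, hto]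
    by_cases htz : (t : X) = z
    · obtain ⟨u, huU, hu⟩ : ∃ u ∈ U, (u : X) ≠ 1 ∧ (u : X) ≠ z := by
        by_contra hh
        push Not at hh
        have hle : U ≤ zpowers t := fun u hu => by
          by_cases h1 : (u : X) = 1
          · rw [show u = 1 from Subtype.ext h1]; exact one_mem _
          · rw [show u = t from Subtype.ext ((hh u hu h1).trans htz.symm)]; exact mem_zpowers t
        have := Nat.le_of_dvd (by rw [Nat.card_zpowers, hto]; norm_num) (card_dvd_of_le hle)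
        rw [hU4, Nat.card_zpowers, hto] at this
        omega
      have hu2 : orderOf (u : X) = 2 := invol_iff.2 ⟨by
        have := congrArg Subtype.val (hU2 u huU); rwa [pow_two] at this, hu.1⟩
      refine ⟨u, u.2, hu2, fun h => hu.2 (hZone _ h hu2), fun s hs => ?_⟩
      set v : ↥(S : Subgroup X) := ⟨s, hs⟩ * u * ⟨s, hs⟩⁻¹ * u⁻¹ with hv
      have hvU : v ∈ U := mul_mem (hUn.conj_mem u huU _) (inv_mem huU)
      show (v : X) ∈ Z
      by_contra hvZ
      -- three further involutions in a group of order four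
      have hvne : v ≠ 1 := fun e => hvZ (by rw [e]; exact one_mem Z)
      have hvz : v ≠ t := fun e => hvZ (by rw [e, htz]; exact hzZ)
      have hvu : v ≠ u := fun e => by
        have h1 : (⟨s, hs⟩ : ↥(S : Subgroup X)) * u * ⟨s, hs⟩⁻¹ = 1 := by
          have h2 : (⟨s, hs⟩ : ↥(S : Subgroup X)) * u * ⟨s, hs⟩⁻¹ = u * u := by
            calc _ = v * u := by rw [hv]; group
              _ = u * u := by rw [e]
          rw [h2, ← pow_two, hU2 u huU]
        exact hu.1 (congrArg Subtype.val (conj_eq_one_iff.1 h1))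
      have hvut : v ≠ u * t := fun e => by
        have h1 : (⟨s, hs⟩ : ↥(S : Subgroup X)) * u * ⟨s, hs⟩⁻¹ = t := by
          calc (⟨s, hs⟩ : ↥(S : Subgroup X)) * u * ⟨s, hs⟩⁻¹ = v * u := by rw [hv]; group
            _ = u * (u * t) := by rw [e, mul_assoc, ← hfix u]
            _ = t := by rw [← mul_assoc, ← pow_two, hU2 u huU, one_mul]
        refine hu.2 ?_
        have h2 : u = t := by
          calc u = (⟨s, hs⟩ : ↥(S : Subgroup X))⁻¹ * t * ⟨s, hs⟩ := by rw [← h1]; group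
            _ = t := by rw [mul_assoc, ← hfix ⟨s, hs⟩, inv_mul_cancel_left]
        rw [h2, htz]
      have h5 : ({1, t, u, u * t, v} : Set ↥(S : Subgroup X)) ⊆ (U : Set ↥(S : Subgroup X)) := by
        intro x hx
        simp only [Set.mem_insert_iff, Set.mem_singleton_iff] at hx
        rcases hx with rfl | rfl | rfl | rfl | rfl
        exacts [one_mem U, htU, huU, mul_mem huU htU, hvU]
      have hc := Set.ncard_le_ncard h5 (Set.toFinite _)
      have hut : u ≠ t := fun e => hu.2 (by rw [e, htz])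
      have hu1 : u ≠ 1 := fun e => hu.1 (by rw [e]; rfl)
      have ht1 : t ≠ 1 := fun e => by rw [e, orderOf_one] at hto; omega
      rw [← Nat.card_coe_set_eq (U : Set ↥(S : Subgroup X))] at hc
      change _ ≤ Nat.card U at hc
      rw [hU4, Set.ncard_insert_of_notMem, Set.ncard_insert_of_notMem, Set.ncard_insert_of_notMem,
        Set.ncard_insert_of_notMem, Set.ncard_singleton] at hc
      · omega
      · simpa using fun e : u * t = v => hvut e.symm
      · simp only [Set.mem_insert_iff, Set.mem_singleton_iff, not_or]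
        exact ⟨fun e => ht1 (mul_eq_left.1 e.symm), Ne.symm hvu⟩
      · simp only [Set.mem_insert_iff, Set.mem_singleton_iff, not_or]
        exact ⟨Ne.symm hut, fun e => hu1 (mul_eq_right.1 e.symm), Ne.symm hvz⟩
      · simp only [Set.mem_insert_iff, Set.mem_singleton_iff, not_or]
        refine ⟨Ne.symm ht1, Ne.symm hu1, fun e => hut ?_, Ne.symm hvne⟩
        calc u = u * (u * t) := by rw [← e, mul_one]
          _ = t := by rw [← mul_assoc, ← pow_two, hU2 u huU, one_mul]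
    · refine ⟨t, t.2, hto', fun h => htz (hZone _ h hto'), fun s hs => ?_⟩
      have h1 : s * (t : X) = t * s := congrArg Subtype.val (hfix ⟨s, hs⟩)
      rw [h1, mul_inv_cancel_right, mul_inv_cancel]
      exact one_mem Z

/-- The kernel carries every intersection, and the quotient is in Goldschmidt's list. -/
theorem strong (h : Hyp X) (Z : Subgroup X) [Z.Normal] (hZc : Z ≤ center X) (hZ2 : IsPGroup 2 Z) {z : X}
    (hzZ : z ∈ Z) (hz : orderOf z = 2) (hZone : ∀ a ∈ Z, orderOf a = 2 → a = z) [IsSimpleGroup (X ⧸ Z)]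
    (hna : ¬ IsMulCommutative (X ⧸ Z)) (hy : ∃ y : X, orderOf y = 2 ∧ y ∉ Z) :
    CfsgLib.Gold.Form (X ⧸ Z) ∧
      ∀ S T : Sylow 2 X, S ≠ T → (S : Subgroup X) ⊓ (T : Subgroup X) ≤ Z := by
  classical
  haveI : Fact (Nat.Prime 2) := ⟨Nat.prime_two⟩
  set π := QuotientGroup.mk' Z with hπdef
  have hπ := QuotientGroup.mk'_surjective Z
  have hker : ∀ x, π x = 1 ↔ x ∈ Z := fun x => QuotientGroup.eq_one_iff x
  obtain ⟨S₀⟩ := (inferInstance : Nonempty (Sylow 2 X))
  obtain ⟨y, hyS, hyo, hyZ, hyc⟩ := exists_central_lift Z hZc hZ2 hzZ hz hZone hna hy S₀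
  have hZS := fun T : Sylow 2 X => central_le_sylow hZc hZ2 T
  have hmem : ∀ (T : Sylow 2 X) (x : X), π x ∈ (T.mapSurjective hπ : Subgroup (X ⧸ Z)) ↔ x ∈ (T : Subgroup X) := by
    intro T x
    rw [Sylow.coe_mapSurjective]
    refine ⟨?_, fun h => mem_map_of_mem π h⟩
    rintro ⟨s, hs, e⟩
    have h1 : s⁻¹ * x ∈ (T : Subgroup X) := hZS T ((hker _).1 (by rw [map_mul, map_inv, e, inv_mul_cancel]))
    simpa using mul_mem hs h1
  have hlift : ∀ T' : Sylow 2 (X ⧸ Z), ∃ T : Sylow 2 X, T.mapSurjective hπ = T' := fun T' => by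
    obtain ⟨g, hg⟩ := MulAction.exists_smul_eq (X ⧸ Z) (S₀.mapSurjective hπ) T'
    obtain ⟨g, rfl⟩ := hπ g
    refine ⟨g • S₀, Sylow.ext ?_⟩
    rw [← hg, Sylow.coe_mapSurjective, Sylow.coe_subgroup_smul, Sylow.coe_subgroup_smul, Sylow.coe_mapSurjective]
    show ((S₀ : Subgroup X).map (MulAut.conj g).toMonoidHom).map π =
      ((S₀ : Subgroup X).map π).map (MulAut.conj (π g)).toMonoidHom
    rw [map_map, map_map]
    exact congrArg (fun f => (S₀ : Subgroup X).map f) (MonoidHom.ext fun x => by simp)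
  set P := S₀.mapSurjective hπ with hP
  set c := π y with hc
  have hyz : y ≠ z := fun e => hyZ (e ▸ hzZ)
  have hcyz : Commute y z := (mem_center_iff.1 (hZc hzZ) y)
  -- conjugates of the image lie in one Sylow subgroup
  have huniq : ∀ T' : Sylow 2 (X ⧸ Z), c ∈ (T' : Subgroup (X ⧸ Z)) → T' = P := by
    intro T' hcT
    obtain ⟨T, rfl⟩ := hlift T'
    rw [h.sylow_eq hyo hz hcyz hyz ((hmem T y).1 hcT) (hZS T hzZ) hyS (hZS S₀ hzZ)]
  have hc1 : c ≠ 1 := fun e => hyZ ((hker _).1 e)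
  have hcP : c ∈ (P : Subgroup (X ⧸ Z)) := (hmem S₀ y).2 hyS
  have hccP : ∀ p ∈ (P : Subgroup (X ⧸ Z)), p * c = c * p := fun p hp => by
    obtain ⟨s, rfl⟩ := hπ p
    have := (hker _).2 (hyc s ((hmem S₀ s).1 hp))
    rwa [map_mul, map_mul, map_mul, map_inv, map_inv, mul_inv_eq_one, mul_inv_eq_iff_eq_mul] at this
  have hcc : c * c = 1 := by rw [hc, ← map_mul, invol_mul_self hyo, map_one]
  -- the central involutions are strongly closed
  set A := CfsgLib.CentInt.zSub P with hA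
  have hAne : A ≠ ⊥ := fun e => hc1 (mem_bot.1 (e ▸ (⟨hcP, hcc, hccP⟩ : c ∈ A)))
  have hAc : IsMulCommutative A := ⟨⟨fun a b => Subtype.ext (b.2.2.2 a a.2.1)⟩⟩
  have hclosed : Cfsg.IsStronglyClosed A (P : Subgroup (X ⧸ Z)) := by
    refine ⟨CfsgLib.CentInt.zSub_le P, fun a ha g hg => ?_⟩
    set s := g * a * g⁻¹ with hs
    set C := centralizer ({s} : Set (X ⧸ Z)) with hC
    have hcC : c ∈ C := mem_centralizer_singleton_iff.2 (hccP s hg).symm
    have hWC : ((g • P : Sylow 2 (X ⧸ Z)) : Subgroup (X ⧸ Z)) ≤ C := by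
      intro w hw
      rw [Sylow.coe_subgroup_smul, mem_pointwise_smul_iff_inv_smul_mem, ← map_inv, MulAut.smul_def,
        MulAut.conj_apply, inv_inv] at hw
      refine mem_centralizer_singleton_iff.2 ?_
      calc w * s = g * ((g⁻¹ * w * g) * a) * g⁻¹ := by rw [hs]; group
        _ = g * (a * (g⁻¹ * w * g)) * g⁻¹ := by rw [ha.2.2 _ hw]
        _ = s * w := by rw [hs]; group
    have hcp : IsPGroup 2 (zpowers (⟨c, hcC⟩ : C)) :=
      IsPGroup.of_card (n := 1) (by
        rw [Nat.card_zpowers, Subgroup.orderOf_mk, pow_one]; exact invol_iff.2 ⟨hcc, hc1⟩)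
    obtain ⟨k, hk⟩ := exists_conj_le_sylow hcp ((g • P).subtype hWC)
    have h1 : ((k : X ⧸ Z)) * c * (k : X ⧸ Z)⁻¹ ∈ ((g • P : Sylow 2 (X ⧸ Z)) : Subgroup (X ⧸ Z)) :=
      hk _ (mem_zpowers _)
    have hU : c ∈ (((k : X ⧸ Z)⁻¹ • (g • P) : Sylow 2 (X ⧸ Z)) : Subgroup (X ⧸ Z)) := by
      rw [Sylow.coe_subgroup_smul, mem_pointwise_smul_iff_inv_smul_mem, ← map_inv, MulAut.smul_def,
        MulAut.conj_apply, inv_inv]
      exact h1
    refine ⟨hg, ?_, fun p hp => ?_⟩
    · rw [hs, show g * a * g⁻¹ * (g * a * g⁻¹) = g * (a * a) * g⁻¹ by group, ha.2.1, mul_one, mul_inv_cancel]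
    have hp' : p ∈ (((k : X ⧸ Z)⁻¹ • (g • P) : Sylow 2 (X ⧸ Z)) : Subgroup (X ⧸ Z)) := by
      rw [huniq _ hU]; exact hp
    rw [Sylow.coe_subgroup_smul, mem_pointwise_smul_iff_inv_smul_mem, ← map_inv, MulAut.smul_def,
      MulAut.conj_apply, inv_inv] at hp'
    have h2 := mem_centralizer_singleton_iff.1 (hWC hp')
    have h3 := mem_centralizer_singleton_iff.1 k.2
    calc p * s = (k : X ⧸ Z)⁻¹ * ((k : X ⧸ Z) * p * (k : X ⧸ Z)⁻¹ * ((k : X ⧸ Z) * s)) := by group
      _ = (k : X ⧸ Z)⁻¹ * ((k : X ⧸ Z) * p * (k : X ⧸ Z)⁻¹ * s) * k := by rw [h3]; group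
      _ = (k : X ⧸ Z)⁻¹ * s * (k : X ⧸ Z) * p := by rw [h2]; group
      _ = s * p := by rw [mul_assoc _ s, ← h3, inv_mul_cancel_left]
  have hform : CfsgLib.Gold.Form (X ⧸ Z) := by
    rcases CfsgLib.Gold.main (X ⧸ Z) P A hAne hAc hclosed with hab | ⟨H, hH⟩
    · exact Or.inl (CfsgLib.Walter.classified _ ‹_› hna (CfsgLib.Walter.abTwo_of_sylow P hab))
    · exact Or.inr (CfsgLib.Bender.Suzuki.isoFamilies_of_se CfsgLib.Bender.Suzuki.classified hH)
  refine ⟨hform, fun S T hne x hx => ?_⟩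
  by_contra hxZ
  obtain ⟨hxS, hxT⟩ := hx
  -- an involution of the quotient in both images
  obtain ⟨k, hk⟩ : ∃ k : ℕ, (π x) ^ 2 ^ k = 1 := by
    obtain ⟨j, hj⟩ := S.2 ⟨x, hxS⟩
    exact ⟨j, by rw [← map_pow, show x ^ 2 ^ j = 1 from congrArg Subtype.val hj, map_one]⟩
  have hex : ∃ j, (π x) ^ 2 ^ j = 1 := ⟨k, hk⟩
  obtain ⟨i, hi⟩ := Nat.exists_eq_succ_of_ne_zero (n := Nat.find hex) fun e => hxZ ((hker _).1 (by
    have := Nat.find_spec hex
    rwa [e, pow_zero, pow_one] at this))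
  set t := (π x) ^ 2 ^ i with ht
  have ht1 : t ≠ 1 := Nat.find_min hex (show i < Nat.find hex by omega)
  have htt : t * t = 1 := by
    rw [ht, ← pow_two, ← pow_mul, ← pow_succ]
    have := Nat.find_spec hex
    rwa [hi] at this
  set S' := S.mapSurjective hπ
  set T' := T.mapSurjective hπ
  have htS : t ∈ (S' : Subgroup (X ⧸ Z)) := pow_mem ((hmem S x).2 hxS) _
  have htT : t ∈ (T' : Subgroup (X ⧸ Z)) := pow_mem ((hmem T x).2 hxT) _
  obtain ⟨g, hg⟩ := MulAction.exists_smul_eq (X ⧸ Z) P S'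
  obtain ⟨-, -, m, -, htr⟩ := CfsgLib.Gold.RankOne.omega_facts ‹_› hform P
  have htP : g⁻¹ * t * g ∈ (P : Subgroup (X ⧸ Z)) := by
    rw [← hg, Sylow.coe_subgroup_smul, mem_pointwise_smul_iff_inv_smul_mem, ← map_inv, MulAut.smul_def,
      MulAut.conj_apply, inv_inv] at htS
    exact htS
  obtain ⟨i', hi'⟩ := htr c hcP hcc hc1 (g⁻¹ * t * g) htP
    (by rw [show g⁻¹ * t * g * (g⁻¹ * t * g) = g⁻¹ * (t * t) * g by group, htt, mul_one, inv_mul_cancel])
    (fun e => ht1 (by rw [show t = g * (g⁻¹ * t * g) * g⁻¹ by group, e, mul_one, mul_inv_cancel]))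
  set d := g * m ^ i' with hd
  have hdt : d * c * d⁻¹ = t := by
    calc d * c * d⁻¹ = g * (m ^ i' * c * (m ^ i')⁻¹) * g⁻¹ := by rw [hd]; group
      _ = t := by rw [hi']; group
  have hall : ∀ U : Sylow 2 (X ⧸ Z), t ∈ (U : Subgroup (X ⧸ Z)) → U = d • P := fun U hU => by
    have : d⁻¹ • U = P := huniq _ (by
      rw [Sylow.coe_subgroup_smul, mem_pointwise_smul_iff_inv_smul_mem, ← map_inv, MulAut.smul_def,
        MulAut.conj_apply, inv_inv, hdt]
      exact hU)
    rw [← this, smul_inv_smul]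
  refine hne (Sylow.ext (Subgroup.ext fun w => ?_))
  rw [← hmem S w, ← hmem T w]
  show π w ∈ (S' : Subgroup (X ⧸ Z)) ↔ π w ∈ (T' : Subgroup (X ⧸ Z))
  rw [hall S' htS, hall T' htT]

end CfsgLib.RankOneInter
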